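import Cfsg.Agent.Lib.Spor.AltNine.Model
import Cfsg.Agent.Lib.Solv.Special.Embed648

/-!
The coordinates on the normaliser of the three three-cycles.
-/

set_option autoImplicit false
set_option maxRecDepth 100000

namespace Cfsg.Agent.Spor.AltNine

open Equiv Subgroup
open Cfsg.Agent.Solv.Special Cfsg.Agent.Solv.Special.W648

/-- a permutation of three points as an element of the dihedral group -/
def toD (s : Perm (Fin 3)) : D3 := if Perm.sign s = 1 then .r (s 0) else .sr (-(s 0) : ZMod 3)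

def back (x y z π : Perm (Fin 3)) : M648 :=
  mkM (perm (toD π) (toD x, toD y, toD z)) (toD π)

theorem back_pt : ∀ x y z π : Perm (Fin 3), Perm.sign x * Perm.sign y * Perm.sign z * Perm.sign π = 1 →
    ∀ b k : Fin 3, emb9 (back x y z π) (pt b k) = pt (π b) ((![x, y, z]) b k) := by
  decide +kernel

theorem sign_gen : ∀ s : Perm (Fin 3), Perm.sign (hel s 1 1 1) = Perm.sign s ∧ Perm.sign (hel 1 s 1 1) = Perm.sign s ∧
    Perm.sign (hel 1 1 s 1) = Perm.sign s ∧ Perm.sign (hel 1 1 1 s) = Perm.sign s := by decide +kernel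

theorem sign_hel (x y z π : Perm (Fin 3)) :
    Perm.sign (hel x y z π) = Perm.sign x * Perm.sign y * Perm.sign z * Perm.sign π := by
  rw [hel_split, map_mul, map_mul, map_mul, (sign_gen x).1, (sign_gen y).2.1, (sign_gen z).2.2.1, (sign_gen π).2.2.2]
  rw [mul_comm (Perm.sign π), ← mul_assoc]

theorem gens_hel : (∃ x y z π, emb9 gA = hel x y z π) ∧ (∃ x y z π, emb9 gB = hel x y z π) ∧
    (∃ x y z π, emb9 gC = hel x y z π) ∧ (∃ x y z π, emb9 gD = hel x y z π) := by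
  refine ⟨⟨c012 0 1 2, 1, 1, 1, ?_⟩, ⟨1, 1, 1, c012 0 1 2, ?_⟩, ⟨swap 0 1, swap 0 1, 1, 1, ?_⟩,
    ⟨1, 1, swap 0 1, swap 0 1, ?_⟩⟩ <;> decide +kernel

theorem gens_sign : Perm.sign (emb9 gA) = 1 ∧ Perm.sign (emb9 gB) = 1 ∧ Perm.sign (emb9 gC) = 1 ∧
    Perm.sign (emb9 gD) = 1 := by decide +kernel

theorem range_emb9 : emb9.range = HH := by
  refine le_antisymm ?_ ?_
  · rw [MonoidHom.range_eq_map, ← closure_eq, MonoidHom.map_closure, closure_le]
    obtain ⟨h1, h2, h3, h4⟩ := gens_hel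
    obtain ⟨s1, s2, s3, s4⟩ := gens_sign
    rintro _ ⟨g, hg, rfl⟩
    simp only [Set.mem_insert_iff, Set.mem_singleton_iff] at hg
    rcases hg with rfl | rfl | rfl | rfl
    exacts [mem_HH.2 ⟨s1, h1⟩, mem_HH.2 ⟨s2, h2⟩, mem_HH.2 ⟨s3, h3⟩, mem_HH.2 ⟨s4, h4⟩]
  · intro p hp
    obtain ⟨hs, x, y, z, π, rfl⟩ := mem_HH.1 hp
    rw [sign_hel] at hs
    refine ⟨back x y z π, Equiv.ext fun i => ?_⟩
    rw [← pt_blk i, back_pt x y z π hs, hel_pt]

/-- the coordinates -/
noncomputable def eM : M648 ≃* HH :=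
  (MonoidHom.ofInjective emb9_inj).trans (MulEquiv.subgroupCongr range_emb9)

theorem eM_coe (m : M648) : ((eM m : HH) : P9) = emb9 m := rfl

end Cfsg.Agent.Spor.AltNine
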