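import Cfsg.Agent.Lib.Spor.AltNine.UCent

/-!
The trace of the centraliser of the four-group is not of the symmetric type of degree four.
-/

set_option autoImplicit false
set_option maxRecDepth 100000
set_option linter.style.haveILetI false

namespace Cfsg.Agent.Spor.AltNine

open Equiv Subgroup Cfsg
open Cfsg.Agent.Solv.Special.W648

namespace Big

variable {G : Type*} [Group G] [Finite G] {d : Data G} (B : Big d)

include B

theorem s_fixes {v : A6} (hv : v ∈ B.KU) (hv0 : v = v0A) : Commute (B.Φ sA) (B.ψ v) := by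
  subst hv0
  obtain ⟨v1, -, v2, v3, v4, v5, huniq⟩ := v0_facts
  obtain ⟨hss, hu1s, hsu2, hsu1, -⟩ := s_facts
  have H := B.four_hyp_U
  set s := B.Φ sA
  set a := d.φ jA with ha
  set x := B.ψ v0A with hx
  set c := fun g : G => s * g * s⁻¹ with hc
  have cmul : ∀ g h, c (g * h) = c g * c h := fun g h => by simp only [hc]; group
  have hsi : s⁻¹ = s := inv_eq_of_mul_eq_one_right (by rw [← map_mul, hss, map_one])
  have cfix : ∀ {g}, Commute s g → c g = g := fun {g} h => by simp only [hc]; rw [h.eq, mul_inv_cancel_right]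
  have ca : c a = a := cfix (B.comm sA)
  have ct : c (d.φ mTau) = d.φ mTau := cfix (B.tau_comm d8_facts.2.2.1).symm
  have hcu : c (B.Φ u1A) = B.Φ u1A := by simp only [hc, s]; rw [← map_inv, ← map_mul, ← map_mul, hsu1]
  have hcv : c (B.Φ (u1A * u2A)) = B.Φ u2A := by
    simp only [hc, s]; rw [← map_inv, ← map_mul, ← map_mul]
    refine congrArg B.Φ ?_
    calc sA * (u1A * u2A) * sA⁻¹ = sA * (sA * u2A * sA⁻¹) * sA⁻¹ := by rw [hsu2]
      _ = sA * sA * u2A * (sA * sA)⁻¹ := by group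
      _ = u2A := by rw [hss]; group
  have hxC : x ∈ B.CU := hv
  have hcxC : c x ∈ B.CU := by
    obtain ⟨h1, h2⟩ := mem_cent_pair.1 hxC
    refine mem_cent_pair.2 ⟨?_, ?_⟩
    · rw [← hcu, ← cmul, ← cmul, h1]
    · rw [← hcv, ← cmul, ← cmul, map_mul]
      refine congrArg c ?_
      rw [← mul_assoc, h1, mul_assoc, h2, ← mul_assoc]
  obtain ⟨e, he, y, hy, hey⟩ := B.CU_form hcxC
  have hyC : B.ψ y ∈ B.CU := hy
  have hea : e * a = a * e := H.pair_comm he H.a_mem
  have het : e * d.φ mTau = d.φ mTau * e := H.pair_comm he B.tau_mem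
  have hee : e * e = 1 := H.pair_sq he
  have hey' : e * B.ψ y = B.ψ y * e := H.pair_comm he hyC
  have hy2 : y * y = 1 := B.ψ_inj (by
    rw [map_mul, map_one]
    have h1 : c x * c x = 1 := by
      rw [← cmul, hx, ← map_mul, v1, map_one]; simp [hc]
    rw [hey] at h1
    calc B.ψ y * B.ψ y = e * e * (B.ψ y * B.ψ y) := by rw [hee, one_mul]
      _ = e * (e * B.ψ y) * B.ψ y := by group
      _ = e * (B.ψ y * e) * B.ψ y := by rw [hey']
      _ = e * B.ψ y * (e * B.ψ y) := by group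
      _ = 1 := h1)
  have hyt : y * stdGen 6 (2 : Fin 4) = stdGen 6 (2 : Fin 4) * y := B.ψ_inj (by
    rw [map_mul, map_mul, B.ψ_gen2]
    have h1 : c x * d.φ mTau = d.φ mTau * c x := by
      rw [← ct, ← cmul, ← cmul, hx, ← B.ψ_gen2, ← map_mul, ← map_mul, v2]
    rw [hey, mul_assoc, ← mul_assoc (d.φ mTau), ← het, mul_assoc] at h1
    exact mul_left_cancel h1)
  set x' := B.ψ (stdGen 6 (0 : Fin 4) * v0A * (stdGen 6 (0 : Fin 4))⁻¹) with hx'
  set y' := B.ψ (stdGen 6 (0 : Fin 4) * y * (stdGen 6 (0 : Fin 4))⁻¹) with hy'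
  have hy'C : y' ∈ B.CU :=
    B.mem_KU.1 (B.KU.mul_mem (B.KU.mul_mem B.gen0_mem hy) (B.KU.inv_mem B.gen0_mem))
  have hcx' : c x' = e * y' := by
    rw [hx', map_mul, map_mul, map_inv, B.ψ_gen0, cmul, cmul, ← hx, hey, hy', map_mul, map_mul, map_inv,
      B.ψ_gen0, ← ha]
    have : c a⁻¹ = a⁻¹ := cfix ((B.comm sA).inv_right)
    rw [this, ca]
    calc a * (e * B.ψ y) * a⁻¹ = a * e * B.ψ y * a⁻¹ := by group
      _ = _ := by rw [← hea]; group
  have hprod : ∀ {p q : G}, p ∈ B.CU → e * p * (e * q) = p * q := fun {p q} hp => by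
    calc e * p * (e * q) = e * (p * e) * q := by group
      _ = e * e * (p * q) := by rw [← H.pair_comm he hp]; group
      _ = p * q := by rw [hee, one_mul]
  have hyy : y * (stdGen 6 (0 : Fin 4) * y * (stdGen 6 (0 : Fin 4))⁻¹) =
      stdGen 6 (0 : Fin 4) * y * (stdGen 6 (0 : Fin 4))⁻¹ * y := B.ψ_inj (by
    rw [map_mul B.ψ y, map_mul B.ψ _ y, ← hy']
    have h1 : c x * c x' = c x' * c x := by
      rw [← cmul, ← cmul, hx, hx', ← map_mul, v4, map_mul]
    rwa [hey, hcx', hprod hyC, hprod hy'C] at h1)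
  have hy1 : y ≠ 1 := by
    rintro rfl
    rw [map_one, mul_one] at hey
    refine v3 (B.ψ_inj ?_)
    rw [map_mul, map_mul, B.ψ_gen0, ← hx, ← ha]
    have h1 : c x * c a = c a * c x := by rw [ca, hey]; exact hea
    rw [← cmul, ← cmul] at h1
    simp only [hc] at h1
    exact mul_left_cancel (mul_right_cancel h1)
  obtain rfl := huniq y hy2 hy1 hyt hyy
  rw [← hx] at hey
  rw [← hx'] at hy'
  suffices he1 : e = 1 by
    rw [he1, one_mul] at hey
    show s * x = x * s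
    simp only [hc] at hey
    calc s * x = s * x * s⁻¹ * s := by group
      _ = x * s := by rw [hey]
  have h5 : a * a * x * (a * a)⁻¹ = x * x' := by
    rw [hx, hx', ha, ← B.ψ_gen0, ← map_mul, ← map_inv, ← map_mul, ← map_mul, v5, map_mul B.ψ v0A]
  have h6 := congrArg c h5
  rw [cmul, cmul, cmul, cmul, cfix (((B.comm sA).mul_right (B.comm sA)).inv_right), ca, hey, hcx', hy',
    hprod hxC] at h6
  have haa : Commute e (a * a) := (show Commute e a from hea).mul_right hea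
  rw [← mul_assoc (a * a) e, ← haa.eq, mul_assoc e (a * a), mul_assoc e, h5] at h6
  simpa using h6

/-- the elements commuting with a conjugate of an element of the abelian group -/
theorem pull {j : M648} (hj : rot j) (hj1 : j ≠ 1) (hw : centCard j ≠ 108) {k g : G}
    (h : Commute g (k * d.φ j * k⁻¹)) : ∃ m, m * j = j * m ∧ g = k * d.φ m * k⁻¹ := by
  have h1 : Commute (k⁻¹ * g * k) (d.φ j) := by
    have := h.map (MulAut.conj k⁻¹).toMonoidHom
    simp only [MulEquiv.coe_toMonoidHom, MulAut.conj_apply, inv_inv] at this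
    rwa [show k⁻¹ * (k * d.φ j * k⁻¹) * k = d.φ j by group] at this
  obtain ⟨m, hm⟩ := d.cent_range hj hj1 hw h1
  exact ⟨m, d.comm_iff.1 (by rw [hm]; exact h1), by rw [hm]; group⟩

theorem pull_pow {j : M648} {n : ℕ} (hn : ∀ m : M648, m * j = j * m → m ^ n = 1) (hj : rot j) (hj1 : j ≠ 1)
    (hw : centCard j ≠ 108) {k g : G} (h : Commute g (k * d.φ j * k⁻¹)) : g ^ n = 1 := by
  obtain ⟨m, hm, rfl⟩ := B.pull hj hj1 hw h
  rw [conj_pow, ← map_pow, hn m hm, map_one, mul_one, mul_inv_cancel]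

theorem four_hyp_S (k : A6) (hk : k * (stdGen 6 (0 : Fin 4) * xE3) * k⁻¹ = fB) :
    FourHyp (B.Φ u1A) (B.Φ sA) (d.φ jA) (B.Φ fB) ∧ B.Φ fB = B.Φ k * d.φ jB23 * (B.Φ k)⁻¹ := by
  obtain ⟨hss, hu1s, -, -, hall, hfu, hfs, ⟨hf3, hf1⟩, -⟩ := s_facts
  obtain ⟨-, -, -, -, -, -, r1, r2, r3, r4, r5, r6⟩ := mix_facts
  have hf : B.Φ fB = B.Φ k * d.φ jB23 * (B.Φ k)⁻¹ := by
    rw [B.phi_B23, ← map_inv, ← map_mul, ← map_mul, hk]
  have hP : ∀ j : M648, d.φ jA * (B.Φ k * d.φ j * (B.Φ k)⁻¹) = B.Φ k * d.φ (jA * j) * (B.Φ k)⁻¹ := fun j => by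
    rw [map_mul, ← mul_assoc, ← mul_assoc, ← (B.comm k).eq]; group
  refine ⟨⟨?_, ?_, ?_, ?_, ?_, ?_, ?_, ?_, ?_, ?_, ?_, ?_, ?_, ?_, ?_, ?_⟩, hf⟩
  · rw [← map_mul, u_facts.1, map_one]
  · rw [← map_mul, hss, map_one]
  · rw [← map_mul, ← map_mul, hu1s]
  · exact B.four_hyp_U.a3
  · exact B.four_hyp_U.a1
  · exact (B.comm _).eq.symm
  · exact (B.comm _).eq.symm
  · rw [← map_pow, hf3, map_one]
  · exact fun h => hf1 (B.inj (by rw [h, map_one]))
  · exact (B.comm _).eq.symm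
  · exact fun i h => hf1 (B.center_triv h.symm).1
  · rw [← map_inv, ← map_mul, ← map_mul]; exact B.six_mem_closure hfu
  · rw [← map_inv, ← map_mul, ← map_mul]; exact B.six_mem_closure hfs
  · exact fun x hx hxa => B.fix_cent hall hx hxa
  · intro x hx hc hco
    have h9 : x ^ 9 = 1 := by
      rcases hc with hc | hc
      · rw [hf, hP] at hc
        exact B.pull_pow (fun m hm => cent_PQ m (Or.inl hm)) r1 r2 r3 hc
      · rw [hf, show B.Φ k * d.φ jB23 * (B.Φ k)⁻¹ * (B.Φ k * d.φ jB23 * (B.Φ k)⁻¹) =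
          B.Φ k * d.φ (jB23 * jB23) * (B.Φ k)⁻¹ by rw [map_mul]; group, hP] at hc
        exact B.pull_pow (fun m hm => cent_PQ m (Or.inr hm)) r4 r5 r6 hc
    exact eq_one_pow (pow_orderOf_eq_one x) h9 ((hco.pow_right 2).gcd_eq_one)
  · intro x hx h7
    rw [hf] at hx
    exact eq_one_pow h7 (B.pull_pow cent_B23 inv_facts.2.2.1 inv_facts.2.2.2.1
      (by rw [inv_facts.2.2.2.2.1]; norm_num) hx) (by norm_num)

theorem not_v0 : v0A ∉ B.KU := by
  intro hv
  obtain ⟨v1, v0ne, -, v3, v4, v5, -⟩ := v0_facts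
  obtain ⟨k, hk⟩ := s_facts.2.2.2.2.2.2.2.2
  obtain ⟨H, hf⟩ := B.four_hyp_S k hk
  obtain ⟨-, -, hrot, hb1, hb54, -⟩ := inv_facts
  set C' : Subgroup G := centralizer ({B.Φ u1A, B.Φ sA} : Set G) with hC'
  obtain ⟨N, hN, hco, -, hform, hq⟩ : ∃ (N : Subgroup C') (_ : N.Normal), _ := H.structure_cases
  haveI : N.Normal := hN
  have h18 : ∀ g : G, Commute g (B.Φ fB) → g ^ 18 = 1 := fun g hg => by
    rw [hf] at hg; exact B.pull_pow cent_B23 hrot hb1 (by omega) hg
  rcases hq with hq | ⟨-, -, q, hqf, hq5, hq1⟩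
  swap
  · exact hq1 (Subtype.ext (eq_one_pow (congrArg Subtype.val hq5) (h18 q hqf) (by norm_num)))
  have hxC : B.ψ v0A ∈ C' := mem_cent_pair.2 ⟨(mem_cent_pair.1 hv).1, (B.s_fixes hv rfl).eq.symm⟩
  let xv : C' := ⟨_, hxC⟩
  let xa : C' := ⟨d.φ jA, H.a_mem⟩
  let xw : C' := xa * xv * xa⁻¹
  have ewv : (xw : G) = B.ψ (stdGen 6 (0 : Fin 4) * v0A * (stdGen 6 (0 : Fin 4))⁻¹) := by
    rw [map_mul, map_mul, map_inv, B.ψ_gen0]; rfl
  have e1 : xv * xv = 1 := Subtype.ext (by show B.ψ v0A * B.ψ v0A = 1; rw [← map_mul, v1, map_one])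
  have e2 : xv * xw = xw * xv := Subtype.ext (by
    show B.ψ v0A * (xw : G) = (xw : G) * B.ψ v0A
    rw [ewv, ← map_mul, ← map_mul, v4])
  have e3 : xa * xw * xa⁻¹ = xv * xw := Subtype.ext (by
    show d.φ jA * (xw : G) * (d.φ jA)⁻¹ = B.ψ v0A * (xw : G)
    rw [ewv]
    rw [← B.ψ_gen0, ← map_inv, ← map_mul, ← map_mul, ← map_mul, ← v5]
    exact congrArg B.ψ (by group))
  -- the two involutions fall into the kernel
  have hin : xv ∈ N ∧ xw ∈ N := by
    set q : C' ⧸ N := QuotientGroup.mk xv with hqdef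
    set r : C' ⧸ N := QuotientGroup.mk xw with hrdef
    set t : C' ⧸ N := QuotientGroup.mk xa
    have hr' : r = t * q * t⁻¹ := by simp only [hrdef, xw, t, hqdef, QuotientGroup.mk_mul, QuotientGroup.mk_inv]
    have hqq : q * q = 1 := by rw [hqdef, ← QuotientGroup.mk_mul, e1, QuotientGroup.mk_one]
    have hrr : r * r = 1 := by
      rw [hr']; calc t * q * t⁻¹ * (t * q * t⁻¹) = t * (q * q) * t⁻¹ := by group
        _ = 1 := by rw [hqq]; group
    have hqr : q * r = r * q := by rw [hqdef, hrdef, ← QuotientGroup.mk_mul, e2, QuotientGroup.mk_mul]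
    have hrt : t * r * t⁻¹ = q * r := by
      simp only [hrdef, t, hqdef]; rw [← QuotientGroup.mk_inv, ← QuotientGroup.mk_mul, ← QuotientGroup.mk_mul,
        ← QuotientGroup.mk_mul, e3]
    set W := closure ({q, r} : Set (C' ⧸ N))
    have hWsq : ∀ w : W, w * w = 1 := fun w => Subtype.ext (by
      show (w : C' ⧸ N) * w = 1
      rcases Top.pair_mem hqq hrr hqr w.2 with h | h | h | h <;> rw [h]
      · exact one_mul 1
      · exact hqq
      · exact hrr
      · calc q * r * (q * r) = q * (r * q) * r := by group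
          _ = q * q * (r * r) := by rw [← hqr]; group
          _ = 1 := by rw [hqq, hrr, one_mul])
    haveI : Fact (Nat.Prime 2) := ⟨Nat.prime_two⟩
    obtain ⟨n, hn⟩ := IsPGroup.iff_card.1 (show IsPGroup 2 W from fun w => ⟨1, by rw [pow_one, pow_two, hWsq]⟩)
    have h6 : 2 ^ n ∣ 6 := hn ▸ (card_subgroup_dvd_card W).trans (by
      rcases Top.small_card hq with h | h <;> rw [h]; norm_num)
    have hn2 : n ≤ 1 := by
      by_contra h
      have := (pow_dvd_pow 2 (show 2 ≤ n by omega)).trans h6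
      norm_num at this
    have hcard : Nat.card W ≤ 2 := by rw [hn]; calc 2 ^ n ≤ 2 ^ 1 := Nat.pow_le_pow_right (by norm_num) hn2
      _ = 2 := rfl
    have hq1 : q = 1 := by
      by_contra hne
      have hr1 : r ≠ 1 := fun h => hne (by
        rw [h] at hr'
        calc q = t⁻¹ * (t * q * t⁻¹) * t := by group
          _ = 1 := by rw [← hr']; group)
      have hqr' : q ≠ r := fun h => hne (by
        rw [← h] at hrt hr'
        rw [← hr'] at hrt
        rw [← mul_left_cancel_iff (a := q), ← hrt, mul_one])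
      have hqW : q ∈ W := subset_closure (Set.mem_insert _ _)
      have hrW : r ∈ W := subset_closure (Set.mem_insert_of_mem _ rfl)
      have h3 : (({1, q, r} : Set (C' ⧸ N))).ncard = 3 :=
        Set.ncard_eq_three.2 ⟨1, q, r, Ne.symm hne, Ne.symm hr1, hqr', rfl⟩
      have h4 : (({1, q, r} : Set (C' ⧸ N))).ncard ≤ Nat.card W := by
        rw [show Nat.card W = (W : Set (C' ⧸ N)).ncard from Nat.card_coe_set_eq _]
        · refine Set.ncard_le_ncard ?_ (Set.toFinite _)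
          rintro z (rfl | rfl | rfl)
          exacts [one_mem _, hqW, hrW]
      omega
    refine ⟨(QuotientGroup.eq_one_iff xv).1 hq1, (QuotientGroup.eq_one_iff xw).1 ?_⟩
    show r = 1
    rw [hr', hq1]; group
  -- but the kernel is too small for them
  obtain ⟨d1, hd1, l1, hl1, hl1f, hv1⟩ := hform xv hin.1
  obtain ⟨d2, hd2, l2, hl2, hl2f, hv2⟩ := hform xw hin.2
  have hsq : ∀ l : C', l ∈ N → Commute (l : G) (B.Φ fB) → (l : G) * l = 1 := fun l hl hlf => by
    refine sq_of_coprime ?_ (h18 _ hlf)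
    rw [Subgroup.orderOf_coe, ← Subgroup.orderOf_mk l hl]
    exact hco.coprime_dvd_left (orderOf_dvd_natCard _)
  have hf' : Commute ((l1 * l2 : C') : G) (B.Φ fB) := by
    rw [Subgroup.coe_mul]; exact hl1f.mul_left hl2f
  have hout : ∀ {z : A6}, z * stdGen 6 (0 : Fin 4) ≠ stdGen 6 (0 : Fin 4) * z →
      B.ψ z ∉ closure ({B.Φ u1A, B.Φ sA} : Set G) := fun {z} hz hmem => hz (B.ψ_inj (by
    rw [map_mul, map_mul, B.ψ_gen0]
    exact H.pair_comm hmem H.a_mem))
  have c1 : (l1 : G) ≠ 1 := fun h => hout v3 (by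
    show B.ψ v0A ∈ _
    rw [show B.ψ v0A = d1 by rw [← mul_one d1, ← h]; exact hv1]
    exact hd1)
  have hw3 : stdGen 6 (0 : Fin 4) * v0A * (stdGen 6 (0 : Fin 4))⁻¹ * stdGen 6 (0 : Fin 4) ≠
      stdGen 6 (0 : Fin 4) * (stdGen 6 (0 : Fin 4) * v0A * (stdGen 6 (0 : Fin 4))⁻¹) := fun h => v3 (by
    rw [inv_mul_cancel_right] at h
    calc v0A * stdGen 6 (0 : Fin 4)
        = stdGen 6 (0 : Fin 4) * v0A * (stdGen 6 (0 : Fin 4))⁻¹ * stdGen 6 (0 : Fin 4) := by rw [← mul_left_cancel h]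
      _ = stdGen 6 (0 : Fin 4) * v0A := inv_mul_cancel_right _ _)
  have c2 : (l2 : G) ≠ 1 := fun h => hout hw3 (by
    rw [← ewv, hv2, h, mul_one]; exact hd2)
  have c12 : (l1 : G) ≠ l2 := fun h => by
    have hh : (xa : G) * xw * (xa : G)⁻¹ ∈ closure ({B.Φ u1A, B.Φ sA} : Set G) := by
      have := congrArg Subtype.val e3
      simp only [Subgroup.coe_mul, InvMemClass.coe_inv] at this
      rw [this, hv1, hv2, ← h,
        show d1 * (l1 : G) * (d2 * l1) = d1 * ((l1 : G) * d2) * l1 by group, ← H.pair_comm hd2 l1.2,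
        show d1 * (d2 * (l1 : G)) * l1 = d1 * d2 * ((l1 : G) * l1) by group, hsq l1 hl1 hl1f, mul_one]
      exact mul_mem hd1 hd2
    have hcomm := H.pair_comm hh H.a_mem
    exact hout hw3 (by
      rw [← ewv]
      rw [show (xa : G) = d.φ jA from rfl] at hh hcomm
      have e : d.φ jA * xw * (d.φ jA)⁻¹ = xw := mul_left_cancel (hcomm.symm.trans (by group))
      rwa [e] at hh)
  obtain ⟨m1, hm1, hl1e⟩ := B.pull hrot hb1 (by omega) (hf ▸ hl1f)
  obtain ⟨m2, hm2, hl2e⟩ := B.pull hrot hb1 (by omega) (hf ▸ hl2f)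
  have inj' : ∀ {m : M648}, B.Φ k * d.φ m * (B.Φ k)⁻¹ = 1 → m = 1 := fun h => d.inj (by
    rw [map_one]; exact (MulAut.conj (B.Φ k)).injective (h.trans (map_one _).symm))
  have s1 := hsq l1 hl1 hl1f
  have s2 := hsq l2 hl2 hl2f
  have s12 := hsq _ (mul_mem hl1 hl2) hf'
  rw [Subgroup.coe_mul] at s12
  rw [hl1e, hl2e] at s12 c12
  rw [hl1e] at s1 c1
  rw [hl2e] at s2 c2
  rcases cent_B23_pair m1 hm1 (inj' (by rw [map_mul]; rw [← s1]; group)) m2 hm2
      (inj' (by rw [map_mul]; rw [← s2]; group))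
      (inj' (by simp only [map_mul]; rw [← s12]; group)) with h | h | h
  · exact c1 (by rw [h, map_one]; group)
  · exact c2 (by rw [h, map_one]; group)
  · exact c12 (by rw [h])

end Big

end Cfsg.Agent.Spor.AltNine
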