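import Cfsg.Agent.Lib.Spor.AltNine.CaseFour
import Mathlib.GroupTheory.IndexNormal

/-!
The trace of the centraliser of the four-group is larger than the symmetric group of degree three, so one more
involution centralises the four-group.
-/

set_option autoImplicit false
set_option maxRecDepth 100000
set_option synthInstance.maxSize 8000
set_option linter.style.haveILetI false

namespace Cfsg.Agent.Spor.AltNine

open Equiv Subgroup Cfsg
open Cfsg.Agent.Solv.Special.W648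

theorem d8_action : ∀ x : A6, oddConj x = x → x * u1A = u1A * x →
    x ^ 4 = 1 ∧ x * u2A * x⁻¹ ∈ [u1A, u2A, u1A * u2A] := by
  decide +kernel

/-- a homomorphism to the permutations of the nontrivial elements -/
def autPerm (F : Type*) [Group F] : MulAut F →* Perm {x : F // x ≠ 1} where
  toFun e := Equiv.Perm.subtypePerm e.toEquiv fun x => by simp
  map_one' := Equiv.ext fun _ => rfl
  map_mul' _ _ := Equiv.ext fun _ => rfl

theorem autPerm_inj (F : Type*) [Group F] : Function.Injective (autPerm F) := by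
  intro e e' h
  ext x
  rcases eq_or_ne x 1 with rfl | hx
  · rw [map_one, map_one]
  · exact congrArg Subtype.val (congrArg (fun p : Perm {x : F // x ≠ 1} => p ⟨x, hx⟩) h)

theorem norm_pair {G : Type*} [Group G] [Finite G] {u v g : G} (h1 : g * u * g⁻¹ ∈ closure ({u, v} : Set G))
    (h2 : g * v * g⁻¹ ∈ closure ({u, v} : Set G)) : g ∈ normalizer ((closure ({u, v} : Set G)) : Set G) := by
  have hle : (closure ({u, v} : Set G)).map (MulAut.conj g).toMonoidHom ≤ closure ({u, v} : Set G) := by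
    rw [MonoidHom.map_closure, closure_le]
    rintro _ ⟨y, rfl | rfl, rfl⟩
    exacts [h1, h2]
  exact mem_normalizer_iff_map_conj_eq.2 (eq_of_le_of_card_ge hle
    (le_of_eq (card_map_of_injective (f := (MulAut.conj g).toMonoidHom) (MulAut.conj g).injective).symm))

namespace Big

variable {G : Type*} [Group G] [Finite G] {d : Data G} (B : Big d)

/-- a group of order sixteen -/
def T0 : Subgroup G where
  carrier := {g | ∃ x ∈ D8, g = B.Φ x ∨ g = d.φ mTau * B.Φ x}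
  one_mem' := ⟨1, one_mem _, Or.inl (map_one _).symm⟩
  mul_mem' := by
    rintro _ _ ⟨x, hx, rfl | rfl⟩ ⟨y, hy, rfl | rfl⟩
    · exact ⟨x * y, mul_mem hx hy, Or.inl (map_mul _ _ _).symm⟩
    · refine ⟨x * y, mul_mem hx hy, Or.inr ?_⟩
      rw [map_mul, ← mul_assoc, ← mul_assoc, (B.tau_comm hx.1).eq]
    · exact ⟨x * y, mul_mem hx hy, Or.inr (by rw [map_mul, mul_assoc])⟩
    · exact ⟨x * y, mul_mem hx hy, Or.inl (by rw [B.tau_mul, hx.1])⟩
  inv_mem' := by
    rintro _ ⟨x, hx, rfl | rfl⟩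
    · exact ⟨x⁻¹, inv_mem hx, Or.inl (map_inv _ _).symm⟩
    · refine ⟨x⁻¹, inv_mem hx, Or.inr ?_⟩
      rw [mul_inv_rev, B.tau_inv, map_inv, (B.tau_comm hx.1).inv_right.eq]

include B

theorem tau_ne (x : A6) : d.φ mTau ≠ B.Φ x := fun h => inv_facts.2.2.2.2.2.2.2.2.1 (d.comm_iff.1 (by
  rw [h]; exact B.comm x))

theorem phi_mem_T0 {x : A6} (hx : x ∈ D8) : B.Φ x ∈ B.T0 := ⟨x, hx, Or.inl rfl⟩
theorem tau_mem_T0 : d.φ mTau ∈ B.T0 := ⟨1, one_mem _, Or.inr (by rw [map_one, mul_one])⟩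

theorem u_mem_D8 : u1A ∈ D8 ∧ u2A ∈ D8 ∧ sA ∈ D8 :=
  ⟨⟨d8_facts.1, rfl⟩, ⟨d8_facts.2.1, d8_facts.2.2.2.1⟩, ⟨d8_facts.2.2.1, d8_facts.2.2.2.2.1⟩⟩

theorem T0_card : 16 ≤ Nat.card B.T0 := by
  let f : D8 × Bool → B.T0 := fun p =>
    bif p.2 then ⟨d.φ mTau * B.Φ p.1, p.1, p.1.2, Or.inr rfl⟩ else ⟨B.Φ p.1, p.1, p.1.2, Or.inl rfl⟩
  have hne : ∀ x y : D8, d.φ mTau * B.Φ x ≠ B.Φ y := fun x y h => B.tau_ne (y * (x : A6)⁻¹) (by
    rw [map_mul, ← h, map_inv, mul_inv_cancel_right])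
  have hf : Function.Injective f := by
    rintro ⟨x, _ | _⟩ ⟨y, _ | _⟩ h <;> have h' := congrArg Subtype.val h <;>
      simp only [f, cond_true, cond_false] at h'
    · rw [Subtype.ext (B.inj h')]
    · exact absurd h'.symm (hne y x)
    · exact absurd h' (hne x y)
    · rw [Subtype.ext (B.inj (mul_left_cancel h'))]
  have h2 := Nat.card_le_card_of_injective f hf
  rw [Nat.card_prod, Nat.card_eq_fintype_card (α := Bool), Fintype.card_bool] at h2
  have := d8_card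
  omega

theorem T0_pgroup : IsPGroup 2 B.T0 := by
  rintro ⟨_, x, hx, rfl | rfl⟩ <;> refine ⟨2, Subtype.ext ?_⟩
  · show B.Φ x ^ (2 ^ 2) = 1
    rw [show (2 : ℕ) ^ 2 = 4 from rfl, ← map_pow, (d8_action x hx.1 hx.2).1, map_one]
  · show (d.φ mTau * B.Φ x) ^ (2 ^ 2) = 1
    rw [show (2 : ℕ) ^ 2 = 2 * 2 from rfl, (B.tau_comm hx.1).mul_pow, ← map_pow B.Φ,
      show 2 * 2 = 4 from rfl, (d8_action x hx.1 hx.2).1, map_one, mul_one, show 4 = 2 * 2 from rfl, pow_mul,
      pow_two (d.φ mTau), B.tau_sq, one_pow]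

/-- the normaliser of the group of order sixteen normalises the four-group -/
theorem T0_norm {g : G} (hg : g ∈ normalizer (B.T0 : Set G)) :
    g * B.Φ u1A * g⁻¹ = B.Φ u1A ∧ g ∈ normalizer ((closure ({B.Φ u1A, B.Φ u2A} : Set G)) : Set G) := by
  obtain ⟨hu1, hu2, hs⟩ := B.u_mem_D8
  have hin : ∀ {t}, t ∈ B.T0 → g * t * g⁻¹ ∈ B.T0 := fun ht => (Subgroup.mem_normalizer_iff.1 hg _).1 ht
  set c := fun t : G => g * t * g⁻¹
  have cmul : ∀ p q, c (p * q) = c p * c q := fun p q => by simp only [c]; group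
  have cinj : ∀ {p q}, c p = c q → p = q := fun h => mul_left_cancel (mul_right_cancel h)
  have ne1 : ∀ {z : A6}, z ≠ 1 → c (B.Φ z) ≠ 1 := fun hz h => hz (B.inj (cinj (h.trans (by
    simp only [c, map_one, mul_one, mul_inv_cancel]))))
  -- the commutator of the generators is fixed
  have h1 : c (B.Φ u1A) = B.Φ u1A := by
    have e : c (B.Φ u1A) = c (B.Φ sA) * c (B.Φ u2A) * (c (B.Φ sA))⁻¹ * (c (B.Φ u2A))⁻¹ := by
      rw [← d8_facts.2.2.2.2.2.1]; simp only [c, map_mul, map_inv]; group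
    have hT : ∀ p q : G, p ∈ B.T0 → q ∈ B.T0 → p * q * p⁻¹ * q⁻¹ = 1 ∨ p * q * p⁻¹ * q⁻¹ = B.Φ u1A := by
      have red : ∀ p : G, p ∈ B.T0 → ∃ x ∈ D8, ∀ y ∈ D8, p * B.Φ y * p⁻¹ = B.Φ (x * y * x⁻¹) ∧
          p * d.φ mTau * p⁻¹ = d.φ mTau := by
        rintro _ ⟨x, hx, rfl | rfl⟩ <;> refine ⟨x, hx, fun y hy => ⟨?_, ?_⟩⟩
        · rw [map_mul, map_mul, map_inv]
        · rw [← (B.tau_comm hx.1).eq, mul_inv_cancel_right]
        · have hc := B.tau_comm (show oddConj (x * y * x⁻¹) = x * y * x⁻¹ by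
            rw [map_mul, map_mul, map_inv, hx.1, hy.1])
          calc d.φ mTau * B.Φ x * B.Φ y * (d.φ mTau * B.Φ x)⁻¹
              = d.φ mTau * B.Φ (x * y * x⁻¹) * (d.φ mTau)⁻¹ := by rw [map_mul, map_mul, map_inv]; group
            _ = B.Φ (x * y * x⁻¹) := by rw [hc.eq, mul_inv_cancel_right]
        · calc d.φ mTau * B.Φ x * d.φ mTau * (d.φ mTau * B.Φ x)⁻¹
              = d.φ mTau * (B.Φ x * d.φ mTau) * (B.Φ x)⁻¹ * (d.φ mTau)⁻¹ := by group
            _ = d.φ mTau := by rw [← (B.tau_comm hx.1).eq]; group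
      intro p q hp hq
      obtain ⟨x, hx, hxy⟩ := red p hp
      obtain ⟨y, hy, hq' | hq'⟩ := hq <;> subst hq'
      · rw [(hxy y hy).1, ← map_inv, ← map_mul, ← map_one B.Φ]
        exact ((d8_elts x hx.1 hx.2).2.2 y hy.1 hy.2).imp (congrArg B.Φ) (congrArg B.Φ)
      · have e2 : p * (d.φ mTau * B.Φ y) * p⁻¹ * (d.φ mTau * B.Φ y)⁻¹ = B.Φ (x * y * x⁻¹ * y⁻¹) := by
          calc p * (d.φ mTau * B.Φ y) * p⁻¹ * (d.φ mTau * B.Φ y)⁻¹
              = p * d.φ mTau * p⁻¹ * (p * B.Φ y * p⁻¹) * (B.Φ y)⁻¹ * (d.φ mTau)⁻¹ := by group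
            _ = d.φ mTau * B.Φ (x * y * x⁻¹ * y⁻¹) * (d.φ mTau)⁻¹ := by
              rw [(hxy y hy).2, (hxy y hy).1, map_mul B.Φ _ y⁻¹, map_inv]; group
            _ = B.Φ (x * y * x⁻¹ * y⁻¹) := by
              rw [(B.tau_comm (show oddConj (x * y * x⁻¹ * y⁻¹) = x * y * x⁻¹ * y⁻¹ by
                rw [map_mul, map_mul, map_mul, map_inv, map_inv, hx.1, hy.1])).eq, mul_inv_cancel_right]
        rw [e2, ← map_one B.Φ]
        exact ((d8_elts x hx.1 hx.2).2.2 y hy.1 hy.2).imp (congrArg B.Φ) (congrArg B.Φ)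
    rcases hT _ _ (hin (B.phi_mem_T0 hs)) (hin (B.phi_mem_T0 hu2)) with h | h
    · exact absurd (e.trans h) (ne1 d8_facts.2.2.2.2.2.2.1)
    · exact e.trans h
  -- the other central involution is fixed
  have hsq : B.Φ u1A * B.Φ u1A = 1 := by rw [← map_mul, u_facts.1, map_one]
  have htau : ∀ {v : A6}, v ∈ [u1A, u2A, u1A * u2A] → ¬ B.T2 (d.φ mTau * B.Φ v) := fun hv => B.not_T2_mixed hv
  have h2 : c (d.φ mTau) = d.φ mTau := by
    obtain ⟨x, hx, hxe⟩ : c (d.φ mTau) ∈ B.T0 := hin B.tau_mem_T0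
    have hcent : ∀ y ∈ D8, c (d.φ mTau) * B.Φ y = B.Φ y * c (d.φ mTau) := by
      intro y hy
      obtain ⟨w, hw, hwe⟩ := (Subgroup.mem_normalizer_iff.1 (inv_mem hg) _).1 (B.phi_mem_T0 hy)
      rw [inv_inv] at hwe
      have hcw : Commute (d.φ mTau) (g⁻¹ * B.Φ y * g) := by
        rcases hwe with e | e <;> rw [e]
        · exact B.tau_comm hw.1
        · exact (Commute.refl _).mul_right (B.tau_comm hw.1)
      calc c (d.φ mTau) * B.Φ y = g * (d.φ mTau * (g⁻¹ * B.Φ y * g)) * g⁻¹ := by simp only [c]; group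
        _ = g * ((g⁻¹ * B.Φ y * g) * d.φ mTau) * g⁻¹ := by rw [hcw.eq]
        _ = B.Φ y * c (d.φ mTau) := by simp only [c]; group
    have hxc : x = 1 ∨ x = u1A := (d8_elts x hx.1 hx.2).1 fun y hy hy' => B.inj (by
      rw [map_mul, map_mul]
      have h := hcent y ⟨hy, hy'⟩
      rcases hxe with e | e <;> rw [e] at h
      · exact h
      · rw [mul_assoc, ← mul_assoc (B.Φ y), ← (B.tau_comm hy).eq, mul_assoc] at h
        exact mul_left_cancel h)
    have hT2 : B.T2 (c (d.φ mTau)) := B.T2_tau.conj g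
    rcases hxe with e | e <;> rcases hxc with rfl | rfl
    · exfalso
      have hone : c 1 = 1 := by simp [c]
      exact B.tau_ne 1 (by rw [map_one] at e ⊢; exact cinj (e.trans hone.symm))
    · exact absurd (cinj (e.trans h1.symm)) (B.tau_ne u1A)
    · rw [map_one, mul_one] at e; exact e
    · exact absurd (e ▸ hT2) (htau (by simp))
  refine ⟨h1, norm_pair (by rw [show g * B.Φ u1A * g⁻¹ = B.Φ u1A from h1]; exact subset_closure (Set.mem_insert _ _)) ?_⟩
  obtain ⟨x, hx, hxe⟩ : c (B.Φ u2A) ∈ B.T0 := hin (B.phi_mem_T0 hu2)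
  have hxx : x * x = 1 := B.inj (by
    have h : c (B.Φ u2A) * c (B.Φ u2A) = 1 := by
      rw [← cmul, ← map_mul, u_facts.2.1, map_one]; simp [c]
    rcases hxe with e | e <;> rw [e] at h
    · rw [map_mul, map_one]; exact h
    · rw [B.tau_mul, hx.1] at h; rw [map_one]; exact h)
  have hn : ∀ {v : A6}, v ∈ [sA, sA * u1A] → c (B.Φ u2A) ≠ B.Φ v ∧ c (B.Φ u2A) ≠ d.φ mTau * B.Φ v := by
    intro v hv
    have hbad : ¬ B.T2 (c (d.φ mTau * B.Φ u2A)) := fun h => htau (by simp) h.of_conj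
    refine ⟨fun e => hbad ?_, fun e => hbad ?_⟩ <;> rw [cmul, h2, e]
    · exact B.T2_tau_s hv
    · rw [← mul_assoc, B.tau_sq, one_mul]
      exact B.T2_six (by simp only [List.mem_cons, List.not_mem_nil, or_false] at hv ⊢; tauto)
  have hT2u : B.T2 (c (B.Φ u2A)) := by
    refine T2.conj ?_ g
    rcases d8_facts.2.2.2.2.2.2.2.2.2.2.2.1 u2A (by simp) with e | e | e <;> rw [e]
    · exact ⟨1, by group⟩
    · exact ⟨B.Φ xE3, by rw [map_mul, map_mul, map_inv]⟩
    · exact ⟨(B.Φ xE3)⁻¹, by rw [map_mul, map_mul, map_inv, inv_inv]⟩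
  show c (B.Φ u2A) ∈ _
  have hu1m : B.Φ u1A ∈ closure ({B.Φ u1A, B.Φ u2A} : Set G) := subset_closure (Set.mem_insert _ _)
  have hu2m : B.Φ u2A ∈ closure ({B.Φ u1A, B.Φ u2A} : Set G) := subset_closure (Set.mem_insert_of_mem _ rfl)
  rcases (d8_elts x hx.1 hx.2).2.1 hxx with rfl | rfl | rfl | rfl | rfl | rfl <;> rcases hxe with e | e
  · exact absurd (e.trans (map_one _)) (ne1 d8_facts.2.2.2.2.2.2.2.1)
  · exfalso
    rw [map_one, mul_one] at e
    exact B.tau_ne u2A (cinj (h2.trans e.symm))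
  · rw [e]; exact hu1m
  · exact absurd (e ▸ hT2u) (htau (by simp))
  · rw [e]; exact hu2m
  · exact absurd (e ▸ hT2u) (htau (by simp))
  · rw [e, map_mul]; exact mul_mem hu1m hu2m
  · exact absurd (e ▸ hT2u) (htau (by simp))
  · exact absurd e (hn (by simp)).1
  · exact absurd e (hn (by simp)).2
  · exact absurd e (hn (by simp)).1
  · exact absurd e (hn (by simp)).2

theorem two_group_bound (hS : ∀ y ∈ B.KU, ∃ (i : Fin 3) (j : Fin 2),
      y = stdGen 6 (0 : Fin 4) ^ i.val * stdGen 6 (2 : Fin 4) ^ j.val)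
    (P : Subgroup G) (hP : IsPGroup 2 P)
    (hPn : P ≤ normalizer ((closure ({B.Φ u1A, B.Φ u2A} : Set G)) : Set G)) : Nat.card P ≤ 16 := by
  haveI : Fact (Nat.Prime 2) := ⟨Nat.prime_two⟩
  set F := closure ({B.Φ u1A, B.Φ u2A} : Set G)
  have H := B.four_hyp_U
  have hFs : (F : Set G) ⊆ {1, B.Φ u1A, B.Φ u2A, B.Φ u1A * B.Φ u2A} := fun x hx => by
    rcases H.pair hx with h | h | h | h <;> simp [h]
  have hF4 : Nat.card F ≤ 4 := by
    rw [show Nat.card F = (F : Set G).ncard from Nat.card_coe_set_eq _]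
    refine (Set.ncard_le_ncard hFs (Set.toFinite _)).trans ?_
    exact (Set.ncard_insert_le _ _).trans (Nat.succ_le_succ ((Set.ncard_insert_le _ _).trans
      (Nat.succ_le_succ ((Set.ncard_insert_le _ _).trans (by rw [Set.ncard_singleton])))))
  have hC : Nat.card B.CU ≤ 24 := by
    have hsurj : ∀ g : B.CU, ∃ p : F × Fin 3 × Fin 2, (g : G) =
        p.1 * B.ψ (stdGen 6 (0 : Fin 4) ^ p.2.1.val * stdGen 6 (2 : Fin 4) ^ p.2.2.val) := fun g => by
      obtain ⟨e, he, y, hy, hey⟩ := B.CU_form g.2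
      obtain ⟨i, j, rfl⟩ := hS y hy
      exact ⟨(⟨e, he⟩, i, j), hey⟩
    choose r hr using hsurj
    have := Nat.card_le_card_of_injective r fun g g' h => Subtype.ext (by rw [hr g, hr g', h])
    simp only [Nat.card_prod, Nat.card_fin] at this
    omega
  have hC3 : 3 ∣ Nat.card B.CU := by
    haveI : Fact (Nat.Prime 3) := ⟨Nat.prime_three⟩
    rw [← orderOf_eq_prime (show (⟨d.φ jA, H.a_mem⟩ : B.CU) ^ 3 = 1 from Subtype.ext H.a3)
      fun e => H.a1 (congrArg Subtype.val e)]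
    exact orderOf_dvd_natCard _
  let χ : P →* Perm {x : F // x ≠ 1} :=
    ((autPerm F).comp (Subgroup.normalizerMonoidHom F)).comp (Subgroup.inclusion hPn)
  have hker : ∀ p : P, χ p = 1 → (p : G) ∈ B.CU := fun p hp => by
    have h1 : Subgroup.normalizerMonoidHom F (Subgroup.inclusion hPn p) = 1 :=
      autPerm_inj F (hp.trans (map_one _).symm)
    have hfix : ∀ x, x ∈ F → (p : G) * x = x * p := fun x hx => by
      have h2 := congrArg Subtype.val (congrArg (fun e : MulAut F => e ⟨x, hx⟩) h1)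
      have h3 : (p : G) * x * (p : G)⁻¹ = x := h2
      rwa [mul_inv_eq_iff_eq_mul] at h3
    exact mem_cent_pair.2 ⟨hfix _ (subset_closure (Set.mem_insert _ _)),
      hfix _ (subset_closure (Set.mem_insert_of_mem _ rfl))⟩
  have hperm : Nat.card (Perm {x : F // x ≠ 1}) ∣ 6 := by
    rw [Nat.card_perm]
    refine Nat.factorial_dvd_factorial (n := 3) ?_
    classical
    have h1 := Nat.card_congr (Equiv.sumCompl (fun x : F => x = 1))
    rw [Nat.card_sum, Nat.card_unique] at h1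
    show Nat.card {x : F // ¬ x = 1} ≤ 3
    omega
  obtain ⟨k, hk⟩ := IsPGroup.iff_card.1 (hP.to_subgroup χ.ker)
  obtain ⟨l, hl⟩ := IsPGroup.iff_card.1 (hP.of_surjective χ.rangeRestrict χ.rangeRestrict_surjective)
  have hl1 : l ≤ 1 := by
    by_contra h
    have := ((pow_dvd_pow 2 (show 2 ≤ l by omega)).trans (hl ▸ card_subgroup_dvd_card χ.range)).trans hperm
    norm_num at this
  have hk3 : k ≤ 3 := by
    have hd : 2 ^ k ∣ Nat.card B.CU := by
      rw [← hk, ← card_map_of_injective (f := P.subtype) (K := χ.ker) P.subtype_injective]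
      refine card_dvd_of_le ?_
      rintro _ ⟨p, hp, rfl⟩
      exact hker p hp
    by_contra h
    have h48 : 16 * 3 ∣ Nat.card B.CU := Nat.Coprime.mul_dvd_of_dvd_of_dvd (by norm_num)
      ((pow_dvd_pow 2 (show 4 ≤ k by omega)).trans hd) hC3
    have := Nat.le_of_dvd Nat.card_pos h48
    omega
  rw [card_eq_card_quotient_mul_card_subgroup χ.ker, hk,
    Nat.card_congr (QuotientGroup.quotientKerEquivRange χ).toEquiv, hl, ← pow_add]
  calc 2 ^ (l + k) ≤ 2 ^ 4 := Nat.pow_le_pow_right (by norm_num) (by omega)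
    _ = 16 := rfl

theorem not_S3 : ¬ ∀ y ∈ B.KU, ∃ (i : Fin 3) (j : Fin 2),
    y = stdGen 6 (0 : Fin 4) ^ i.val * stdGen 6 (2 : Fin 4) ^ j.val := by
  intro hS
  haveI : Fact (Nat.Prime 2) := ⟨Nat.prime_two⟩
  have hle : B.T0 ≤ normalizer ((closure ({B.Φ u1A, B.Φ u2A} : Set G)) : Set G) := fun g hg =>
    (B.T0_norm (le_normalizer hg)).2
  obtain ⟨n, hn⟩ := IsPGroup.iff_card.1 B.T0_pgroup
  have h16 : Nat.card B.T0 = 16 := le_antisymm (B.two_group_bound hS _ B.T0_pgroup hle) B.T0_card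
  obtain ⟨P, hP⟩ := B.T0_pgroup.exists_le_sylow
  obtain ⟨m, hm⟩ := IsPGroup.iff_card.1 P.isPGroup'
  have hm4 : m ≤ 4 := by
    by_contra h
    have h32 : 2 ^ (4 + 1) ∣ Nat.card G :=
      (pow_dvd_pow 2 (show 4 + 1 ≤ m by omega)).trans (hm ▸ card_subgroup_dvd_card _)
    obtain ⟨K, hK, hTK⟩ := Sylow.exists_subgroup_card_pow_succ h32 (h16.trans (by norm_num))
    haveI hnorm : (B.T0.subgroupOf K).Normal := by
      refine normal_of_index_eq_two ?_
      have := (B.T0.subgroupOf K).card_mul_index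
      rw [Nat.card_congr (subgroupOfEquivOfLe hTK).toEquiv, h16, hK] at this
      norm_num at this
      omega
    have hKn : K ≤ normalizer ((closure ({B.Φ u1A, B.Φ u2A} : Set G)) : Set G) := fun x hx =>
      (B.T0_norm ((normal_subgroupOf_iff_le_normalizer hTK).1 hnorm hx)).2
    have := B.two_group_bound hS K (IsPGroup.of_card hK) hKn
    rw [hK] at this
    norm_num at this
  have hPT : B.T0 = P := eq_of_le_of_card_ge hP (by
    rw [hm, h16]
    calc 2 ^ m ≤ 2 ^ 4 := Nat.pow_le_pow_right (by norm_num) hm4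
      _ = 16 := rfl)
  obtain ⟨k, hk⟩ := B.T2_tau
  have hcent : ∀ z : G, (∀ x ∈ D8, Commute z (B.Φ x)) → Commute z (d.φ mTau) → z ∈ centralizer (P : Set G) := by
    intro z h1 h2
    rw [mem_centralizer_iff]
    intro t ht
    have ht' : t ∈ B.T0 := hPT ▸ ht
    obtain ⟨x, hx, rfl | rfl⟩ := ht'
    · exact (h1 x hx).eq.symm
    · exact (h2.mul_right (h1 x hx)).eq.symm
  obtain ⟨w, hw, hwe⟩ := P.conj_eq_normalizer_conj_of_mem_centralizer (B.Φ u1A) k⁻¹
    (hcent _ (fun x hx => (show Commute u1A x from hx.2.symm).map B.Φ) (B.tau_comm d8_facts.1).symm)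
    (hcent _ (fun x hx => by rw [inv_inv, hk]; exact B.tau_comm hx.1) (by rw [inv_inv, hk]))
  rw [inv_inv, hk] at hwe
  have hw' : w⁻¹ ∈ normalizer (B.T0 : Set G) := by
    rw [hPT]; exact inv_mem hw
  have := (B.T0_norm hw').1
  rw [inv_inv] at this
  exact B.tau_ne u1A (hwe.trans this)

/-- the missing involution centralises the four-group -/
theorem g2_comm : Commute (B.ψ sA) (B.Φ (u1A * u2A)) := by
  rcases B.KU_cases with h | h | h
  · obtain ⟨h1, h2⟩ := mem_cent_pair.1 h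
    rw [map_mul]
    exact (show Commute _ _ from h1).mul_right h2
  · exact absurd h B.not_v0
  · exact absurd h B.not_S3

end Big

end Cfsg.Agent.Spor.AltNine
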