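import Cfsg.Agent.Lib.Spor.AltNine.Local
import Cfsg.Agent.S3341

/-!
The centraliser of a three-cycle: small, or a direct product with the alternating group of degree six.
-/

set_option autoImplicit false
set_option maxRecDepth 100000
set_option linter.style.haveILetI false

namespace Cfsg.Agent.Spor.AltNine

open Subgroup Cfsg
open Cfsg.Agent.Solv.Special.W648

/-- the elements of the part of the abelian subgroup in the residual -/
def vA (e : Fin 3 × Fin 3) : M648 := dA 0 ^ e.1.val * dA 1 ^ e.2.val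

theorem vA_rot : ∀ e, rot (vA e) := by decide +kernel
theorem vA_inj : ∀ e f, vA e = vA f → e = f := by decide +kernel
theorem vA_gen : vA (1, 0) = dA 0 ∧ vA (0, 1) = dA 1 := by decide +kernel
theorem vA_span : ∀ e, e ≠ 0 → ∀ i : Fin 2, ∃ a b : Fin 3,
    dA i = vA e ^ a.val * (mU * vA e * mU⁻¹) ^ b.val := by decide +kernel
theorem mU_facts : mU * mU * (mU * mU) = 1 ∧ (∀ e, mU * mU * vA e = vA e * (mU * mU) → e = 0) ∧
    mU * mU * jA = jA * (mU * mU) := by decide +kernel
theorem jA_cube : ∀ m, rot m → m ^ 3 = 1 := fun _ h => rot_pow3 h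

/-- a residual containing a Sylow subgroup is everything -/
theorem pResidual_eq_top_of_sylow {N : Type*} [Group N] [Finite N] (P : Sylow 3 N)
    (h : ∀ y ∈ (P : Subgroup N), y ∈ pResidual 3 N) : pResidual 3 N = ⊤ := by
  haveI : Fact (Nat.Prime 3) := ⟨Nat.prime_three⟩
  set R := pResidual 3 N
  have hidx : R.index.Coprime 3 :=
    Nat.Coprime.coprime_dvd_left (Subgroup.index_dvd_of_le h)
      ((Nat.prime_three.coprime_iff_not_dvd.2 P.not_dvd_index).symm)
  refine eq_top_iff.2 fun g _ => ?_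
  obtain ⟨k, hk⟩ : ∃ k, (QuotientGroup.mk g : N ⧸ R) ^ 3 ^ k = 1 := by
    refine ⟨(orderOf g).factorization 3, ?_⟩
    rw [← QuotientGroup.mk_pow, QuotientGroup.eq_one_iff]
    refine subset_closure ?_
    show Nat.Coprime (orderOf (g ^ 3 ^ (orderOf g).factorization 3)) 3
    rw [orderOf_pow' _ (by positivity), Nat.gcd_eq_right (Nat.ordProj_dvd _ 3)]
    exact (Nat.prime_three.coprime_iff_not_dvd.2
      (Nat.not_dvd_ordCompl Nat.prime_three (orderOf_pos g).ne')).symm
  refine (QuotientGroup.eq_one_iff g).1 (orderOf_eq_one_iff.1 (Nat.eq_one_of_dvd_coprimes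
    (hidx.pow_right k) ?_ (orderOf_dvd_of_pow_eq_one hk)))
  rw [Subgroup.index_eq_card]
  exact orderOf_dvd_natCard _

theorem mU_inverts : ∀ e, vA e = mU * mU * (vA e * (mU * mU)⁻¹ * (vA e)⁻¹) := by decide +kernel

namespace Data

variable {G : Type*} [Group G] [Finite G] (d : Data G)

/-- the residual of the centraliser of the first three-cycle, seen in the group -/
def iM : d.MX jA →* G := (d.X jA).subtype.comp (d.MX jA).subtype

theorem iM_inj : Function.Injective d.iM :=
  (d.X jA).subtype_injective.comp (d.MX jA).subtype_injective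

theorem iM_comm (x : d.MX jA) : Commute (d.iM x) (d.φ jA) :=
  mem_centralizer_singleton_iff.1 (x : d.X jA).2

theorem hD_A : ∀ i, ∃ x : d.MX jA, x ∈ d.DX jA ∧ ((x : d.X jA) : G) = d.φ (dA i) := by
  obtain ⟨hA, -, hA2, hA3, -, -, -, -, -, hu4, huA, -⟩ := base_facts
  have hcop : (orderOf mU).Coprime 3 :=
    Nat.Coprime.coprime_dvd_left (orderOf_dvd_of_pow_eq_one hu4) (by norm_num)
  intro i
  fin_cases i
  · exact d.gen_mem hA huA hcop hA2
  · exact d.gen_mem hA huA hcop hA3

theorem DX_iff {x : d.MX jA} : x ∈ d.DX jA ↔ ∃ e, d.iM x = d.φ (vA e) := by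
  have hA := base_facts.1
  refine ⟨fun hx => ?_, fun ⟨e, he⟩ => (d.mem_DX jA).2 ⟨vA e, vA_rot e, he.symm⟩⟩
  obtain ⟨j, hj, e⟩ := d.mem_J.1 hx
  obtain ⟨i, k, l, rfl⟩ := gen_A j hj
  obtain ⟨x0, -, h0⟩ := d.hD_A 0
  obtain ⟨x1, -, h1⟩ := d.hD_A 1
  refine ⟨(k, l), ?_⟩
  set y := x * (x0 ^ k.val * x1 ^ l.val)⁻¹ with hy
  have hye : d.iM y = d.φ jA ^ i.val := by
    rw [hy, map_mul, map_inv, map_mul, map_pow, map_pow]
    show ((x : d.X jA) : G) * (((x0 : d.X jA) : G) ^ k.val * ((x1 : d.X jA) : G) ^ l.val)⁻¹ = _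
    have e' : ((x : d.X jA) : G) = d.φ (jA ^ i.val * (dA 0 ^ k.val * dA 1 ^ l.val)) := e.symm
    rw [e', h0, h1]
    simp only [map_mul, map_pow]
    group
  have hi : i = 0 := by
    by_contra hi
    refine d.not_mem_MX hA cent_A9 base_facts.2.2.2.2.2.1 ?_
    have h3 : d.φ jA ^ 3 = 1 := by rw [← map_pow, rot_pow3 hA, map_one]
    obtain ⟨n, hn⟩ : ∃ n : ℕ, d.φ jA = (d.φ jA ^ i.val) ^ n := by
      refine ⟨i.val, ?_⟩
      have : i.val * i.val = 1 ∨ i.val * i.val = 3 + 1 := by fin_cases i <;> simp at hi ⊢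
      rw [← pow_mul]
      rcases this with h | h <;> rw [h]
      · rw [pow_one]
      · rw [pow_succ, h3, one_mul]
    have e2 : (⟨d.φ jA, d.J_le_X hA ⟨jA, hA, rfl⟩⟩ : d.X jA) = ((y ^ n : d.MX jA) : d.X jA) :=
      Subtype.ext (hn.trans (by rw [← hye, ← map_pow]; rfl))
    rw [e2]
    exact (y ^ n).2
  subst hi
  show ((x : d.X jA) : G) = _
  have e' : ((x : d.X jA) : G) = d.φ (jA ^ (0 : Fin 3).val * (dA 0 ^ k.val * dA 1 ^ l.val)) := e.symm
  rw [e']
  simp [vA]

theorem exists_v (e : Fin 3 × Fin 3) : ∃ x : d.MX jA, x ∈ d.DX jA ∧ d.iM x = d.φ (vA e) := by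
  obtain ⟨x0, h0', h0⟩ := d.hD_A 0
  obtain ⟨x1, h1', h1⟩ := d.hD_A 1
  refine ⟨x0 ^ e.1.val * x1 ^ e.2.val, mul_mem (pow_mem h0' _) (pow_mem h1' _), ?_⟩
  rw [map_mul, map_pow, map_pow]
  show ((x0 : d.X jA) : G) ^ _ * ((x1 : d.X jA) : G) ^ _ = _
  rw [h0, h1, vA, map_mul, map_pow, map_pow]

theorem card_DX : Nat.card (d.DX jA) = 9 := by
  choose f hf hf' using d.exists_v
  have h : Function.Bijective (fun e => (⟨f e, hf e⟩ : d.DX jA)) := by
    refine ⟨fun a b h => vA_inj a b (d.inj ?_), fun ⟨x, hx⟩ => ?_⟩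
    · rw [← hf' a, ← hf' b]; exact congrArg (fun y : d.DX jA => d.iM (y : d.MX jA)) h
    · obtain ⟨e, he⟩ := d.DX_iff.1 hx
      exact ⟨e, Subtype.ext (d.iM_inj ((hf' e).trans he.symm))⟩
  rw [← Nat.card_congr (Equiv.ofBijective _ h)]
  simp

/-- the elements of the Sylow subgroup of the residual are self-centralising -/
theorem cent_DX {v g : d.MX jA} (hv : v ∈ d.DX jA) (hv1 : v ≠ 1) (hg : g * v = v * g) : g ∈ d.DX jA := by
  obtain ⟨⟨k, l⟩, he⟩ := d.DX_iff.1 hv
  have hkl : k ≠ 0 ∨ l ≠ 0 := by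
    by_contra h
    push_neg at h
    obtain ⟨rfl, rfl⟩ := h
    exact hv1 (d.iM_inj (by rw [he, map_one]; simp [vA]))
  obtain ⟨i, hi1, hi⟩ := dA_types k l hkl
  have hrot : rot (jA ^ i.val * vA (k, l)) := (mul_mem (pow_mem (show jA ∈ JM from base_facts.1) _) (show vA (k, l) ∈ JM from vA_rot _) : jA ^ i.val * vA (k, l) ∈ JM)
  have hcv : Commute (d.iM g) (d.φ (vA (k, l))) := by
    rw [← he]; exact (show Commute g v from hg).map d.iM
  obtain ⟨m, hm⟩ := d.cent_range hrot hi1 hi (g := d.iM g) (by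
    rw [map_mul, map_pow]; exact ((d.iM_comm g).pow_right _).mul_right hcv)
  have hr := cent_A_dA k l hkl m (d.comm_iff.1 (hm ▸ d.iM_comm g)) (d.comm_iff.1 (hm ▸ hcv))
  exact (d.mem_DX jA).2 ⟨m, hr, hm⟩

theorem norm_DX_A {g : d.X jA} (h : ∀ x : d.MX jA, x ∈ d.DX jA → (g : G) * d.iM x * (g : G)⁻¹ ∈ d.J) :
    ∃ m, m * jA = jA * m ∧ d.φ m = (g : G) :=
  d.norm_DX base_facts.1 dA gen_A d.hD_A h

theorem mem_normalizer_A {b : d.MX jA} (hb : b ∈ normalizer ((d.DX jA : Subgroup (d.MX jA)) : Set (d.MX jA))) :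
    ∃ m, m * jA = jA * m ∧ d.φ m = d.iM b :=
  d.norm_DX_A (g := (b : d.X jA)) fun x hx => ((Subgroup.mem_normalizer_iff.1 hb x).1 hx)

theorem exists_u : ∃ u : d.MX jA, d.iM u = d.φ mU ∧
    u ∈ normalizer ((d.DX jA : Subgroup (d.MX jA)) : Set (d.MX jA)) := by
  obtain ⟨-, -, -, -, -, -, -, -, -, hu4, huA, -⟩ := base_facts
  have hcop : (orderOf mU).Coprime 3 :=
    Nat.Coprime.coprime_dvd_left (orderOf_dvd_of_pow_eq_one hu4) (by norm_num)
  refine ⟨⟨_, d.even_mem_MX huA hcop⟩, rfl, ?_⟩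
  rw [Subgroup.mem_normalizer_iff]
  intro y
  simp only [mem_DX]
  refine ⟨fun hy => d.range_norm_J ⟨mU, rfl⟩ hy, fun hy => ?_⟩
  have := d.range_norm_J (g := (d.φ mU)⁻¹) (inv_mem ⟨mU, rfl⟩) hy
  simpa [mul_assoc] using this

set_option maxHeartbeats 1600000 in
/-- either the Sylow subgroup of the residual is normal or the residual is simple -/
theorem normal_or_simple : (d.DX jA).Normal ∨ IsSimpleGroup (d.MX jA) := by
  haveI : Fact (Nat.Prime 3) := ⟨Nat.prime_three⟩
  have hA := base_facts.1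
  have hA1 := base_facts.2.2.2.2.2.1
  obtain ⟨P, hP⟩ := d.sylow_MX hA cent_A9 dA gen_A d.hD_A
  obtain ⟨u, hu, huN⟩ := d.exists_u
  refine or_iff_not_imp_left.2 fun hnn => ?_
  haveI : Nontrivial (d.MX jA) := by
    by_contra hh
    rw [not_nontrivial_iff_subsingleton] at hh
    exact hnn ⟨fun x hx g => by rwa [Subsingleton.elim (g * x * g⁻¹) x]⟩
  refine ⟨fun N hN => ?_⟩
  by_contra hne
  push_neg at hne
  obtain ⟨hne1, hneT⟩ := hne
  -- a nontrivial normal subgroup meets, hence contains, the Sylow subgroup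
  have hmeet : ∃ v ∈ N, v ∈ d.DX jA ∧ v ≠ 1 := by
    have hcore := d.core_MX hA cent_A9 hA1
    have h3 : 3 ∣ Nat.card N := by
      by_contra h3
      have := Fusion.le_pPrimeCore (hn := hN) ((Nat.prime_three.coprime_iff_not_dvd.2 h3).symm)
      rw [hcore, le_bot_iff] at this
      exact hne1 this
    obtain ⟨x, hx⟩ := exists_prime_orderOf_dvd_card' 3 h3
    have hx' : orderOf (x : d.MX jA) = 3 := by rw [Subgroup.orderOf_coe, hx]
    have hz : IsPGroup 3 (zpowers (x : d.MX jA)) :=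
      IsPGroup.of_card (n := 1) (by rw [Nat.card_zpowers, hx', pow_one])
    obtain ⟨Q, hQ⟩ := hz.exists_le_sylow
    obtain ⟨g, hg⟩ := MulAction.exists_smul_eq (d.MX jA) Q P
    refine ⟨g * x * g⁻¹, hN.conj_mem _ x.2 g, ?_, fun h => ?_⟩
    · rw [← hP, ← hg, Sylow.coe_subgroup_smul]
      exact ⟨x, hQ (mem_zpowers _), rfl⟩
    · have := congrArg (fun t => g⁻¹ * t * g) h
      simp [mul_assoc] at this
      rw [show (x : d.MX jA) = 1 by simpa using this, orderOf_one] at hx'
      norm_num at hx'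
  obtain ⟨v, hvN, hv, hv1⟩ := hmeet
  have hle : d.DX jA ≤ N := by
    obtain ⟨e, he⟩ := d.DX_iff.1 hv
    have he0 : e ≠ 0 := by
      rintro rfl
      exact hv1 (d.iM_inj (by rw [he, map_one]; simp [vA]))
    have hgen : ∀ i, ∃ x ∈ N, d.iM x = d.φ (dA i) := by
      intro i
      obtain ⟨a, b, hab⟩ := vA_span e he0 i
      refine ⟨v ^ a.val * (u * v * u⁻¹) ^ b.val,
        mul_mem (pow_mem hvN _) (pow_mem (hN.conj_mem _ hvN u) _), ?_⟩
      rw [hab]
      simp only [map_mul, map_pow, map_inv, he, hu]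
    intro x hx
    obtain ⟨f, hf⟩ := d.DX_iff.1 hx
    obtain ⟨x0, h0, h0'⟩ := hgen 0
    obtain ⟨x1, h1, h1'⟩ := hgen 1
    have : x = x0 ^ f.1.val * x1 ^ f.2.val :=
      d.iM_inj (by rw [hf, map_mul, map_pow, map_pow, h0', h1', vA, map_mul, map_pow, map_pow])
    rw [this]
    exact mul_mem (pow_mem h0 _) (pow_mem h1 _)
  -- the Frattini argument
  let PN : Sylow 3 N := P.subtype (by rw [hP]; exact hle)
  have hfr : ∀ g : d.MX jA, ∃ n ∈ N, ∃ b ∈ normalizer ((d.DX jA : Subgroup (d.MX jA)) : Set (d.MX jA)),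
      g = n * b := by
    intro g
    have h := Sylow.normalizer_sup_eq_top PN
    have hPN : (PN : Subgroup N).map N.subtype = d.DX jA := by
      rw [Sylow.coe_subtype, subgroupOf_map_subtype, hP, inf_eq_left.2 hle]
    have hg : g ∈ (normalizer ((d.DX jA : Subgroup (d.MX jA)) : Set (d.MX jA))) ⊔ N := by
      rw [← hPN]; exact h ▸ Subgroup.mem_top g
    rw [sup_comm, ← SetLike.mem_coe, Subgroup.normal_mul] at hg
    obtain ⟨n, hn, b, hb, e⟩ := hg
    exact ⟨n, hn, b, hb, e.symm⟩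
  have hnorm : ∀ b ∈ normalizer ((d.DX jA : Subgroup (d.MX jA)) : Set (d.MX jA)),
      ∃ k : Fin 4, b * u ^ k.val ∈ d.DX jA := by
    intro b hb
    obtain ⟨m, hc, hm⟩ := d.mem_normalizer_A hb
    obtain ⟨k, hk⟩ := cent_A m hc
    refine ⟨k, (d.mem_DX jA).2 ⟨m * mU ^ k.val, hk, ?_⟩⟩
    show _ = d.iM (b * u ^ k.val)
    rw [map_mul, map_mul, map_pow, map_pow, hm, hu]
  by_cases huu : u ∈ N
  · refine hneT (eq_top_iff.2 fun g _ => ?_)
    obtain ⟨n, hn, b, hb, rfl⟩ := hfr g
    obtain ⟨k, hk⟩ := hnorm b hb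
    refine mul_mem hn ?_
    have := mul_mem (hle hk) (inv_mem (pow_mem huu k.val))
    rwa [mul_inv_cancel_right] at this
  -- a proper normal subgroup
  haveI hPc : IsMulCommutative (PN : Subgroup N) := by
    refine ⟨⟨fun a b => Subtype.ext (Subtype.ext (d.iM_inj ?_))⟩⟩
    have ha := a.2; have hb := b.2
    simp only [PN, Sylow.coe_subtype, hP, mem_subgroupOf, mem_DX] at ha hb
    simp only [Subgroup.coe_mul, map_mul]
    exact d.J_comm ha hb
  have hcoreN : pPrimeCore 3 N = ⊥ := pPrimeCore_normal_bot (d.core_MX hA cent_A9 hA1) N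
  have hPNnot : ¬ (PN : Subgroup N).Normal := by
    intro hn
    refine hnn ⟨fun x hx g => ?_⟩
    have hxN : g * x * g⁻¹ ∈ N := hN.conj_mem _ (hle hx) g
    have h3 : ∃ k, (⟨_, hxN⟩ : N) ^ 3 ^ k = 1 := by
      obtain ⟨e, he⟩ := d.DX_iff.1 hx
      refine ⟨1, Subtype.ext (d.iM_inj ?_)⟩
      simp only [SubmonoidClass.coe_pow, OneMemClass.coe_one, map_pow, map_one, map_mul, map_inv, conj_pow,
        pow_one, he]
      rw [← map_pow, rot_pow3 (vA_rot e), map_one, mul_one, mul_inv_cancel]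
    have := mem_of_normal_sylow PN h3
    simpa [PN, hP, mem_subgroupOf] using this
  have hNnorm : ∀ b ∈ normalizer ((PN : Subgroup N) : Set N),
      (b : d.MX jA) ∈ d.DX jA ∨ (b : d.MX jA) * (u * u) ∈ d.DX jA := by
    intro b hb
    have hbM : (b : d.MX jA) ∈ normalizer ((d.DX jA : Subgroup (d.MX jA)) : Set (d.MX jA)) := by
      rw [Subgroup.mem_normalizer_iff]
      intro x
      constructor <;> intro hx
      · have := (Subgroup.mem_normalizer_iff.1 hb ⟨x, hle hx⟩).1 (by simpa [PN, hP, mem_subgroupOf] using hx)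
        simpa [PN, hP, mem_subgroupOf] using this
      · have hxN : x ∈ N := by
          have := hN.conj_mem _ (hle hx) (b : d.MX jA)⁻¹
          simpa [mul_assoc] using this
        have := (Subgroup.mem_normalizer_iff.1 hb ⟨x, hxN⟩).2 (by simpa [PN, hP, mem_subgroupOf] using hx)
        simpa [PN, hP, mem_subgroupOf] using this
    obtain ⟨k, hk⟩ := hnorm _ hbM
    have hu4 : u ^ 4 = 1 := d.iM_inj (by rw [map_pow, hu, ← map_pow, base_facts.2.2.2.2.2.2.2.2.2.1]; simp)
    have hukN : u ^ k.val ∈ N := by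
      have := mul_mem (inv_mem b.2) (hle hk)
      rwa [inv_mul_cancel_left] at this
    fin_cases k
    · exact Or.inl (by simpa using hk)
    · exact absurd (by simpa using hukN) huu
    · exact Or.inr (by simpa [pow_two] using hk)
    · refine absurd ?_ huu
      have := inv_mem hukN
      rwa [inv_eq_of_mul_eq_one_right (show u ^ 3 * u = 1 by rw [← pow_succ, hu4])] at this
  by_cases hu2 : u * u ∈ N
  · -- index two
    set t : N := ⟨u * u, hu2⟩
    have htn : t ∈ normalizer ((PN : Subgroup N) : Set N) := by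
      rw [Subgroup.mem_normalizer_iff]
      intro x
      have h := Subgroup.mem_normalizer_iff.1 (mul_mem huN huN) (x : d.MX jA)
      simpa [PN, hP, mem_subgroupOf, t] using h
    have hPmem : ∀ y : N, y ∈ (PN : Subgroup N) ↔ (y : d.MX jA) ∈ d.DX jA := fun y => by
      simp [PN, hP, mem_subgroupOf]
    have hcen : ∀ b : N, b ∈ (PN : Subgroup N) → b ∈ centralizer ((PN : Subgroup N) : Set N) := fun b hb =>
      (PN : Subgroup N).le_centralizer hb
    have hidx : ((centralizer ((PN : Subgroup N) : Set N)).subgroupOf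
        (normalizer ((PN : Subgroup N) : Set N))).index = 2 := by
      refine Subgroup.relIndex_eq_two_iff_exists_notMem_and.2 ⟨t, htn, ?_, fun b hb => ?_⟩
      · intro h
        obtain ⟨x, hx, hx'⟩ := d.exists_v (1, 0)
        have e := congrArg (fun y : N => d.iM (y : d.MX jA))
          (mem_centralizer_iff.1 h ⟨x, hle hx⟩ ((hPmem _).2 hx))
        change d.iM (x * (u * u)) = d.iM (u * u * x) at e
        simp only [map_mul, hu, hx'] at e
        simp only [← map_mul] at e
        exact absurd (mU_facts.2.1 (1, 0) (d.inj e).symm) (by decide)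
      · rcases hNnorm b hb with h | h
        · exact Or.inr (hcen _ ((hPmem _).2 h))
        · exact Or.inl (hcen _ ((hPmem _).2 h))
    have hnc : ¬ IsCyclic (PN : Subgroup N) := by
      intro h
      obtain ⟨w, hw⟩ := h.exists_generator
      have hcard : Nat.card (PN : Subgroup N) = 9 := by
        rw [← d.card_DX]
        refine Nat.card_congr
          { toFun := fun y => ⟨(y : N), (hPmem _).1 y.2⟩
            invFun := fun y => ⟨⟨(y : d.MX jA), hle y.2⟩, (hPmem _).2 y.2⟩
            left_inv := fun y => rfl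
            right_inv := fun y => rfl }
      rw [← orderOf_eq_card_of_forall_mem_zpowers hw] at hcard
      obtain ⟨e, he⟩ := d.DX_iff.1 ((hPmem _).1 w.2)
      have : w ^ 3 = 1 := Subtype.ext (Subtype.ext (d.iM_inj (by
        simp only [SubmonoidClass.coe_pow, map_pow, he, OneMemClass.coe_one, map_one]
        rw [← map_pow, rot_pow3 (vA_rot e), map_one])))
      have := orderOf_le_of_pow_eq_one (by norm_num) this
      omega
    rcases S3347.result 3 (by norm_num) PN hPc hnc hidx with h | h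
    · -- the residual contains the Sylow subgroup
      have ht : t ∈ pResidual 3 N := subset_closure (Nat.Coprime.coprime_dvd_left
        (orderOf_dvd_of_pow_eq_one (n := 2) (by
          refine Subtype.ext (d.iM_inj ?_)
          simp only [t, pow_two, Subgroup.coe_mul, OneMemClass.coe_one]
          rw [map_mul, map_mul, hu, ← map_mul, ← map_mul, mU_facts.1, map_one, map_one])) (by norm_num))
      refine h (pResidual_eq_top_of_sylow PN fun y hy => ?_)
      obtain ⟨e, he⟩ := d.DX_iff.1 ((hPmem _).1 hy)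
      have hy' : y = t * (y * t⁻¹ * y⁻¹) := by
        refine Subtype.ext (d.iM_inj ?_)
        simp only [t, Subgroup.coe_mul, Subgroup.coe_inv, map_mul, map_inv, hu, he]
        conv_lhs => rw [mU_inverts e]
        simp only [map_mul, map_inv]
      rw [hy']
      exact mul_mem ht ((inferInstance : (pResidual 3 N).Normal).conj_mem _ (inv_mem ht) y)
    · exact hPNnot (sylow_normal_of_pLength hcoreN h PN)
  · have hP' : normalizer ((PN : Subgroup N) : Set N) ≤ centralizer ((PN : Subgroup N) : Set N) := by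
      intro b hb
      rcases hNnorm b hb with h | h
      · exact (PN : Subgroup N).le_centralizer (by simpa [PN, hP, mem_subgroupOf] using h)
      · refine absurd ?_ hu2
        have := mul_mem (inv_mem b.2) (hle h)
        rwa [inv_mul_cancel_left] at this
    have hker : (MonoidHom.transferSylow PN hP').ker = ⊥ := by
      rw [← le_bot_iff, ← hcoreN]
      exact Fusion.le_pPrimeCore (hn := inferInstance)
        ((Nat.prime_three.coprime_iff_not_dvd.2 (MonoidHom.not_dvd_card_ker_transferSylow PN hP')).symm)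
    have hcompl := MonoidHom.ker_transferSylow_isComplement' PN hP'
    rw [hker, isComplement'_bot_left] at hcompl
    exact hPNnot (hcompl ▸ inferInstance)

/-- the centraliser of the first three-cycle -/
theorem centA : (∀ g : G, Commute g (d.φ jA) → g ∈ d.φ.range) ∨
    ∃ ι : alternatingGroup (Fin 6) →* G, Function.Injective ι ∧ (∀ x, Commute (ι x) (d.φ jA)) ∧
      (∀ i, d.φ (dA i) ∈ ι.range) ∧ d.φ mU ∈ ι.range ∧
      ∀ g : G, Commute g (d.φ jA) → ∃ (i : ℕ) (x : alternatingGroup (Fin 6)), g = d.φ jA ^ i * ι x := by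
  haveI : Fact (Nat.Prime 3) := ⟨Nat.prime_three⟩
  have hA := base_facts.1
  obtain ⟨P, hP⟩ := d.sylow_MX hA cent_A9 dA gen_A d.hD_A
  rcases d.normal_or_simple with hn | hs
  · refine Or.inl fun g hg => ?_
    haveI : (P : Subgroup (d.MX jA)).Normal := hP ▸ hn
    set gX : d.X jA := ⟨g, mem_centralizer_singleton_iff.2 hg.eq⟩
    refine ⟨_, (d.norm_DX_A (g := gX) fun y hy => ?_).choose_spec.2⟩
    have hconj : gX * (y : d.X jA) * gX⁻¹ ∈ d.MX jA :=
      (inferInstance : (d.MX jA).Normal).conj_mem _ y.2 gX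
    have hy3 : ∃ k, (⟨_, hconj⟩ : d.MX jA) ^ 3 ^ k = 1 := by
      obtain ⟨e, he⟩ := d.DX_iff.1 hy
      refine ⟨1, d.iM_inj ?_⟩
      rw [map_pow, map_one]
      show (g * d.iM y * g⁻¹) ^ (3 ^ 1) = 1
      rw [conj_pow, pow_one, he, ← map_pow, rot_pow3 (vA_rot e), map_one, mul_one, mul_inv_cancel]
    have := mem_of_normal_sylow P hy3
    rw [hP, mem_DX] at this
    exact this
  · haveI hab : IsMulCommutative (d.DX jA) := by
      refine ⟨⟨fun a b => Subtype.ext (d.iM_inj ?_)⟩⟩
      simp only [Subgroup.coe_mul, map_mul]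
      exact d.J_comm ((d.mem_DX jA).1 a.2) ((d.mem_DX jA).1 b.2)
    haveI : IsMulCommutative (P : Subgroup (d.MX jA)) := hP.symm ▸ hab
    have hexp : ∀ v ∈ d.DX jA, v ^ 3 = 1 := fun v hv => by
      obtain ⟨e, he⟩ := d.DX_iff.1 hv
      refine d.iM_inj ?_
      rw [map_pow, map_one, he, ← map_pow, rot_pow3 (vA_rot e), map_one]
    have hcent : ∀ v ∈ d.DX jA, v ≠ 1 → centralizer ({v} : Set (d.MX jA)) = d.DX jA := fun v hv hv1 =>
      le_antisymm (fun g hg => d.cent_DX hv hv1 (mem_centralizer_singleton_iff.1 hg))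
        fun g hg => mem_centralizer_singleton_iff.2
          (Subgroup.mul_comm_of_mem_isMulCommutative (H := d.DX jA) hg hv)
    have hclasses : ∃ a b : d.MX jA, orderOf a = 3 ∧ orderOf b = 3 ∧ ∀ g, g * a * g⁻¹ ≠ b := by
      obtain ⟨⟨k, l, hkl⟩, h108, hne⟩ := dA_classes
      obtain ⟨a, ha, ha'⟩ := d.exists_v (k, l)
      obtain ⟨b, hb, hb'⟩ := d.exists_v (1, 0)
      rw [show vA (k, l) = jA2 from hkl] at ha'
      rw [vA_gen.1] at hb'
      refine ⟨a, b, orderOf_eq_prime (hexp a ha) ?_, orderOf_eq_prime (hexp b hb) ?_, fun g hg => ?_⟩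
      · rintro rfl
        rw [map_one] at ha'
        have := d.inj (ha'.symm.trans (map_one d.φ).symm)
        exact absurd this (by decide +kernel)
      · rintro rfl
        rw [map_one] at hb'
        have := d.inj (hb'.symm.trans (map_one d.φ).symm)
        exact absurd this (by decide +kernel)
      have haP : a ∈ (P : Subgroup (d.MX jA)) := by rw [hP]; exact ha
      have hbP : g⁻¹⁻¹ * a * g⁻¹ ∈ (P : Subgroup (d.MX jA)) := by rw [inv_inv, hg, hP]; exact hb
      obtain ⟨n, hn, e⟩ := P.conj_eq_normalizer_conj_of_mem a g⁻¹ haP hbP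
      rw [inv_inv, hg] at e
      have hn' : n⁻¹ ∈ normalizer ((d.DX jA : Subgroup (d.MX jA)) : Set (d.MX jA)) := by
        rw [← hP]; exact inv_mem hn
      obtain ⟨m, -, hm⟩ := d.mem_normalizer_A hn'
      have e' := congrArg d.iM e
      rw [map_mul, map_mul, map_inv, ha', hb'] at e'
      rw [map_inv] at hm
      have e2 : dA 0 = m * jA2 * m⁻¹ := d.inj (by rw [map_mul, map_mul, map_inv, hm, inv_inv]; exact e')
      exact hne (by rw [e2, centCard_conj]; exact h108)
    obtain ⟨iso⟩ := S3341.result P (d.DX jA) hP.symm hab hexp d.card_DX hclasses hcent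
    refine Or.inr ⟨d.iM.comp iso.symm.toMonoidHom, d.iM_inj.comp iso.symm.injective, fun x => d.iM_comm _,
      fun i => ?_, ?_, fun g hg => ?_⟩
    · obtain ⟨x, -, hx⟩ := d.hD_A i
      exact ⟨iso x, by rw [← hx]; simp [iM]⟩
    · obtain ⟨u, hu, -⟩ := d.exists_u
      exact ⟨iso u, by rw [← hu]; simp [iM]⟩
    · set gX : d.X jA := ⟨g, mem_centralizer_singleton_iff.2 hg.eq⟩
      have h := Sylow.normalizer_sup_eq_top P
      have hgs : gX ∈ normalizer (((P : Subgroup (d.MX jA)).map (d.MX jA).subtype : Subgroup (d.X jA)) : Set (d.X jA)) ⊔ d.MX jA :=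
        h ▸ Subgroup.mem_top gX
      rw [← SetLike.mem_coe, Subgroup.mul_normal] at hgs
      obtain ⟨b, hb, y, hy, e⟩ := hgs
      obtain ⟨m, hc, hm⟩ := d.norm_DX_A (g := b) fun x hx => by
        obtain ⟨z, hz, hz'⟩ := ((Subgroup.mem_normalizer_iff.1 hb) (x : d.X jA)).1
          ⟨x, hP.symm ▸ hx, rfl⟩
        rw [hP] at hz
        show ((b * (x : d.X jA) * b⁻¹ : d.X jA) : G) ∈ d.J
        rw [← hz']
        exact hz
      obtain ⟨k, hk⟩ := cent_A m hc
      obtain ⟨i, a, c, hac⟩ := gen_A _ hk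
      obtain ⟨x, -, hx⟩ := d.exists_v (a, c)
      obtain ⟨u, hu, -⟩ := d.exists_u
      refine ⟨i.val, iso (x * (u ^ k.val)⁻¹ * ⟨y, hy⟩), ?_⟩
      show g = _ * d.iM (iso.symm (iso _))
      rw [MulEquiv.symm_apply_apply, map_mul, map_mul, map_inv, map_pow, hx, hu]
      have hm' : d.φ m = d.φ jA ^ i.val * (d.φ (vA (a, c)) * (d.φ mU ^ k.val)⁻¹) := by
        rw [← map_pow, ← map_pow, ← map_inv, ← map_mul, ← map_mul]
        congr 1
        rw [show vA (a, c) = dA 0 ^ a.val * dA 1 ^ c.val from rfl, ← mul_assoc, ← hac, mul_inv_cancel_right]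
      have e' : g = (b : G) * (y : G) := congrArg Subtype.val e.symm
      rw [e', ← hm, hm']
      simp only [mul_assoc]
      rfl

end Data

end Cfsg.Agent.Spor.AltNine
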