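import Cfsg.Agent.Lib.Spor.AltNine.Label

/-!
Agreement between the coordinates on the centraliser of the first three-cycle and those on the normaliser.
-/

set_option autoImplicit false
set_option maxRecDepth 100000
set_option linter.style.haveILetI false

namespace Cfsg.Agent.Spor.AltNine

open Equiv Subgroup Cfsg
open Cfsg.Agent.Solv.Special.W648

/-- the alternating group of degree six -/
abbrev A6 : Type := alternatingGroup (Fin 6)

theorem gen_cent : ∀ z : A6, z * stdGen 6 (0 : Fin 4) = stdGen 6 (0 : Fin 4) * z →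
    z * stdGen 6 (2 : Fin 4) = stdGen 6 (2 : Fin 4) * z → z * stdGen 6 (3 : Fin 4) = stdGen 6 (3 : Fin 4) * z →
    z = 1 := by
  decide +kernel

/-- the common part of the normaliser, in the first coordinates -/
def w18 (e : Fin 3 × Fin 3 × Fin 2) : M648 := mX1 ^ e.1.val * (mX3 * mX4) ^ e.2.1.val * mX3 ^ e.2.2.val

/-- the common part of the normaliser, in the second coordinates -/
def w18' (e : Fin 3 × Fin 3 × Fin 2) : A6 :=
  stdGen 6 (0 : Fin 4) ^ e.1.val * (stdGen 6 (2 : Fin 4) * stdGen 6 (3 : Fin 4)) ^ e.2.1.val *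
    stdGen 6 (2 : Fin 4) ^ e.2.2.val

/-- the element of the normaliser acts as the given permutation -/
def Acts (m : M648) (x : A6) : Prop :=
  m * jA = jA * m ∧
    (∃ e, m * mX1 * m⁻¹ = w18 e ∧ x * stdGen 6 (0 : Fin 4) * x⁻¹ = w18' e) ∧
    (∃ e, m * mX3 * m⁻¹ = w18 e ∧ x * stdGen 6 (2 : Fin 4) * x⁻¹ = w18' e) ∧
    (∃ e, m * mX4 * m⁻¹ = w18 e ∧ x * stdGen 6 (3 : Fin 4) * x⁻¹ = w18' e)

/-- the element moving the second and third blocks to the first and second -/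
def mH : M648 := gB⁻¹
/-- the third three-cycle -/
def mE3 : M648 := mH * jA * mH⁻¹

theorem mH_conj : mH * mX1 * mH⁻¹ = jA ∧ mH * mX3 * mH⁻¹ = mTau ∧ mE3 ^ 3 = 1 ∧ mE3 ≠ 1 ∧
    jA * mE3 = mE3 * jA ∧ (∃ e, mE3 = w18 e) ∧ jA ^ 3 = 1 ∧ jA ≠ 1 := by
  decide +kernel

theorem six_orders' : ∀ p : P6, Perm.sign p = 1 → (∀ i, p (p (p i)) = i) ∨ (∀ i, p (p (p (p i))) = i) ∨
    ∀ i, p (p (p (p (p i)))) = i := by
  decide +kernel

theorem six_orders (x : A6) : x ^ 3 = 1 ∨ x ^ 4 = 1 ∨ x ^ 5 = 1 := by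
  rcases six_orders' x (Perm.mem_alternatingGroup.1 x.2) with h | h | h
  exacts [Or.inl (Subtype.ext (Equiv.ext h)), Or.inr (Or.inl (Subtype.ext (Equiv.ext h))),
    Or.inr (Or.inr (Subtype.ext (Equiv.ext h)))]

namespace Big

variable {G : Type*} [Group G] {d : Data G} (B : Big d)

include B

theorem w18_map (e : Fin 3 × Fin 3 × Fin 2) : B.Φ (w18' e) = d.φ (w18 e) := by
  simp only [w18, w18', map_mul, map_pow, B.gen0, B.gen2, B.gen3]

theorem center_triv {i : ℕ} {x : A6} (h : d.φ jA ^ i = B.Φ x) : x = 1 ∧ d.φ jA ^ i = 1 := by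
  have hc : ∀ y, x * y = y * x := fun y => B.inj (by
    rw [map_mul, map_mul, ← h]; exact ((B.comm y).symm.pow_left i).eq)
  have := gen_cent x (hc _) (hc _) (hc _)
  exact ⟨this, by rw [h, this, map_one]⟩

theorem acts_form {m : M648} {x : A6} (h : Acts m x) : ∃ i : ℕ, d.φ m = d.φ jA ^ i * B.Φ x := by
  obtain ⟨hm, h0, h2, h3⟩ := h
  obtain ⟨i, y, hy⟩ := B.cent (d.φ m) ((show Commute m jA from hm).map d.φ)
  refine ⟨i, ?_⟩
  have hconj : ∀ g : A6, d.φ m * B.Φ g * (d.φ m)⁻¹ = B.Φ (y * g * y⁻¹) := fun g => by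
    rw [hy, map_mul B.Φ, map_mul B.Φ, map_inv B.Φ]
    calc d.φ jA ^ i * B.Φ y * B.Φ g * (d.φ jA ^ i * B.Φ y)⁻¹
        = d.φ jA ^ i * (B.Φ y * B.Φ g * (B.Φ y)⁻¹) * (d.φ jA ^ i)⁻¹ := by group
      _ = B.Φ y * B.Φ g * (B.Φ y)⁻¹ := by
        have hc : Commute (d.φ jA ^ i) (B.Φ y * B.Φ g * (B.Φ y)⁻¹) := by
          have := ((B.comm (y * g * y⁻¹)).symm.pow_left i)
          rwa [map_mul, map_mul, map_inv] at this
        rw [hc.eq, mul_inv_cancel_right]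
  have key : ∀ (g : A6) (n : M648), B.Φ g = d.φ n → (∃ e, m * n * m⁻¹ = w18 e ∧ x * g * x⁻¹ = w18' e) →
      x⁻¹ * y * g = g * (x⁻¹ * y) := by
    rintro g n hgn ⟨e, e1, e2⟩
    have : y * g * y⁻¹ = x * g * x⁻¹ := B.inj (by
      rw [← hconj, hgn, e2, B.w18_map, ← e1, map_mul, map_mul, map_inv])
    calc x⁻¹ * y * g = x⁻¹ * (y * g * y⁻¹) * y := by group
      _ = g * (x⁻¹ * y) := by rw [this]; group
  have hz := gen_cent (x⁻¹ * y) (key _ _ B.gen0 h0) (key _ _ B.gen2 h2) (key _ _ B.gen3 h3)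
  rw [hy, ← inv_mul_eq_one.1 hz]

theorem acts_conj {m : M648} {x : A6} (h : Acts m x) (g : A6) :
    d.φ m * B.Φ g * (d.φ m)⁻¹ = B.Φ (x * g * x⁻¹) := by
  obtain ⟨i, hi⟩ := B.acts_form h
  have hc : Commute (d.φ jA ^ i) (B.Φ (x * g * x⁻¹)) := (B.comm _).symm.pow_left i
  calc d.φ m * B.Φ g * (d.φ m)⁻¹ = d.φ jA ^ i * B.Φ (x * g * x⁻¹) * (d.φ jA ^ i)⁻¹ := by
        rw [hi, map_mul, map_mul, map_inv]; group
    _ = B.Φ (x * g * x⁻¹) := by rw [hc.eq, mul_inv_cancel_right]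

theorem acts_eq {m : M648} {x : A6} (h : Acts m x) (h4 : m ^ 4 = 1) : d.φ m = B.Φ x := by
  obtain ⟨i, hi⟩ := B.acts_form h
  have hc : Commute (d.φ jA ^ i) (B.Φ x) := (B.comm _).symm.pow_left i
  have h1 : d.φ jA ^ (4 * i) = B.Φ (x ^ 4)⁻¹ := by
    rw [map_inv]
    refine eq_inv_of_mul_eq_one_left ?_
    rw [mul_comm 4 i, pow_mul, map_pow, ← hc.mul_pow, ← hi, ← map_pow, h4, map_one]
  have h2 := (B.center_triv h1).2
  have ha : d.φ jA ^ 3 = 1 := by rw [← map_pow, mH_conj.2.2.2.2.2.2.1, map_one]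
  rw [show 4 * i = 3 * i + i by ring, pow_add, pow_mul, ha, one_pow, one_mul] at h2
  rw [hi, h2, one_mul]

theorem tau_sq : d.φ mTau * d.φ mTau = 1 := by
  rw [← map_mul, mTau_rels.1, map_one]

theorem tau_inv : (d.φ mTau)⁻¹ = d.φ mTau := inv_eq_of_mul_eq_one_right B.tau_sq

theorem tau_mul (x y : A6) : d.φ mTau * B.Φ x * (d.φ mTau * B.Φ y) = B.Φ (oddConj x * y) := by
  rw [map_mul, ← B.tau x, B.tau_inv]
  group

theorem tau_comm {x : A6} (h : oddConj x = x) : Commute (d.φ mTau) (B.Φ x) := by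
  have h1 := B.tau x
  rw [h, mul_inv_eq_iff_eq_mul] at h1
  exact h1

/-- the coordinates on the centraliser of the third three-cycle -/
noncomputable def ψ : A6 →* G := (MulAut.conj (d.φ mH)).toMonoidHom.comp B.Φ

theorem ψ_apply (x : A6) : B.ψ x = d.φ mH * B.Φ x * (d.φ mH)⁻¹ := rfl

theorem ψ_inj : Function.Injective B.ψ := (MulAut.conj (d.φ mH)).injective.comp B.inj

theorem ψ_gen0 : B.ψ (stdGen 6 (0 : Fin 4)) = d.φ jA := by
  rw [ψ_apply, B.gen0, ← map_inv, ← map_mul, ← map_mul, mH_conj.1]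

theorem ψ_gen2 : B.ψ (stdGen 6 (2 : Fin 4)) = d.φ mTau := by
  rw [ψ_apply, B.gen2, ← map_inv, ← map_mul, ← map_mul, mH_conj.2.1]

theorem e3_eq : d.φ mE3 = d.φ mH * d.φ jA * (d.φ mH)⁻¹ := by
  rw [mE3, map_mul, map_mul, map_inv]

theorem ψ_comm (x : A6) : Commute (B.ψ x) (d.φ mE3) := by
  rw [B.e3_eq, ψ_apply]
  exact (B.comm x).map (MulAut.conj (d.φ mH)).toMonoidHom

theorem cent_e3 {g : G} (hg : Commute g (d.φ mE3)) : ∃ (i : ℕ) (x : A6), g = d.φ mE3 ^ i * B.ψ x := by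
  obtain ⟨i, x, hx⟩ := B.cent ((d.φ mH)⁻¹ * g * d.φ mH) (by
    rw [B.e3_eq] at hg
    have := hg.map (MulAut.conj (d.φ mH)⁻¹).toMonoidHom
    simp only [MulEquiv.coe_toMonoidHom, MulAut.conj_apply, inv_inv] at this
    rwa [show (d.φ mH)⁻¹ * (d.φ mH * d.φ jA * (d.φ mH)⁻¹) * d.φ mH = d.φ jA by group] at this)
  refine ⟨i, x, ?_⟩
  rw [B.e3_eq, ψ_apply, conj_pow]
  calc g = d.φ mH * ((d.φ mH)⁻¹ * g * d.φ mH) * (d.φ mH)⁻¹ := by group
    _ = d.φ mH * (d.φ jA ^ i * B.Φ x) * (d.φ mH)⁻¹ := by rw [hx]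
    _ = _ := by group

theorem seven_A {g : G} (hg : Commute g (d.φ jA)) (h7 : g ^ 7 = 1) : g = 1 := by
  obtain ⟨i, x, rfl⟩ := B.cent g hg
  rw [((B.comm x).symm.pow_left i).mul_pow, ← pow_mul, ← map_pow B.Φ] at h7
  have h1 : d.φ jA ^ (i * 7) = B.Φ (x ^ 7)⁻¹ := by rw [map_inv]; exact eq_inv_of_mul_eq_one_left h7
  obtain ⟨h2, h3⟩ := B.center_triv h1
  rw [inv_eq_one] at h2
  have hx : x = 1 := by
    rcases six_orders x with h | h | h
    all_goals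
      have := pow_gcd_eq_one.mpr ⟨h, h2⟩
      simpa using this
  have ha : d.φ jA ^ 3 = 1 := by rw [← map_pow, mH_conj.2.2.2.2.2.2.1, map_one]
  have h6 : d.φ jA ^ (i * 6) = 1 := by rw [show i * 6 = 3 * (2 * i) by ring, pow_mul, ha, one_pow]
  rw [show i * 7 = i * 6 + i by ring, pow_add, h6, one_mul] at h3
  rw [h3, hx, map_one, mul_one]

theorem seven_E3 {g : G} (hg : Commute g (d.φ mE3)) (h7 : g ^ 7 = 1) : g = 1 := by
  have h := B.seven_A (g := (d.φ mH)⁻¹ * g * d.φ mH) (by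
    rw [B.e3_eq] at hg
    have := hg.map (MulAut.conj (d.φ mH)⁻¹).toMonoidHom
    simp only [MulEquiv.coe_toMonoidHom, MulAut.conj_apply, inv_inv] at this
    rwa [show (d.φ mH)⁻¹ * (d.φ mH * d.φ jA * (d.φ mH)⁻¹) * d.φ mH = d.φ jA by group] at this)
    (by
      have := conj_pow (a := (d.φ mH)⁻¹) (b := g) (i := 7)
      rw [inv_inv] at this
      rw [this, h7]; group)
  calc g = d.φ mH * ((d.φ mH)⁻¹ * g * d.φ mH) * (d.φ mH)⁻¹ := by group
    _ = 1 := by rw [h]; group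

end Big

end Cfsg.Agent.Spor.AltNine
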