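import Cfsg.Agent.Lib.Spor.AltNine.CaseThree
import Cfsg.Agent.Lib.Spor.AltNine.Top.Main

/-!
The relations of the alternating group of degree nine, and the isomorphism.
-/

set_option autoImplicit false
set_option maxRecDepth 100000
set_option synthInstance.maxSize 8000
set_option linter.style.haveILetI false

namespace Cfsg.Agent.Spor.AltNine

open Equiv Subgroup Cfsg
open Cfsg.Agent.Solv.Special.W648
open Cfsg.Agent.S3335 (Sat)

def m4 : M648 := back (swap 0 1) (swap 1 2) 1 1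
def m6 : M648 := back (swap 0 1) 1 (swap 0 1) 1
def m7 : M648 := back (swap 0 1) 1 (swap 1 2) 1
/-- `(06)(17)(28)(35)` -/
def pM : M648 := back 1 (swap 0 2) 1 (swap 0 2)
def qM : M648 := pM * mH
def xQ : A6 := mk6 (swap 0 3 * swap 3 2 * swap 2 5 * swap 1 4) (by simp)

theorem m_facts : m4 * m4 = 1 ∧ m6 * m6 = 1 ∧ m7 * m7 = 1 ∧ (mTau * m4) ^ 3 = 1 ∧ (m6 * m7) ^ 3 = 1 ∧
    m4 = mTau * mX1 ∧ m6 = mTau * mX3 ∧ m7 = mTau * mX4 ∧ m4 = mH * mX4 * mH⁻¹ ∧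
    (∃ k : Fin 3, m7 = mH * (jA ^ k.val * mTau * (jA ^ k.val)⁻¹) * mH⁻¹) ∧
    jA * (mTau * m4) = jB ∧ jA * (mTau * m4) * (m6 * m7) = jC ∧ pM * pM = 1 ∧
    (∃ j : Fin 3, pM * jA * pM⁻¹ = mE3 ^ j.val) ∧ (∀ z ∈ [mTau, m4, m6, m7], (jA * z) ^ 2 = 1) ∧
    (mTau * m6) ^ 2 = 1 ∧ (mTau * m7) ^ 2 = 1 ∧ (m4 * m6) ^ 2 = 1 ∧ (m4 * m7) ^ 2 = 1 := by
  decide +kernel

theorem acts_q : Acts qM xQ := by
  refine ⟨?_, ?_, ?_, ?_⟩ <;> decide +kernel

theorem acts_U : ∃ x : A6, Acts mU x := by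
  unfold Acts
  decide +kernel

theorem six_rels : stdGen 6 (1 : Fin 4) = sA ∧ (stdGen 6 (0 : Fin 4) * sA) ^ 3 = 1 ∧
    (sA * stdGen 6 (2 : Fin 4)) ^ 3 = 1 ∧ (oddConj (stdGen 6 (0 : Fin 4)) * sA) ^ 3 = 1 ∧
    (oddConj sA * stdGen 6 (2 : Fin 4)) ^ 3 = 1 ∧ (sA * stdGen 6 (3 : Fin 4)) ^ 2 = 1 ∧
    (oddConj sA * stdGen 6 (3 : Fin 4)) ^ 2 = 1 ∧ xQ * sA * xQ⁻¹ = u1A * u2A ∧
    xQ⁻¹ * (u1A * u2A) * xQ = sA ∧
    (∃ j : Fin 3, stdGen 6 (2 : Fin 4) * sA = (u1A * u2A * xE3 * (u1A * u2A)⁻¹) ^ j.val) ∧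
    (∀ j : Fin 3, j ≠ 0 → ∃ k : Fin 3, (xE3 ^ j.val) ^ k.val = xE3) := by
  decide +kernel

theorem stdGen9_sat : Sat (stdGen 9) := by
  constructor <;> decide +kernel

/-- the six generators generate -/
theorem gen6_mem (S : Subgroup A6) (h : ∀ k, stdGen 6 k ∈ S) (x : A6) : x ∈ S := by
  have hsat : Sat (fun k => (⟨stdGen 6 k, h k⟩ : S)) := by
    refine ⟨fun i hi => Subtype.ext ?_, fun i hi => Subtype.ext ?_, fun i j hij => Subtype.ext ?_,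
      fun i j hij => Subtype.ext ?_⟩ <;> simp only [SubmonoidClass.coe_pow, Subgroup.coe_mul, OneMemClass.coe_one]
    exacts [stdGen6_sat.cube i hi, stdGen6_sat.sq i hi, stdGen6_sat.three i j hij, stdGen6_sat.two i j hij]
  obtain ⟨g, hg, -⟩ := exists_hom (n := 6) (by norm_num) stdGen6_sat hsat
  have := DFunLike.congr_fun (closure_gen6 (f := S.subtype.comp g) (f' := MonoidHom.id A6)
    (fun k => by rw [MonoidHom.comp_apply, hg]; rfl)) x
  rw [MonoidHom.id_apply] at this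
  rw [← this]
  exact (g x).2

theorem block_words : ∀ m ∈ [gB, gC, gD], ∃ (i j k : Fin 3) (p q : Fin 2) (r : Fin 6),
    m = jA ^ i.val * (mTau * m4) ^ j.val * (m6 * m7) ^ k.val * mTau ^ p.val * (mTau * m6) ^ q.val *
      ![1, mU, mH * mU * mH⁻¹, mU * (mH * mU * mH⁻¹), mH * mU * mH⁻¹ * mU,
        mU * (mH * mU * mH⁻¹) * mU] r := by
  decide +kernel

namespace Big

variable {G : Type*} [Group G] {d : Data G} (B : Big d)

/-- the generators of the copy -/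
noncomputable def gens : Fin 7 → G :=
  ![d.φ jA, B.ψ sA, d.φ mTau, d.φ m4, d.φ mTau * B.Φ sA, d.φ m6, d.φ m7]

include B

theorem conj_p (z : A6) : d.φ pM * B.ψ z * (d.φ pM)⁻¹ = B.Φ (xQ * z * xQ⁻¹) := by
  rw [← B.acts_conj acts_q z, qM, map_mul, ψ_apply]; group

theorem conj_p' (z : A6) : d.φ pM * B.Φ z * (d.φ pM)⁻¹ = B.ψ (xQ⁻¹ * z * xQ) := by
  have h := B.acts_conj acts_q (xQ⁻¹ * z * xQ)
  rw [show xQ * (xQ⁻¹ * z * xQ) * xQ⁻¹ = z by group] at h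
  have hp : (d.φ pM)⁻¹ = d.φ pM := inv_eq_of_mul_eq_one_right (by rw [← map_mul, m_facts.2.2.2.2.2.2.2.2.2.2.2.2.1, map_one])
  rw [← h, qM, map_mul, ψ_apply]
  calc d.φ pM * (d.φ pM * d.φ mH * B.Φ (xQ⁻¹ * z * xQ) * (d.φ pM * d.φ mH)⁻¹) * (d.φ pM)⁻¹
      = d.φ pM * d.φ pM * (d.φ mH * B.Φ (xQ⁻¹ * z * xQ) * (d.φ mH)⁻¹) * ((d.φ pM)⁻¹ * (d.φ pM)⁻¹) := by group
    _ = d.φ mH * B.Φ (xQ⁻¹ * z * xQ) * (d.φ mH)⁻¹ := by
        rw [hp, ← map_mul, m_facts.2.2.2.2.2.2.2.2.2.2.2.2.1, map_one]; group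

theorem s_comm_tau : Commute (B.Φ sA) (d.φ mTau) := (B.tau_comm d8_facts.2.2.1).symm

theorem s_sq : B.Φ sA * B.Φ sA = 1 := by rw [← map_mul, s_facts.1, map_one]

theorem rel_15 : Commute (B.ψ sA) (d.φ m6) := by
  rw [m_facts.2.2.2.2.2.2.1, inv_facts.2.2.2.2.2.2.2.1, map_mul, map_mul, map_inv]
  exact B.s_comm_tau.map (MulAut.conj (d.φ mH)).toMonoidHom

theorem rel_16 : Commute (B.ψ sA) (d.φ m7) := by
  obtain ⟨-, -, -, -, -, -, -, -, -, ⟨k, hk⟩, -⟩ := m_facts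
  rw [hk, map_mul, map_mul, map_inv d.φ mH]
  refine Commute.map ?_ (MulAut.conj (d.φ mH)).toMonoidHom
  simp only [map_mul, map_inv, map_pow]
  exact (((B.comm sA).pow_right _).mul_right B.s_comm_tau).mul_right ((B.comm sA).pow_right _).inv_right

variable [Finite G]

theorem rel_14 : Commute (B.ψ sA) (d.φ mTau * B.Φ sA) := by
  obtain ⟨-, -, -, -, -, -, -, hq, hq', ⟨j, hj⟩, hk⟩ := six_rels
  obtain ⟨-, -, -, -, -, -, h6, -, -, -, -, -, -, ⟨i, hi⟩, -⟩ := m_facts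
  have hc : Commute (B.ψ sA * d.φ jA * (B.ψ sA)⁻¹) (B.Φ (u1A * u2A)) :=
    (B.g2_comm.mul_left (B.comm _).symm).mul_left B.g2_comm.inv_left
  have hm := hc.map (MulAut.conj (d.φ pM)).toMonoidHom
  simp only [MulEquiv.coe_toMonoidHom, MulAut.conj_apply] at hm
  rw [B.conj_p', hq'] at hm
  have e : d.φ pM * (B.ψ sA * d.φ jA * (B.ψ sA)⁻¹) * (d.φ pM)⁻¹ =
      B.Φ (u1A * u2A * xE3 ^ i.val * (u1A * u2A)⁻¹) := by
    calc d.φ pM * (B.ψ sA * d.φ jA * (B.ψ sA)⁻¹) * (d.φ pM)⁻¹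
        = d.φ pM * B.ψ sA * (d.φ pM)⁻¹ * (d.φ pM * d.φ jA * (d.φ pM)⁻¹) *
          (d.φ pM * B.ψ sA * (d.φ pM)⁻¹)⁻¹ := by group
      _ = B.Φ (u1A * u2A * xE3 ^ i.val * (u1A * u2A)⁻¹) := by
        rw [B.conj_p, hq, ← map_inv d.φ pM, ← map_mul, ← map_mul, hi, map_pow, B.phi_E3, ← map_pow, ← map_inv,
          ← map_mul, ← map_mul]
  rw [e] at hm
  have hi0 : i ≠ 0 := by
    rintro rfl
    rw [show ((0 : Fin 3).val) = 0 from rfl, pow_zero, mul_inv_eq_one] at hi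
    exact mH_conj.2.2.2.2.2.2.2 (mul_left_cancel (hi.trans (mul_one _).symm))
  obtain ⟨k, hk⟩ := hk i hi0
  have hm2 : Commute (B.ψ sA) (B.Φ (u1A * u2A * xE3 * (u1A * u2A)⁻¹)) := by
    have := hm.symm.pow_right k.val
    rwa [← map_pow, conj_pow, hk] at this
  have hm3 : Commute (B.ψ sA) (B.Φ (stdGen 6 (2 : Fin 4) * sA)) := by
    rw [hj, map_pow]; exact hm2.pow_right _
  have e5 : d.φ mTau * B.Φ sA = d.φ m6 * B.Φ (stdGen 6 (2 : Fin 4) * sA) := by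
    rw [h6, map_mul, ← B.gen2, map_mul, mul_assoc, ← mul_assoc (B.Φ _) (B.Φ _) (B.Φ sA), ← map_mul B.Φ,
      show stdGen 6 (2 : Fin 4) * stdGen 6 (2 : Fin 4) = 1 by
        rw [← pow_two]; exact stdGen6_sat.sq _ (by decide), map_one, one_mul]
  rw [e5]
  exact B.rel_15.mul_right hm3

set_option maxHeartbeats 1600000 in
theorem gens_sat : Sat (n := 9) B.gens := by
  obtain ⟨h4, h6, h7, t34, t67, e4, e6, e7, e4', -, -, -, -, -, hA, u26, u27, u46, u47⟩ := m_facts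
  obtain ⟨hs1, r01, r12, r34, r45, r13, r46, -⟩ := six_rels
  have hτ : mTau * mTau = 1 := mTau_rels.1
  have sqv : ∀ {z : M648}, z * z = 1 → d.φ z * d.φ z = 1 := fun h => by rw [← map_mul, h, map_one]
  have v3 : d.φ m4 = d.φ mTau * B.Φ (stdGen 6 (0 : Fin 4)) := by rw [e4, map_mul, B.gen0]
  have v5 : d.φ m6 = d.φ mTau * B.Φ (stdGen 6 (2 : Fin 4)) := by rw [e6, map_mul, B.gen2]
  have v6 : d.φ m7 = d.φ mTau * B.Φ (stdGen 6 (3 : Fin 4)) := by rw [e7, map_mul, B.gen3]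
  have v3' : d.φ m4 = B.ψ (stdGen 6 (3 : Fin 4)) := by rw [e4', ψ_apply, B.gen3, map_mul, map_mul, map_inv]
  have csq : ∀ {p q : G}, Commute p q → p * p = 1 → q * q = 1 → (p * q) ^ 2 = 1 := fun hc hp hq => by
    rw [hc.mul_pow, pow_two, pow_two, hp, hq, one_mul]
  have sqψ : B.ψ sA * B.ψ sA = 1 := by rw [← map_mul, s_facts.1, map_one]
  have sq4 : d.φ mTau * B.Φ sA * (d.φ mTau * B.Φ sA) = 1 := by
    rw [B.tau_mul, d8_facts.2.2.1, s_facts.1, map_one]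
  refine ⟨fun i hi => ?_, fun i hi => ?_, fun i j hij => ?_, fun i j hij => ?_⟩
  · obtain rfl : i = (0 : Fin 7) := Fin.ext hi
    show d.φ jA ^ 3 = 1
    rw [← map_pow, mH_conj.2.2.2.2.2.2.1, map_one]
  · rw [pow_two]
    rcases i with ⟨_ | _ | _ | _ | _ | _ | _ | n, h⟩
    · exact absurd hi (by simp)
    exacts [sqψ, sqv hτ, sqv h4, sq4, sqv h6, sqv h7, absurd h (by omega)]
  · rcases i with ⟨_ | _ | _ | _ | _ | _ | _ | n, h⟩ <;> rcases j with ⟨_ | _ | _ | _ | _ | _ | _ | m, h'⟩ <;>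
      first
        | (exfalso; simp only at hij; omega)
        | (show (d.φ jA * B.ψ sA) ^ 3 = 1; rw [← B.ψ_gen0, ← map_mul, ← map_pow, r01, map_one])
        | (show (B.ψ sA * d.φ mTau) ^ 3 = 1; rw [← B.ψ_gen2, ← map_mul, ← map_pow, r12, map_one])
        | (show (d.φ mTau * d.φ m4) ^ 3 = 1; rw [← map_mul, ← map_pow, t34, map_one])
        | (show (d.φ m4 * (d.φ mTau * B.Φ sA)) ^ 3 = 1; rw [v3, B.tau_mul, ← map_pow, r34, map_one])
        | (show (d.φ mTau * B.Φ sA * d.φ m6) ^ 3 = 1; rw [v5, B.tau_mul, ← map_pow, r45, map_one])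
        | (show (d.φ m6 * d.φ m7) ^ 3 = 1; rw [← map_mul, ← map_pow, t67, map_one])
  · have mdl : ∀ {z w : M648}, (z * w) ^ 2 = 1 → (d.φ z * d.φ w) ^ 2 = 1 := fun h => by
      rw [← map_mul, ← map_pow, h, map_one]
    have c04 : (d.φ jA * (d.φ mTau * B.Φ sA)) ^ 2 = 1 := by
      rw [← mul_assoc, ((B.comm sA).symm.mul_left (B.tau_comm d8_facts.2.2.1)).mul_pow, mdl (hA _ (by simp)),
        pow_two, B.s_sq, one_mul]
    have c24 : (d.φ mTau * (d.φ mTau * B.Φ sA)) ^ 2 = 1 := by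
      rw [← mul_assoc, B.tau_sq, one_mul, pow_two, B.s_sq]
    have a2 := mdl (hA mTau (by simp))
    have a3 := mdl (hA m4 (by simp))
    have a5 := mdl (hA m6 (by simp))
    have a6 := mdl (hA m7 (by simp))
    rcases i with ⟨_ | _ | _ | _ | _ | _ | _ | n, h⟩ <;> rcases j with ⟨_ | _ | _ | _ | _ | _ | _ | m, h'⟩ <;>
      first
        | (exfalso; simp only at hij; omega)
        | exact a2
        | exact a3
        | exact a5
        | exact a6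
        | exact c04
        | exact c24
        | exact mdl u26
        | exact mdl u27
        | exact mdl u46
        | exact mdl u47
        | (show (B.ψ sA * d.φ m4) ^ 2 = 1; rw [v3', ← map_mul, ← map_pow, r13, map_one])
        | exact csq B.rel_14 sqψ sq4
        | exact csq B.rel_15 sqψ (sqv h6)
        | exact csq B.rel_16 sqψ (sqv h7)
        | (show (d.φ mTau * B.Φ sA * d.φ m7) ^ 2 = 1; rw [v6, B.tau_mul, ← map_pow, r46, map_one])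

set_option maxHeartbeats 800000 in
/-- the isomorphism -/
theorem iso_nine : Nonempty (G ≃* alternatingGroup (Fin 9)) := by
  obtain ⟨Ψ, hv, hinj'⟩ := exists_hom (n := 9) (by norm_num) stdGen9_sat B.gens_sat
  have hinj : Function.Injective Ψ := hinj' ⟨(0 : Fin 7), fun h => B.four_hyp_U.a1 h⟩
  obtain ⟨-, -, -, -, -, e4, e6, e7, e4', -, hb, hc, -⟩ := m_facts
  have mem : ∀ k, B.gens k ∈ Ψ.range := fun k => ⟨_, hv k⟩
  set R : Subgroup M648 := Ψ.range.comap d.φ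
  have ra : jA ∈ R := mem 0
  have rt : mTau ∈ R := mem 2
  have r4 : m4 ∈ R := mem 3
  have r6 : m6 ∈ R := mem 5
  have r7 : m7 ∈ R := mem 6
  have hτ : mTau * mTau = 1 := mTau_rels.1
  have hΦ : ∀ x, B.Φ x ∈ Ψ.range := gen6_mem (Ψ.range.comap B.Φ) fun k => by
    rw [Subgroup.mem_comap]
    fin_cases k
    · show B.Φ (stdGen 6 (0 : Fin 4)) ∈ _
      rw [B.gen0, show mX1 = mTau * m4 by rw [e4, ← mul_assoc, hτ, one_mul]]
      exact R.mul_mem rt r4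
    · show B.Φ (stdGen 6 (1 : Fin 4)) ∈ _
      rw [six_rels.1, show B.Φ sA = d.φ mTau * (d.φ mTau * B.Φ sA) by rw [← mul_assoc, B.tau_sq, one_mul]]
      exact mul_mem (mem 2) (mem 4)
    · show B.Φ (stdGen 6 (2 : Fin 4)) ∈ _
      rw [B.gen2, show mX3 = mTau * m6 by rw [e6, ← mul_assoc, hτ, one_mul]]
      exact R.mul_mem rt r6
    · show B.Φ (stdGen 6 (3 : Fin 4)) ∈ _
      rw [B.gen3, show mX4 = mTau * m7 by rw [e7, ← mul_assoc, hτ, one_mul]]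
      exact R.mul_mem rt r7
  have hψ : ∀ x, B.ψ x ∈ Ψ.range := gen6_mem (Ψ.range.comap B.ψ) fun k => by
    rw [Subgroup.mem_comap]
    fin_cases k
    · show B.ψ (stdGen 6 (0 : Fin 4)) ∈ _
      rw [B.ψ_gen0]; exact mem 0
    · show B.ψ (stdGen 6 (1 : Fin 4)) ∈ _
      rw [six_rels.1]; exact mem 1
    · show B.ψ (stdGen 6 (2 : Fin 4)) ∈ _
      rw [B.ψ_gen2]; exact mem 2
    · show B.ψ (stdGen 6 (3 : Fin 4)) ∈ _
      rw [ψ_apply, B.gen3, ← map_inv, ← map_mul, ← map_mul, ← e4']; exact mem 3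
  obtain ⟨xu, hxu⟩ := acts_U
  have hu4 : mU ^ 4 = 1 := by rw [show 4 = 2 * 2 from rfl, pow_mul, pow_two, pow_two]; exact mU_facts.1
  have ru : mU ∈ R := by
    show d.φ mU ∈ Ψ.range
    rw [B.acts_eq hxu hu4]; exact hΦ xu
  have ry : mH * mU * mH⁻¹ ∈ R := by
    show d.φ _ ∈ Ψ.range
    rw [map_mul, map_mul, map_inv, B.acts_eq hxu hu4, ← ψ_apply]; exact hψ xu
  have hblk : ∀ m ∈ [gB, gC, gD], m ∈ R := by
    intro m hm
    obtain ⟨i, j, k, p, q, r, rfl⟩ := block_words m hm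
    refine R.mul_mem (R.mul_mem (R.mul_mem (R.mul_mem (R.mul_mem (pow_mem ra _) (pow_mem (R.mul_mem rt r4) _))
      (pow_mem (R.mul_mem r6 r7) _)) (pow_mem rt _)) (pow_mem (R.mul_mem rt r6) _)) ?_
    fin_cases r
    exacts [R.one_mem, ru, ry, R.mul_mem ru ry, R.mul_mem ry ru, R.mul_mem (R.mul_mem ru ry) ru]
  have hφ : d.φ.range ≤ Ψ.range := by
    rintro _ ⟨m, rfl⟩
    have hle : R = ⊤ := by
      refine top_le_iff.1 ?_
      rw [← Cfsg.Agent.Solv.Special.W648.closure_eq, closure_le]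
      intro z hz
      simp only [Set.mem_insert_iff, Set.mem_singleton_iff] at hz
      rcases hz with rfl | rfl | rfl | rfl
      · exact ra
      all_goals exact hblk _ (by simp)
    exact (show m ∈ R from hle ▸ mem_top m)
  have hb' : Ψ (stdGen 9 (0 : Fin 7) * (stdGen 9 (2 : Fin 7) * stdGen 9 (3 : Fin 7))) = d.φ jB := by
    rw [← hb, map_mul, map_mul, map_mul, map_mul, hv, hv, hv]; rfl
  have hc' : Ψ (stdGen 9 (0 : Fin 7) * (stdGen 9 (2 : Fin 7) * stdGen 9 (3 : Fin 7)) *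
      (stdGen 9 (5 : Fin 7) * stdGen 9 (6 : Fin 7))) = d.φ jC := by
    rw [← hc, map_mul, hb', map_mul, hv, hv, map_mul, hb, map_mul]; rfl
  have hcent : ∀ x, orderOf x = 3 → ∀ g : G, Commute g (Ψ x) → g ∈ Ψ.range := by
    intro x hx g hg
    have hx3 : (x : P9) ^ 3 = 1 := by rw [← SubmonoidClass.coe_pow, ← hx, pow_orderOf_eq_one]; rfl
    have hx1 : (x : P9) ≠ 1 := fun h => by
      rw [show x = 1 from Subtype.ext h, orderOf_one] at hx; norm_num at hx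
    obtain ⟨σ, hσ⟩ := Top.three_classes hx3 hx1
    have hg' : Commute (Ψ σ * g * (Ψ σ)⁻¹) (Ψ (σ * x * σ⁻¹)) := by
      rw [map_mul, map_mul, map_inv]
      exact hg.map (MulAut.conj (Ψ σ)).toMonoidHom
    suffices h : Ψ σ * g * (Ψ σ)⁻¹ ∈ Ψ.range by
      have hs : Ψ σ ∈ Ψ.range := ⟨σ, rfl⟩
      have := mul_mem (mul_mem (inv_mem hs) h) hs
      rwa [show (Ψ σ)⁻¹ * (Ψ σ * g * (Ψ σ)⁻¹) * Ψ σ = g by group] at this
    rcases hσ with h | h | h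
    · rw [show σ * x * σ⁻¹ = stdGen 9 (0 : Fin 7) from Subtype.ext (h.trans (by decide +kernel)), hv] at hg'
      obtain ⟨i, y, hy⟩ := B.cent _ hg'
      rw [hy]
      exact mul_mem (pow_mem (mem 0) _) (hΦ y)
    · rw [show σ * x * σ⁻¹ = stdGen 9 (0 : Fin 7) * (stdGen 9 (2 : Fin 7) * stdGen 9 (3 : Fin 7)) from
        Subtype.ext (h.trans (by decide +kernel)), hb'] at hg'
      obtain ⟨m, -, hm⟩ := d.centB hg'
      exact hφ ⟨m, hm⟩
    · rw [show σ * x * σ⁻¹ = stdGen 9 (0 : Fin 7) * (stdGen 9 (2 : Fin 7) * stdGen 9 (3 : Fin 7)) *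
        (stdGen 9 (5 : Fin 7) * stdGen 9 (6 : Fin 7)) from
        Subtype.ext (h.trans (by decide +kernel)), hc'] at hg'
      have hS : Ψ σ * g * (Ψ σ)⁻¹ ∈ centralizer ({d.φ jC} : Set G) := mem_centralizer_singleton_iff.2 hg'.eq
      rw [d.centC] at hS
      obtain ⟨m, -, hm⟩ := d.mem_S.1 hS
      exact hφ ⟨m, hm⟩
  have htop := Top.alt_nine_eq_top Ψ hinj hcent
  exact ⟨(MulEquiv.ofBijective Ψ ⟨hinj, MonoidHom.range_eq_top.1 htop⟩).symm⟩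

end Big

end Cfsg.Agent.Spor.AltNine
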