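import Cfsg.Agent.Lib.Spor.AltNine.CopyNine

/-!
From an abelian subgroup with the prescribed normaliser to the configuration.
-/

set_option autoImplicit false
set_option maxRecDepth 100000
set_option linter.style.haveILetI false

namespace Cfsg.Agent.Spor.AltNine

open Equiv Subgroup Cfsg
open Cfsg.Agent.Solv.Special.W648

theorem normal_three : ∀ m : M648, m ^ 3 = 1 → rot m ∨
    ∃ n : M648, m * (n * m * n⁻¹) ≠ n * m * n⁻¹ * m := by
  decide +kernel

theorem three_local {G : Type*} [Group G] [Finite G] (J H : Subgroup G) (hJc : IsMulCommutative J)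
    (hJexp : ∀ a ∈ J, a ^ 3 = 1) (hJcard : Nat.card J = 27) (hH : H = normalizer (J : Set G)) (e : M648 ≃* H)
    (hcores : ∀ x ∈ H, orderOf x = 3 → pPrimeCore 3 (centralizer ({x} : Set G)) = ⊥) :
    H = ⊤ ∨ Nonempty (G ≃* alternatingGroup (Fin 9)) := by
  haveI : Fact (Nat.Prime 3) := ⟨Nat.prime_three⟩
  set φ : M648 →* G := H.subtype.comp e.toMonoidHom
  have hφ : Function.Injective φ := H.subtype_injective.comp e.injective
  have hrange : φ.range = H := by
    ext x
    exact ⟨fun ⟨m, hm⟩ => hm ▸ (e m).2, fun hx => ⟨e.symm ⟨x, hx⟩, congrArg Subtype.val (e.apply_symm_apply _)⟩⟩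
  have hJH : J ≤ H := hH ▸ le_normalizer
  set A : Subgroup M648 := J.comap φ
  have hcom : ∀ p ∈ A, ∀ q ∈ A, p * q = q * p := fun p hp q hq => hφ (by
    rw [map_mul, map_mul]; exact congrArg Subtype.val (hJc.is_comm.comm ⟨φ p, hp⟩ ⟨φ q, hq⟩))
  have hrot : A ≤ JM := fun m hm => by
    rcases normal_three m (hφ (by rw [map_pow, map_one]; exact hJexp _ hm)) with h | ⟨n, hn⟩
    · exact h
    · refine absurd (hcom m hm _ ?_) hn
      show φ (n * m * n⁻¹) ∈ J
      rw [map_mul, map_mul, map_inv]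
      have hn' : φ n ∈ normalizer (J : Set G) := hH ▸ hrange ▸ ⟨n, rfl⟩
      exact (Subgroup.mem_normalizer_iff.1 hn' _).1 hm
  have hAcard : Nat.card A = 27 := by
    rw [← card_map_of_injective hφ, map_comap_eq_self (hrange ▸ hJH), hJcard]
  have hA : A = JM := eq_of_le_of_card_ge hrot (by rw [card_JM, hAcard])
  have hmem : ∀ {g : G}, g ∈ J ↔ ∃ j, rot j ∧ φ j = g := fun {g} => by
    refine ⟨fun hg => ?_, fun ⟨j, hj, hjg⟩ => ?_⟩
    · obtain ⟨j, rfl⟩ : g ∈ φ.range := hrange ▸ hJH hg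
      exact ⟨j, (hA ▸ (show j ∈ A from hg) : j ∈ JM), rfl⟩
    · exact hjg ▸ (show j ∈ A from hA ▸ hj)
  let d : Data G :=
    { φ := φ
      inj := hφ
      hN := fun g hg => by
        rw [hrange, hH, mem_normalizer_iff_map_conj_eq]
        refine eq_of_le_of_card_ge ?_
          (le_of_eq (card_map_of_injective (f := (MulAut.conj g).toMonoidHom) (MulAut.conj g).injective).symm)
        rintro _ ⟨x, hx, rfl⟩
        obtain ⟨j, hj, rfl⟩ := hmem.1 hx
        obtain ⟨j', hj', h⟩ := hg j hj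
        exact hmem.2 ⟨j', hj', h.symm⟩
      hcore := fun m hm hm1 => hcores _ (hrange ▸ ⟨m, rfl⟩)
        (orderOf_eq_prime (by rw [← map_pow, hm, map_one]) fun h => hm1 (hφ (h.trans (map_one φ).symm))) }
  rcases d.top_or_big with h | hB
  · exact Or.inl (hrange ▸ h)
  · exact Or.inr (hB.elim fun B => Big.iso_nine B)

end Cfsg.Agent.Spor.AltNine
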