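import Cfsg.Agent.Lib.Spor.AltNine.Top.Klein
import Cfsg.Agent.Lib.Lie.PSpFourThreeFull.EightSig

/-!
The centraliser of a four-group under the action of an elementary abelian group of order nine, one of whose
elements centralises the four-group and is self-centralising modulo it, while a second one moves it.
-/

set_option autoImplicit false
set_option linter.unusedSectionVars false
set_option linter.style.haveILetI false

namespace Cfsg.Agent.Spor.AltNine

open Subgroup

variable {G : Type*} [Group G]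

/-- what is known about two commuting involutions and the pair acting on them -/
structure FourHyp (u v a f : G) : Prop where
  uu : u * u = 1
  vv : v * v = 1
  uv : u * v = v * u
  a3 : a ^ 3 = 1
  a1 : a ≠ 1
  au : a * u = u * a
  av : a * v = v * a
  f3 : f ^ 3 = 1
  f1 : f ≠ 1
  fa : a * f = f * a
  fne : ∀ i : ℕ, f ≠ a ^ i
  fu : f * u * f⁻¹ ∈ closure ({u, v} : Set G)
  fv : f * v * f⁻¹ ∈ closure ({u, v} : Set G)
  centA : ∀ x : G, x ∈ centralizer ({u, v} : Set G) → Commute x a →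
    ∃ d ∈ closure ({u, v} : Set G), ∃ i : ℕ, x = d * a ^ i
  mix : ∀ x : G, x ∈ centralizer ({u, v} : Set G) → (Commute x (a * f) ∨ Commute x (a * (f * f))) →
    (orderOf x).Coprime 3 → x = 1
  seven : ∀ x : G, Commute x f → x ^ 7 = 1 → x = 1

theorem mem_cent_pair {u v x : G} : x ∈ centralizer ({u, v} : Set G) ↔ x * u = u * x ∧ x * v = v * x := by
  simp only [mem_centralizer_iff, Set.mem_insert_iff, Set.mem_singleton_iff, forall_eq_or_imp, forall_eq]
  exact ⟨fun h => ⟨h.1.symm, h.2.symm⟩, fun h => ⟨h.1.symm, h.2.symm⟩⟩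

namespace FourHyp

variable {u v a f : G} (h : FourHyp u v a f)

include h

theorem pair {d : G} (hd : d ∈ closure ({u, v} : Set G)) : d = 1 ∨ d = u ∨ d = v ∨ d = u * v :=
  Top.pair_mem h.uu h.vv h.uv hd

theorem pair_sq {d : G} (hd : d ∈ closure ({u, v} : Set G)) : d * d = 1 := by
  rcases h.pair hd with rfl | rfl | rfl | rfl
  · exact one_mul 1
  · exact h.uu
  · exact h.vv
  · calc u * v * (u * v) = u * (v * u) * v := by group
      _ = u * u * (v * v) := by rw [← h.uv]; group
      _ = 1 := by rw [h.uu, h.vv, one_mul]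

theorem pair_le : closure ({u, v} : Set G) ≤ centralizer ({u, v} : Set G) := by
  rw [closure_le]
  rintro x (rfl | rfl)
  · exact mem_cent_pair.2 ⟨rfl, h.uv⟩
  · exact mem_cent_pair.2 ⟨h.uv.symm, rfl⟩

theorem a_mem : a ∈ centralizer ({u, v} : Set G) := mem_cent_pair.2 ⟨h.au, h.av⟩

theorem pair_comm {d x : G} (hd : d ∈ closure ({u, v} : Set G)) (hx : x ∈ centralizer ({u, v} : Set G)) :
    d * x = x * d := by
  have hle : closure ({u, v} : Set G) ≤ centralizer ({x} : Set G) := by
    rw [closure_le]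
    rintro y (rfl | rfl) <;> rw [SetLike.mem_coe, mem_centralizer_singleton_iff]
    · exact (mem_cent_pair.1 hx).1.symm
    · exact (mem_cent_pair.1 hx).2.symm
  exact mem_centralizer_singleton_iff.1 (hle hd)

theorem f_norm [Finite G] : f ∈ normalizer ((centralizer ({u, v} : Set G) : Subgroup G) : Set G) := by
  have hle : (closure ({u, v} : Set G)).map (MulAut.conj f).toMonoidHom ≤ closure ({u, v} : Set G) := by
    rw [MonoidHom.map_closure, closure_le]
    rintro _ ⟨y, rfl | rfl, rfl⟩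
    exacts [h.fu, h.fv]
  have hn : f ∈ normalizer ((closure ({u, v} : Set G)) : Set G) :=
    mem_normalizer_iff_map_conj_eq.2 (eq_of_le_of_card_ge hle
      (le_of_eq (card_map_of_injective (f := (MulAut.conj f).toMonoidHom) (MulAut.conj f).injective).symm))
  rw [← centralizer_closure]
  rw [Subgroup.mem_normalizer_iff]
  intro x
  have hn' := Subgroup.mem_normalizer_iff.1 hn
  constructor <;> intro hx <;> simp only [mem_centralizer_iff, SetLike.mem_coe] at hx ⊢ <;> intro y hy
  · have hy' : f⁻¹ * y * f ∈ closure ({u, v} : Set G) := (hn' _).2 (by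
      rw [show f * (f⁻¹ * y * f) * f⁻¹ = y by group]; exact hy)
    calc y * (f * x * f⁻¹) = f * (f⁻¹ * y * f * x) * f⁻¹ := by group
      _ = f * (x * (f⁻¹ * y * f)) * f⁻¹ := by rw [hx _ hy']
      _ = f * x * f⁻¹ * y := by group
  · have h2 := hx (f * y * f⁻¹) ((hn' y).1 hy)
    have h3 : f * (y * x) * f⁻¹ = f * (x * y) * f⁻¹ := by
      calc f * (y * x) * f⁻¹ = f * y * f⁻¹ * (f * x * f⁻¹) := by group
        _ = f * x * f⁻¹ * (f * y * f⁻¹) := h2
        _ = f * (x * y) * f⁻¹ := by group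
    exact mul_left_cancel (mul_right_cancel h3)

/-- an element of order prime to three in the centraliser commuting with a nontrivial element of the acting pair -/
theorem act_cases {x : G} (hx : x ∈ centralizer ({u, v} : Set G)) (hco : (orderOf x).Coprime 3) {i j : ℕ}
    (hb : a ^ i * f ^ j ≠ 1) (hc : Commute x (a ^ i * f ^ j)) :
    x ∈ closure ({u, v} : Set G) ∨ Commute x f := by
  have hfa : Commute a f := h.fa
  have e1 : a ^ i = a ^ (i % 3) := pow_eq_pow_mod i h.a3
  have e2 : f ^ j = f ^ (j % 3) := pow_eq_pow_mod j h.f3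
  rw [e1, e2] at hb hc
  have hi : i % 3 = 0 ∨ i % 3 = 1 ∨ i % 3 = 2 := by omega
  have hj : j % 3 = 0 ∨ j % 3 = 1 ∨ j % 3 = 2 := by omega
  have c2 : ∀ {b : G}, b ^ 3 = 1 → Commute x (b * b) → Commute x b := by
    intro b hb hcb
    have := hcb.mul_right hcb
    rwa [show b * b * (b * b) = b ^ 3 * b by rw [pow_succ, pow_two]; group, hb, one_mul] at this
  have caseA : Commute x a → x ∈ closure ({u, v} : Set G) := by
    intro hca
    obtain ⟨d, hd, k, rfl⟩ := h.centA x hx hca
    have hda : Commute d a := h.pair_comm hd h.a_mem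
    have hak : a ^ k = 1 := by
      set n := orderOf (d * a ^ k)
      have h1 : a ^ (k * (2 * n)) = 1 := by
        have h2 : (d * a ^ k) ^ (2 * n) = 1 := by rw [mul_comm, pow_mul, pow_orderOf_eq_one, one_pow]
        rw [(hda.pow_right k).mul_pow, pow_mul d 2 n, pow_two, h.pair_sq hd, one_pow, one_mul] at h2
        rw [pow_mul]; exact h2
      have h4 : (a ^ k) ^ (2 * n) = 1 := by rw [← pow_mul]; exact h1
      have h5 : (a ^ k) ^ 3 = 1 := by rw [← pow_mul, mul_comm, pow_mul, h.a3, one_pow]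
      have := pow_gcd_eq_one.mpr ⟨h4, h5⟩
      rwa [(Nat.Coprime.mul_left (by norm_num : Nat.Coprime 2 3) hco).gcd_eq_one, pow_one] at this
    rw [hak, mul_one]; exact hd
  have m1 : Commute x (a * f) → x ∈ closure ({u, v} : Set G) := fun hm => by
    rw [h.mix x hx (Or.inl hm) hco]; exact one_mem _
  have m2 : Commute x (a * (f * f)) → x ∈ closure ({u, v} : Set G) := fun hm => by
    rw [h.mix x hx (Or.inr hm) hco]; exact one_mem _
  rcases hi with hi | hi | hi <;> rcases hj with hj | hj | hj <;>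
    simp only [hi, hj, pow_zero, pow_one, pow_two, one_mul, mul_one, ne_eq, not_true_eq_false] at hb hc
  · exact Or.inr hc
  · exact Or.inr (c2 h.f3 hc)
  · exact Or.inl (caseA hc)
  · exact Or.inl (m1 hc)
  · exact Or.inl (m2 hc)
  · exact Or.inl (caseA (c2 h.a3 hc))
  · refine Or.inl (m2 ?_)
    have := hc.mul_right hc
    rwa [show a * a * f * (a * a * f) = a ^ 3 * a * (f * f) by
      have e := (hfa.mul_left hfa).mul_pow 2
      simp only [pow_two] at e
      rw [e, pow_succ a 2, pow_two]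
      group, h.a3, one_mul] at this
  · refine Or.inl (m1 ?_)
    have := c2 (b := a * f) (by rw [hfa.mul_pow, h.a3, h.f3, one_mul]) (by
      rwa [show a * f * (a * f) = a * a * (f * f) by
        calc a * f * (a * f) = a * (f * a) * f := by group
          _ = a * a * (f * f) := by rw [← h.fa]; group])
    exact this

/-- the structure of the centraliser -/
theorem structure_cases [Finite G] :
    ∃ (N : Subgroup (centralizer ({u, v} : Set G) : Subgroup G)) (_ : N.Normal),
      (Nat.card N).Coprime 3 ∧ ¬ 9 ∣ Nat.card (centralizer ({u, v} : Set G) : Subgroup G) ∧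
      (∀ n ∈ N, ∃ d ∈ closure ({u, v} : Set G), ∃ l : (centralizer ({u, v} : Set G) : Subgroup G),
        l ∈ N ∧ Commute (l : G) f ∧ (n : G) = d * l) ∧
      ((Nat.card ((centralizer ({u, v} : Set G) : Subgroup G) ⧸ N) = 3 ∨
          Nonempty ((centralizer ({u, v} : Set G) : Subgroup G) ⧸ N ≃* Equiv.Perm (Fin 3))) ∨
        (IsPGroup 2 N ∧
          Nonempty ((centralizer ({u, v} : Set G) : Subgroup G) ⧸ N ≃* alternatingGroup (Fin 5)) ∧
          ∃ q : (centralizer ({u, v} : Set G) : Subgroup G), Commute (q : G) f ∧ q ^ 5 = 1 ∧ q ≠ 1)) := by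
  haveI : Fact (Nat.Prime 3) := ⟨Nat.prime_three⟩
  haveI : Fact (Nat.Prime 2) := ⟨Nat.prime_two⟩
  haveI : Fact (Nat.Prime 5) := ⟨by norm_num⟩
  haveI : Fact (Nat.Prime 7) := ⟨by norm_num⟩
  obtain ⟨E, hE9, haE, hfE, hEc, hE3, hEle⟩ := Top.nine h.a3 h.a1 h.f3 h.f1 h.fa h.fne
  have hfn := h.f_norm
  have hform : ∀ e ∈ E, ∃ i j : ℕ, e = a ^ i * f ^ j := by
    let S : Subgroup G :=
      { carrier := {x | ∃ i j : ℕ, x = a ^ i * f ^ j}
        one_mem' := ⟨0, 0, by simp⟩
        mul_mem' := by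
          rintro _ _ ⟨i, j, rfl⟩ ⟨k, l, rfl⟩
          exact ⟨i + k, j + l, by
            rw [pow_add, pow_add]
            calc a ^ i * f ^ j * (a ^ k * f ^ l) = a ^ i * (f ^ j * a ^ k) * f ^ l := by group
              _ = a ^ i * a ^ k * (f ^ j * f ^ l) := by
                rw [((show Commute a f from h.fa).pow_pow k j).symm.eq]; group⟩
        inv_mem' := by
          rintro _ ⟨i, j, rfl⟩
          refine ⟨2 * i, 2 * j, inv_eq_of_mul_eq_one_right ?_⟩
          calc a ^ i * f ^ j * (a ^ (2 * i) * f ^ (2 * j))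
              = a ^ i * (f ^ j * a ^ (2 * i)) * f ^ (2 * j) := by group
            _ = a ^ i * a ^ (2 * i) * (f ^ j * f ^ (2 * j)) := by
              rw [((show Commute a f from h.fa).pow_pow (2 * i) j).symm.eq]; group
            _ = 1 := by
              rw [← pow_add, ← pow_add, show i + 2 * i = 3 * i by ring, show j + 2 * j = 3 * j by ring,
                pow_mul, pow_mul, h.a3, h.f3, one_pow, one_pow, one_mul] }
    exact fun e he => hEle S ⟨1, 0, by simp⟩ ⟨0, 1, by simp⟩ he
  have hEn : E ≤ normalizer ((centralizer ({u, v} : Set G) : Subgroup G) : Set G) :=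
    hEle _ (le_normalizer h.a_mem) hfn
  obtain ⟨C, hC⟩ : ∃ C : Subgroup G, C = centralizer ({u, v} : Set G) := ⟨_, rfl⟩
  rw [← hC] at hfn hEn ⊢
  have hFC : closure ({u, v} : Set G) ≤ C := hC ▸ h.pair_le
  have haC : a ∈ C := hC ▸ h.a_mem
  set D : Subgroup C := (closure ({u, v} : Set G)).subgroupOf C
  have hD : IsPGroup 2 D := fun x => ⟨1, Subtype.ext (Subtype.ext (by
    rw [pow_one, pow_two]
    exact h.pair_sq x.2))⟩
  have hDc : D ≤ center C := fun x hx => mem_center_iff.2 fun g =>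
    Subtype.ext (h.pair_comm hx (hC ▸ g.2)).symm
  have hCe : ∀ x : C, x * ⟨a, haC⟩ = ⟨a, haC⟩ * x → ∃ d ∈ D, ∃ i : ℕ, x = d * (⟨a, haC⟩ : C) ^ i := by
    intro x hx
    obtain ⟨d, hd, i, hdi⟩ := h.centA x (hC ▸ x.2) (congrArg Subtype.val hx)
    exact ⟨⟨d, hFC hd⟩, hd, i, Subtype.ext hdi⟩
  have hprime : ∀ (k ℓ : ℕ) [Fact ℓ.Prime], (ℓ = 5 ∨ ℓ = 7) → Nat.card C = 2 ^ k * 3 * ℓ →
      ∃ q : C, Commute (q : G) f ∧ q ^ ℓ = 1 ∧ q ≠ 1 := by
    intro k ℓ _ hℓ hc
    obtain ⟨y, hy, hy1, hdvd⟩ := Lie.PSpFourThreeFull.exists_central_prime hEn hE9 hℓ hc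
    obtain ⟨⟨m, hm⟩, hmo⟩ := exists_prime_orderOf_dvd_card' ℓ hdvd
    rw [Subgroup.orderOf_mk] at hmo
    obtain ⟨hmC, hmc⟩ := hm
    obtain ⟨i, j, rfl⟩ := hform y hy
    have hco : (orderOf m).Coprime 3 := by rw [hmo]; rcases hℓ with rfl | rfl <;> norm_num
    refine ⟨⟨m, hmC⟩, ?_, Subtype.ext (show m ^ ℓ = 1 by rw [← hmo]; exact pow_orderOf_eq_one m),
      fun e => ?_⟩
    · rcases h.act_cases (hC ▸ hmC) hco hy1 (mem_centralizer_singleton_iff.1 hmc) with hd | hd
      · exfalso
        have := orderOf_dvd_of_pow_eq_one (x := m) (n := 2) (by rw [pow_two]; exact h.pair_sq hd)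
        rw [hmo] at this
        rcases hℓ with rfl | rfl <;> norm_num at this
      · exact hd
    · rw [show m = 1 from congrArg Subtype.val e, orderOf_one] at hmo
      exact (Fact.out : ℓ.Prime).one_lt.ne hmo
  have hgen : ∀ (N : Subgroup C), N.Normal → Top.IsBig N → (Nat.card N).Coprime 3 →
      ∀ n ∈ N, ∃ d ∈ closure ({u, v} : Set G), ∃ l : C, l ∈ N ∧ Commute (l : G) f ∧ (n : G) = d * l := by
    intro N hN hbig hco
    haveI : D.Normal := ⟨fun x hx g => by
      rwa [mem_center_iff.1 (hDc hx) g, mul_inv_cancel_right]⟩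
    have hDN : D ≤ N := hbig D inferInstance (Top.coprime_of_two hD (by norm_num))
    set N' : Subgroup G := N.map C.subtype
    let Kf : Subgroup G := N' ⊓ centralizer ({f} : Set G)
    have hcm : ∀ (d : closure ({u, v} : Set G)) (l : Kf), Commute (d : G) (l : G) := by
      rintro ⟨d, hd⟩ ⟨l, ⟨l', -, rfl⟩, -⟩
      exact h.pair_comm hd (hC ▸ l'.2)
    have key : N' ≤ (MonoidHom.noncommCoprod (closure ({u, v} : Set G)).subtype Kf.subtype hcm).range := by
      have hAN : E ≤ normalizer (N' : Set G) := fun e he => Top.Copy.big_normalizer hN hbig hco (hEn he)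
      have hcop : (Nat.card E).Coprime (Nat.card N') := by
        rw [card_map_of_injective C.subtype_injective, hE9, show 9 = 3 ^ 2 from rfl]
        exact hco.symm.pow_left _
      intro x hx
      rw [← Solv.gen_eq E N' ⟨⟨fun s t => Subtype.ext (hEc s s.2 t t.2)⟩⟩ hAN hcop] at hx
      refine (iSup₂_le (fun B hB => ?_) : (⨆ B ∈ Solv.CycQuot E, N' ⊓ centralizer (B : Set G)) ≤ _) hx
      obtain ⟨hBE, e, he, hBe⟩ := hB
      have hBne : B ≠ ⊥ := fun h0 => by
        rw [h0, bot_sup_eq] at hBe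
        have h1 : Nat.card (zpowers e) ∣ 3 := by
          rw [Nat.card_zpowers]; exact orderOf_dvd_of_pow_eq_one (hE3 e he)
        rw [hBe, hE9] at h1
        norm_num at h1
      obtain ⟨⟨b, hb⟩, hb1⟩ := B.ne_bot_iff_exists_ne_one.1 hBne
      obtain ⟨i, j, rfl⟩ := hform b (hBE hb)
      rintro y ⟨hyN, hyB⟩
      obtain ⟨y', hy', rfl⟩ := hyN
      have hoy : (orderOf (y' : G)).Coprime 3 := by
        rw [Subgroup.orderOf_coe]
        exact hco.coprime_dvd_left (by
          rw [← Subgroup.orderOf_mk y' hy']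
          exact orderOf_dvd_natCard _)
      rcases h.act_cases (hC ▸ y'.2) hoy (fun e => hb1 (Subtype.ext e))
        (mem_centralizer_iff.1 hyB _ hb).symm with hd | hd
      · exact ⟨(⟨_, hd⟩, 1), mul_one _⟩
      · exact ⟨(1, ⟨_, mem_map_of_mem _ hy', mem_centralizer_singleton_iff.2 hd⟩), one_mul _⟩
    intro n hn
    obtain ⟨⟨⟨d, hd⟩, ⟨l, hl, hlc⟩⟩, he⟩ := key (mem_map_of_mem _ hn)
    obtain ⟨l', hl', rfl⟩ := hl
    exact ⟨d, hd, l', hl', mem_centralizer_singleton_iff.1 hlc, he.symm⟩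
  have hnine : ∀ (N : Subgroup C), N.Normal → (Nat.card N).Coprime 3 → ∀ q : ℕ, Nat.card (C ⧸ N) = q →
      ¬ 9 ∣ q → ¬ 9 ∣ Nat.card C := by
    intro N _ hco q hq h9 hd
    rw [card_eq_card_quotient_mul_card_subgroup N, hq] at hd
    exact h9 ((show Nat.Coprime 9 (Nat.card N) from hco.symm.pow_left 2).dvd_of_dvd_mul_right hd)
  obtain ⟨k, hk⟩ := IsPGroup.iff_card.1 hD
  rcases Top.local_cases D hD hDc (e := (⟨a, haC⟩ : C)) (Subtype.ext h.a3)
      (fun e => h.a1 (congrArg Subtype.val e)) hCe with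
    ⟨N, hN, hbig, hco, -, hq⟩ | ⟨N, hN, hbig, hN2, ⟨eq⟩⟩ | h168
  · refine ⟨N, hN, hco, ?_, hgen N hN hbig hco, Or.inl hq⟩
    rcases Top.small_card hq with e | e
    · exact hnine N hN hco 3 e (by norm_num)
    · exact hnine N hN hco 6 e (by norm_num)
  · have hco := Top.coprime_of_two hN2 (n := 3) (by norm_num)
    have h60 : Nat.card (C ⧸ N) = 60 := by
      rw [Nat.card_congr eq.toEquiv, nat_card_alternatingGroup, Nat.card_fin]; rfl
    refine ⟨N, hN, hco, hnine N hN hco 60 h60 (by norm_num), hgen N hN hbig hco, Or.inr ⟨hN2, ⟨eq⟩, ?_⟩⟩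
    obtain ⟨j, hj⟩ := IsPGroup.iff_card.1 hN2
    exact hprime (j + 2) 5 (Or.inl rfl) (by
      rw [card_eq_card_quotient_mul_card_subgroup N, hj, h60]; ring)
  · exfalso
    obtain ⟨q, hqf, hq7, hq1⟩ := hprime (k + 3) 7 (Or.inr rfl) (by rw [h168, hk]; ring)
    exact hq1 (Subtype.ext (h.seven q hqf (congrArg Subtype.val hq7)))

end FourHyp

end Cfsg.Agent.Spor.AltNine
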