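import Cfsg.Agent.Lib.Fusion.Cores
import Cfsg.Agent.S0117
import Cfsg.Agent.S3347

/-!
General facts used in the three-local recognition of the alternating group of degree nine.
-/

set_option autoImplicit false
set_option linter.style.haveILetI false

namespace Cfsg.Agent.Spor.AltNine

open Subgroup Cfsg

variable {p : ℕ} [Fact p.Prime]

/-- with trivial core, `p`-length one makes a Sylow subgroup normal -/
theorem sylow_normal_of_pLength {X : Type*} [Group X] [Finite X] (h : pPrimeCore p X = ⊥)
    (hl : PLengthLE p 1 X) (P : Sylow p X) : (P : Subgroup X).Normal := by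
  set T : Subgroup X := (upperPSeries p X 2).1 with hT
  haveI hTn : T.Normal := (upperPSeries p X 2).2
  have h0 : (upperPSeries p X 1).1 = ⊥ := by
    rw [upperPSeries, if_pos Even.zero]
    haveI : (upperPSeries p X 0).1.Normal := (upperPSeries p X 0).2
    refine le_bot_iff.1 ?_
    rw [← h]
    refine le_trans (le_of_eq ?_) le_rfl
    show (pPrimeCore p (X ⧸ (⊥ : Subgroup X))).comap (QuotientGroup.mk' ⊥) = pPrimeCore p X
    have e := Fusion.map_pPrimeCore_equiv (p := p) (QuotientGroup.quotientBot (G := X)).symm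
    rw [← e]
    exact Subgroup.comap_map_eq_self_of_injective (f := QuotientGroup.mk' (⊥ : Subgroup X))
      ((QuotientGroup.quotientBot (G := X)).symm.injective) _
  have hTp : IsPGroup p T := by
    haveI : (upperPSeries p X 1).1.Normal := (upperPSeries p X 1).2
    have hT2 : T = (pCore p (X ⧸ (upperPSeries p X 1).1)).comap (QuotientGroup.mk' _) := by
      rw [hT, upperPSeries, if_neg (by decide)]
    rw [hT2]
    refine (Fusion.isPGroup_pCore p _).comap_of_ker_isPGroup _ ?_
    rw [QuotientGroup.ker_mk', h0]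
    exact IsPGroup.of_bot
  have h3 : pPrimeCore p (X ⧸ T) = ⊤ := by
    have hl' : (upperPSeries p X 3).1 = ⊤ := hl
    rw [upperPSeries, if_pos (by decide)] at hl'
    exact Subgroup.comap_injective (QuotientGroup.mk'_surjective T) (hl'.trans (Subgroup.comap_top _).symm)
  have hidx : T.index.Coprime p := by
    have := Fusion.card_pPrimeCore_coprime p (X ⧸ T)
    rwa [h3, Subgroup.card_top, ← Subgroup.index_eq_card] at this
  obtain ⟨Q, hQ⟩ := hTp.exists_le_sylow
  have hQT : (Q : Subgroup X) = T := by
    refine le_antisymm ?_ hQ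
    intro x hx
    have h1 : orderOf (QuotientGroup.mk' T x) = 1 := by
      obtain ⟨k, hk⟩ := IsPGroup.iff_orderOf.1 Q.2 ⟨x, hx⟩
      rw [Subgroup.orderOf_mk] at hk
      refine Nat.eq_one_of_dvd_coprimes (hidx.pow_right k) ?_ (hk ▸ orderOf_map_dvd _ x)
      rw [Subgroup.index_eq_card]; exact orderOf_dvd_natCard _
    exact (QuotientGroup.eq_one_iff x).1 (orderOf_eq_one_iff.1 h1)
  haveI : (Q : Subgroup X).Normal := hQT ▸ hTn
  obtain ⟨g, hg⟩ := MulAction.exists_smul_eq X Q P
  have : P = Q := by rw [← hg, Sylow.smul_eq_of_normal]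
  rw [this]; infer_instance

theorem pResidual_idem {X : Type*} [Group X] : pResidual p (pResidual p X) = ⊤ := by
  refine Subgroup.map_injective (f := (pResidual p X).subtype) (Subgroup.subtype_injective _) ?_
  rw [← MonoidHom.range_eq_map, Subgroup.range_subtype]
  refine le_antisymm (Subgroup.map_subtype_le _) ?_
  rw [show (pResidual p (pResidual p X)).map (pResidual p X).subtype = closure ((pResidual p X).subtype ''
    {g | Nat.Coprime (orderOf g) p}) from MonoidHom.map_closure _ _]
  conv_lhs => rw [pResidual]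
  refine closure_mono fun g hg => ⟨⟨g, subset_closure hg⟩, ?_, rfl⟩
  show Nat.Coprime (orderOf (⟨g, _⟩ : pResidual p X)) p
  rwa [← orderOf_injective (pResidual p X).subtype (Subgroup.subtype_injective _)]

theorem pPrimeCore_normal_bot {X : Type*} [Group X] [Finite X] (h : pPrimeCore p X = ⊥) (N : Subgroup X)
    [N.Normal] : pPrimeCore p N = ⊥ := by
  haveI hchar : (pPrimeCore p N).Characteristic :=
    Subgroup.characteristic_iff_map_le.2 fun e => Fusion.map_pPrimeCore_le e
  haveI : (pPrimeCore p N).Normal := inferInstance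
  have hn : ((pPrimeCore p N).map N.subtype).Normal := by
    refine ⟨fun x hx g => ?_⟩
    obtain ⟨u, hu, rfl⟩ := hx
    refine ⟨MulAut.conjNormal g u, ?_, MulAut.conjNormal_apply g u⟩
    exact Subgroup.characteristic_iff_le_comap.1 hchar (MulAut.conjNormal g) hu
  have hle : (pPrimeCore p N).map N.subtype ≤ pPrimeCore p X :=
    Fusion.le_pPrimeCore (hn := hn) (by
      rw [card_map_of_injective N.subtype_injective]; exact Fusion.card_pPrimeCore_coprime p N)
  rw [h, le_bot_iff, ← Subgroup.map_bot N.subtype] at hle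
  exact Subgroup.map_injective N.subtype_injective hle

/-- a `p`-subgroup with normaliser of small `p`-part is a Sylow subgroup -/
theorem exists_sylow_eq {X : Type*} [Group X] [Finite X] (D : Subgroup X) (hD : IsPGroup p D)
    (hN : ∀ x ∈ normalizer (D : Set X), (∃ k, x ^ p ^ k = 1) → x ∈ D) :
    ∃ P : Sylow p X, (P : Subgroup X) = D := by
  obtain ⟨P, hP⟩ := hD.exists_le_sylow
  refine ⟨P, le_antisymm ?_ hP⟩
  by_contra hne
  haveI := P.2.isNilpotent
  have hlt : D.subgroupOf (P : Subgroup X) < ⊤ :=
    lt_top_iff_ne_top.2 fun e => hne (subgroupOf_eq_top.1 e)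
  obtain ⟨g, hg, hgD⟩ := SetLike.exists_of_lt (Group.normalizerCondition_of_isNilpotent _ hlt)
  refine hgD (hN g ?_ ?_)
  · rw [Subgroup.mem_normalizer_iff_map_conj_eq]
    refine Subgroup.eq_of_le_of_card_ge ?_ (by rw [card_map_of_injective (MulAut.conj (g : X)).injective])
    rintro _ ⟨u, hu, rfl⟩
    exact ((Subgroup.mem_normalizer_iff.1 hg) ⟨u, hP hu⟩).1 hu
  · obtain ⟨k, hk⟩ := P.2 g
    exact ⟨k, congrArg Subtype.val hk⟩

end Cfsg.Agent.Spor.AltNine
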