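import Cfsg.Agent.Lib.Spor.AltNine.Coord

/-!
Two classes of involutions and a group of order sixteen in the centraliser of the first of them.
-/

set_option autoImplicit false
set_option maxRecDepth 100000
set_option linter.style.haveILetI false
set_option synthInstance.maxSize 8000
set_option synthInstance.maxHeartbeats 400000

namespace Cfsg.Agent.Spor.AltNine

open Equiv Subgroup Cfsg
open Cfsg.Agent.Solv.Special.W648

/-- an even permutation of six points -/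
def mk6 (p : P6) (h : Perm.sign p = 1) : A6 := ⟨p, Perm.mem_alternatingGroup.2 h⟩

def u1A : A6 := mk6 (swap 2 3 * swap 4 5) (by simp)
def u2A : A6 := mk6 (swap 2 4 * swap 3 5) (by simp)
def sA : A6 := mk6 (swap 0 1 * swap 2 3) (by simp)
def xInv : A6 := mk6 (swap 0 1 * (swap 0 3 * (swap 1 4 * swap 2 5))) (by simp)
def xE3 : A6 := stdGen 6 (2 : Fin 4) * stdGen 6 (3 : Fin 4)
/-- `(01)(36)(47)(58)` -/
def mInv : M648 := back (swap 0 1) 1 1 (swap 1 2)
/-- `(345)(678)` -/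
def jB23 : M648 := mX1 * mE3

theorem inv_facts : mInv * mInv = 1 ∧ mInv * jB23 = jB23 * mInv ∧ rot jB23 ∧ jB23 ≠ 1 ∧ centCard jB23 = 54 ∧
    jB23 ^ 3 = 1 ∧ (mTau * mInv) ^ 4 = 1 ∧ mTau * mX3 = mH * mTau * mH⁻¹ ∧ mTau * jA ≠ jA * mTau ∧
    mTau * mE3 = mE3 * mTau ∧ mInv = mTau * (mTau * mInv) ∧
    (∃ y : A6, oddConj y * u1A * y⁻¹ = xInv) := by
  decide +kernel

theorem acts_inv : Acts (mTau * mInv) xInv := by
  refine ⟨?_, ?_, ?_, ?_⟩ <;> decide +kernel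

theorem acts_e3 : Acts mE3 xE3 ∧ mE3 = mX3 * mX4 := by
  refine ⟨⟨?_, ?_, ?_, ?_⟩, ?_⟩ <;> decide +kernel

theorem cent_B23_inv : ∀ m : M648, m * jB23 = jB23 * m → m * mInv = mInv * m → m ^ 9 = 1 →
    ∃ i : Fin 3, m = jB23 ^ i.val := by
  decide +kernel

theorem pow_B23 : ∀ i : Fin 3, i ≠ 0 → rot (jB23 ^ i.val) ∧ jB23 ^ i.val ≠ 1 ∧ centCard (jB23 ^ i.val) = 54 := by
  decide +kernel

/-- the fixed points of the odd automorphism commuting with a given involution -/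
def D8 : Subgroup A6 where
  carrier := {x | oddConj x = x ∧ x * u1A = u1A * x}
  one_mem' := ⟨map_one _, by simp⟩
  mul_mem' := fun {x y} hx hy => ⟨by rw [map_mul, hx.1, hy.1],
    (show Commute x u1A from hx.2).mul_left (show Commute y u1A from hy.2)⟩
  inv_mem' := fun {x} hx => ⟨by rw [map_inv, hx.1], (show Commute x u1A from hx.2).inv_left⟩

theorem d8_facts : oddConj u1A = u1A ∧ oddConj u2A = u2A ∧ oddConj sA = sA ∧ u2A * u1A = u1A * u2A ∧
    sA * u1A = u1A * sA ∧ sA * u2A * sA⁻¹ * u2A⁻¹ = u1A ∧ u1A ≠ 1 ∧ u2A ≠ 1 ∧ u2A ≠ u1A ∧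
    oddConj xE3 = xE3 ∧ xE3 * u1A * xE3⁻¹ ≠ u1A ∧
    (∀ v ∈ [u1A, u2A, u1A * u2A], v = u1A ∨ v = xE3 * u1A * xE3⁻¹ ∨ v = xE3⁻¹ * u1A * xE3) ∧
    (∀ v ∈ [sA, sA * u1A], ∃ y : A6, oddConj y * v * y⁻¹ = stdGen 6 (2 : Fin 4)) ∧
    (∀ v ∈ [sA, sA * u1A, stdGen 6 (2 : Fin 4)], ∃ y : A6, y * u1A * y⁻¹ = v) := by
  decide +kernel

theorem d8_elts : ∀ x : A6, oddConj x = x → x * u1A = u1A * x →
    ((∀ y : A6, oddConj y = y → y * u1A = u1A * y → x * y = y * x) → x = 1 ∨ x = u1A) ∧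
    (x * x = 1 → x = 1 ∨ x = u1A ∨ x = u2A ∨ x = u1A * u2A ∨ x = sA ∨ x = sA * u1A) ∧
    (∀ y : A6, oddConj y = y → y * u1A = u1A * y → x * y * x⁻¹ * y⁻¹ = 1 ∨ x * y * x⁻¹ * y⁻¹ = u1A) := by
  decide +kernel

theorem d8_card : 8 ≤ Nat.card D8 := by
  rw [show Nat.card D8 = Nat.card {x : A6 // oddConj x = x ∧ x * u1A = u1A * x} from rfl,
    Nat.card_eq_fintype_card, Fintype.card_subtype]
  decide +kernel

namespace Big

variable {G : Type*} [Group G] {d : Data G} (B : Big d)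

/-- conjugate to the image of the first involution -/
def T2 (g : G) : Prop := ∃ k, k * B.Φ u1A * k⁻¹ = g

theorem T2.conj {B : Big d} {g : G} (h : B.T2 g) (k : G) : B.T2 (k * g * k⁻¹) := by
  obtain ⟨l, rfl⟩ := h
  exact ⟨k * l, by group⟩

theorem T2.of_conj {B : Big d} {g k : G} (h : B.T2 (k * g * k⁻¹)) : B.T2 g := by
  have := h.conj k⁻¹
  rwa [inv_inv, show k⁻¹ * (k * g * k⁻¹) * k = g by group] at this

include B

theorem T2_six {v : A6} (h : v ∈ [sA, sA * u1A, stdGen 6 (2 : Fin 4)]) : B.T2 (B.Φ v) := by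
  obtain ⟨y, rfl⟩ := d8_facts.2.2.2.2.2.2.2.2.2.2.2.2.2 v h
  exact ⟨B.Φ y, by simp⟩

theorem T2_tau : B.T2 (d.φ mTau) := by
  rw [← B.ψ_gen2, ψ_apply]
  exact (B.T2_six (by simp)).conj _

theorem tau_twist (y v : A6) :
    B.Φ y * (d.φ mTau * B.Φ v) * (B.Φ y)⁻¹ = d.φ mTau * B.Φ (oddConj y * v * y⁻¹) := by
  rw [map_mul, map_mul, map_inv, ← B.tau y]
  have h := B.tau_sq
  calc B.Φ y * (d.φ mTau * B.Φ v) * (B.Φ y)⁻¹
      = (d.φ mTau * d.φ mTau) * B.Φ y * (d.φ mTau * B.Φ v) * (B.Φ y)⁻¹ := by rw [h, one_mul]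
    _ = d.φ mTau * (d.φ mTau * B.Φ y * (d.φ mTau)⁻¹ * B.Φ v * (B.Φ y)⁻¹) := by rw [B.tau_inv]; group

theorem T2_tau_s {v : A6} (h : v ∈ [sA, sA * u1A]) : B.T2 (d.φ mTau * B.Φ v) := by
  obtain ⟨y, hy⟩ := d8_facts.2.2.2.2.2.2.2.2.2.2.2.2.1 v h
  refine T2.of_conj (k := B.Φ y) ?_
  rw [B.tau_twist, hy, B.gen2, ← map_mul, inv_facts.2.2.2.2.2.2.2.1, map_mul, map_mul, map_inv]
  exact B.T2_tau.conj _

variable [Finite G]

theorem not_T2_inv : ¬ B.T2 (d.φ mInv) := by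
  rintro ⟨k, hk⟩
  haveI : Fact (Nat.Prime 3) := ⟨Nat.prime_three⟩
  obtain ⟨-, hcom, hrot, hb1, hw, hb3, -, -, -, -, -, -⟩ := inv_facts
  set C : Subgroup G := centralizer ({d.φ mInv} : Set G)
  let b : C := ⟨d.φ jB23, mem_centralizer_singleton_iff.2 (by rw [← map_mul, ← map_mul, hcom])⟩
  let a : C := ⟨k * d.φ jA * k⁻¹, mem_centralizer_singleton_iff.2
    ((show Commute (d.φ jA) (B.Φ u1A) from (B.comm u1A).symm).map (MulAut.conj k).toMonoidHom |>.eq |> fun h => by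
      simp only [MulEquiv.coe_toMonoidHom, MulAut.conj_apply] at h
      rwa [hk] at h)⟩
  have hbo : orderOf b = 3 := orderOf_eq_prime (Subtype.ext (show d.φ jB23 ^ 3 = 1 by rw [← map_pow, hb3, map_one]))
    fun e => hb1 (d.inj ((congrArg Subtype.val e).trans (map_one d.φ).symm))
  have hao : orderOf a = 3 := by
    refine orderOf_eq_prime (Subtype.ext ?_) fun e => mH_conj.2.2.2.2.2.2.2 (d.inj ?_)
    · show (k * d.φ jA * k⁻¹) ^ 3 = 1
      rw [conj_pow, ← map_pow, mH_conj.2.2.2.2.2.2.1, map_one]; group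
    · have e' : k * d.φ jA * k⁻¹ = 1 := congrArg Subtype.val e
      rw [map_one, ← mul_left_cancel_iff (a := k), ← mul_right_cancel_iff (a := k⁻¹), e']; group
  obtain ⟨P, hP⟩ := (IsPGroup.of_card (p := 3) (n := 1)
    (show Nat.card (zpowers b) = 3 ^ 1 by rw [Nat.card_zpowers, hbo, pow_one])).exists_le_sylow
  have hbP : b ∈ (P : Subgroup C) := hP (mem_zpowers b)
  have hcb : ∀ x : (P : Subgroup C), Commute (x : C) b → ∃ i : Fin 3, ((x : C) : G) = d.φ (jB23 ^ i.val) := by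
    intro x hx
    obtain ⟨m, hm⟩ := d.cent_range hrot hb1 (by omega) (g := ((x : C) : G)) (congrArg Subtype.val hx.eq)
    obtain ⟨n, hn⟩ := P.isPGroup' x
    have hn' : m ^ 3 ^ n = 1 := d.inj (by
      rw [map_pow, hm, map_one]; exact congrArg Subtype.val (congrArg Subtype.val hn))
    obtain ⟨i, hi⟩ := cent_B23_inv m (d.comm_iff.1 (by rw [hm]; exact congrArg Subtype.val hx.eq))
      (d.comm_iff.1 (by rw [hm]; exact mem_centralizer_singleton_iff.1 (x : C).2))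
      (three_pow hn' (pow_36 m))
    exact ⟨i, by rw [← hm, hi]⟩
  have hPb : ∀ x : (P : Subgroup C), ∃ i : Fin 3, ((x : C) : G) = d.φ (jB23 ^ i.val) := by
    haveI : Nontrivial (P : Subgroup C) :=
      ⟨⟨⟨b, hbP⟩, 1, fun e => by
        rw [show b = 1 from congrArg Subtype.val e, orderOf_one] at hbo
        norm_num at hbo⟩⟩
    haveI := P.isPGroup'.center_nontrivial
    obtain ⟨⟨z, hz⟩, hz1⟩ := exists_ne (1 : center (P : Subgroup C))
    have hzc := fun x => mem_center_iff.1 hz x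
    obtain ⟨i, hi⟩ := hcb z (congrArg Subtype.val (hzc ⟨b, hbP⟩)).symm
    intro x
    refine hcb x ?_
    have h1 : ((x : C) : G) * ((z : C) : G) = ((z : C) : G) * ((x : C) : G) :=
      congrArg Subtype.val (congrArg Subtype.val (hzc x))
    rw [hi, map_pow] at h1
    have hb3' : d.φ jB23 ^ 3 = 1 := by rw [← map_pow, hb3, map_one]
    refine Subtype.ext ?_
    show ((x : C) : G) * d.φ jB23 = d.φ jB23 * ((x : C) : G)
    rcases i with ⟨_ | _ | _ | n, hn⟩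
    · exact absurd (Subtype.ext (Subtype.ext (Subtype.ext (hi.trans (by simp))))) hz1
    · simpa using h1
    · have h2 := (show Commute ((x : C) : G) (d.φ jB23 ^ 2) from h1).pow_right 2
      rw [← pow_mul, show 2 * 2 = 3 + 1 by norm_num, pow_succ, hb3', one_mul] at h2
      exact h2
    · omega
  obtain ⟨Q, hQ⟩ := (IsPGroup.of_card (p := 3) (n := 1)
    (show Nat.card (zpowers a) = 3 ^ 1 by rw [Nat.card_zpowers, hao, pow_one])).exists_le_sylow
  obtain ⟨w, hw'⟩ := MulAction.exists_smul_eq C P Q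
  have haQ : a ∈ (Q : Subgroup C) := hQ (mem_zpowers a)
  rw [← hw', Sylow.coe_subgroup_smul, Subgroup.mem_pointwise_smul_iff_inv_smul_mem, MulAut.smul_def,
    MulAut.conj_inv_apply] at haQ
  obtain ⟨i, hi⟩ := hPb ⟨_, haQ⟩
  have hi' : (w : G)⁻¹ * (k * d.φ jA * k⁻¹) * w = d.φ (jB23 ^ i.val) := hi
  rcases eq_or_ne i 0 with rfl | hi0
  · rw [show ((0 : Fin 3).val) = 0 from rfl, pow_zero, map_one] at hi'
    rw [show a = 1 from Subtype.ext (show k * d.φ jA * k⁻¹ = 1 by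
      calc k * d.φ jA * k⁻¹ = (w : G) * ((w : G)⁻¹ * (k * d.φ jA * k⁻¹) * w) * (w : G)⁻¹ := by group
        _ = 1 := by rw [hi']; group), orderOf_one] at hao
    norm_num at hao
  · obtain ⟨r1, r2, r3⟩ := pow_B23 i hi0
    exact d.a_not_conj_b B.inj B.comm base_facts.1 r1 r2 mH_conj.2.2.2.2.2.2.2 centCards.1 (by omega)
      ((w : G)⁻¹ * k) (by rw [← hi']; group)

theorem not_T2_mixed {v : A6} (h : v ∈ [u1A, u2A, u1A * u2A]) : ¬ B.T2 (d.φ mTau * B.Φ v) := by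
  intro h2
  obtain ⟨-, -, -, -, -, -, h4, -, -, hte, hsplit, y, hy⟩ := inv_facts
  refine B.not_T2_inv ?_
  rw [hsplit, map_mul, B.acts_eq acts_inv h4, ← hy, ← B.tau_twist]
  refine T2.conj ?_ _
  have he : ∀ e : A6, oddConj e = e → B.T2 (d.φ mTau * B.Φ (e * u1A * e⁻¹)) → B.T2 (d.φ mTau * B.Φ u1A) := by
    intro e he h
    refine T2.of_conj (k := B.Φ e) ?_
    rw [B.tau_twist, he]
    exact h
  rcases d8_facts.2.2.2.2.2.2.2.2.2.2.2.1 v h with rfl | rfl | rfl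
  · exact h2
  · exact he xE3 d8_facts.2.2.2.2.2.2.2.2.2.1 h2
  · refine he xE3⁻¹ (by rw [map_inv, d8_facts.2.2.2.2.2.2.2.2.2.1]) ?_
    rwa [inv_inv]

end Big

end Cfsg.Agent.Spor.AltNine
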