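import Cfsg.Agent.S3335

/-!
Homomorphisms from alternating groups given by the standard generators.
-/

set_option autoImplicit false
set_option linter.style.haveILetI false

namespace Cfsg.Agent.Spor.AltNine

open Subgroup Cfsg
open Cfsg.Agent.S3335 (Sat rels gen sw sw_sq sw_three sw_comm sign_sw)

theorem gen_mem {n : ℕ} (k : Fin (n - 2)) : gen n k.val ∈ alternatingGroup (Fin n) := by
  rw [Equiv.Perm.mem_alternatingGroup, gen, map_mul, sign_sw (show 0 + 1 < n by have := k.isLt; omega),
    sign_sw (show k.val + 1 + 1 < n by have := k.isLt; omega)]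
  decide

/-- the standard generators -/
def stdGen (n : ℕ) (k : Fin (n - 2)) : alternatingGroup (Fin n) := ⟨gen n k.val, gen_mem k⟩

/-- the relations give a homomorphism with prescribed values on the standard generators -/
theorem exists_hom {n : ℕ} (hn : 5 ≤ n) (hstd : Sat (stdGen n)) {G : Type*} [Group G] {v : Fin (n - 2) → G}
    (hv : Sat v) : ∃ f : alternatingGroup (Fin n) →* G, (∀ k, f (stdGen n k) = v k) ∧
      ((∃ k, v k ≠ 1) → Function.Injective f) := by
  haveI : Nontrivial (Fin n) := Fin.nontrivial_iff_two_le.2 (by omega)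
  obtain ⟨e⟩ := Cfsg.Agent.S3335.result n (by omega)
  let e' : PresentedGroup (rels n) ≃* alternatingGroup (Fin n) := e
  haveI hs : IsSimpleGroup (alternatingGroup (Fin n)) :=
    alternatingGroup.isSimpleGroup (by simpa using hn)
  haveI : IsSimpleGroup (PresentedGroup (rels n)) :=
    haveI : Nontrivial (PresentedGroup (rels n)) := e'.toEquiv.nontrivial
    IsSimpleGroup.isSimpleGroup_of_surjective e'.symm.toMonoidHom e'.symm.surjective
  haveI : Finite (PresentedGroup (rels n)) := Finite.of_equiv _ e'.symm.toEquiv
  let F : PresentedGroup (rels n) →* alternatingGroup (Fin n) := PresentedGroup.toGroup (f := stdGen n) hstd.lift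
  have hF : ∀ k, F (PresentedGroup.of k) = stdGen n k := fun k => PresentedGroup.toGroup.of hstd.lift
  have hinj : Function.Injective F := by
    rw [← MonoidHom.ker_eq_bot_iff]
    refine (Subgroup.Normal.eq_bot_or_eq_top inferInstance).resolve_right fun h => ?_
    have h0 := MonoidHom.mem_ker.1 (h ▸ Subgroup.mem_top (PresentedGroup.of (⟨0, by omega⟩ : Fin (n - 2))))
    rw [hF] at h0
    have h1 := congrArg (fun p : alternatingGroup (Fin n) => (p : Equiv.Perm (Fin n)) ⟨1, by omega⟩) h0
    simp [stdGen, gen, sw, show 0 + 1 < n by omega, show 0 + 1 + 1 < n by omega, Equiv.swap_apply_def, Fin.ext_iff] at h1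
  have hbij : Function.Bijective F :=
    (Nat.bijective_iff_injective_and_card F).2 ⟨hinj, Nat.card_congr e'.toEquiv⟩
  let E := MulEquiv.ofBijective F hbij
  let P : PresentedGroup (rels n) →* G := PresentedGroup.toGroup (f := v) hv.lift
  refine ⟨P.comp E.symm.toMonoidHom, fun k => ?_, fun ⟨k, hk⟩ => (?_ : Function.Injective (P ∘ E.symm))⟩
  · show P (E.symm (stdGen n k)) = v k
    rw [show E.symm (stdGen n k) = PresentedGroup.of k from E.symm_apply_eq.2 (hF k).symm]
    exact PresentedGroup.toGroup.of hv.lift
  · refine Function.Injective.comp ?_ E.symm.injective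
    rw [← MonoidHom.ker_eq_bot_iff]
    refine (Subgroup.Normal.eq_bot_or_eq_top inferInstance).resolve_right fun h => hk ?_
    have := MonoidHom.mem_ker.1 (h ▸ Subgroup.mem_top (PresentedGroup.of k))
    rwa [show P (PresentedGroup.of k) = v k from PresentedGroup.toGroup.of hv.lift] at this

end Cfsg.Agent.Spor.AltNine
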