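import Mathlib

/-!
The unique completion of the generators of the normaliser of a Sylow three-subgroup of the
alternating group of degree six.
-/

set_option autoImplicit false
set_option maxRecDepth 100000

namespace Cfsg.Agent.Spor.AltNine

open Equiv

abbrev P6 := Perm (Fin 6)

def c1six : P6 := swap 0 1 * swap 1 2
def c2six : P6 := swap 0 1 * swap 1 2 * (swap 3 4 * swap 4 5)

/-- the involutions of the alternating group of degree six -/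
def I45 : List P6 :=
  ([(0,1,2,3),(0,2,1,3),(0,3,1,2),(0,1,2,4),(0,2,1,4),(0,4,1,2),(0,1,2,5),(0,2,1,5),(0,5,1,2),
    (0,1,3,4),(0,3,1,4),(0,4,1,3),(0,1,3,5),(0,3,1,5),(0,5,1,3),(0,1,4,5),(0,4,1,5),(0,5,1,4),
    (0,2,3,4),(0,3,2,4),(0,4,2,3),(0,2,3,5),(0,3,2,5),(0,5,2,3),(0,2,4,5),(0,4,2,5),(0,5,2,4),
    (0,3,4,5),(0,4,3,5),(0,5,3,4),(1,2,3,4),(1,3,2,4),(1,4,2,3),(1,2,3,5),(1,3,2,5),(1,5,2,3),
    (1,2,4,5),(1,4,2,5),(1,5,2,4),(1,3,4,5),(1,4,3,5),(1,5,3,4),(2,3,4,5),(2,4,3,5),(2,5,3,4)] :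
    List (Fin 6 × Fin 6 × Fin 6 × Fin 6)).map fun e => swap e.1 e.2.1 * swap e.2.2.1 e.2.2.2

theorem mem_I45 : ∀ p : P6, Perm.sign p = 1 → p * p = 1 → p = 1 ∨ p ∈ I45 := by decide +kernel

theorem I45_ne : ∀ y ∈ I45, y ≠ 1 := by decide +kernel
theorem I45_sq : ∀ y ∈ I45, ∀ i, y (y i) = i := by decide +kernel

/-- the relations for the missing generator -/
def Good6 (r p q w : P6) : Prop :=
  (r * w) * (r * w) * (r * w) = 1 ∧ (w * p) * (w * p) * (w * p) = 1 ∧ (w * q) * (w * q) = 1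

instance (r p q w : P6) : Decidable (Good6 r p q w) := by unfold Good6; infer_instance

/-- the number of fixed points -/
def fixN (r : P6) : ℕ := (Finset.univ.filter fun i => r i = i).card

theorem fixN_conj (g r : P6) : fixN (g * r * g⁻¹) = fixN r := by
  unfold fixN
  refine Finset.card_equiv (g⁻¹ : P6) fun i => ?_
  rw [Finset.mem_filter, Finset.mem_filter]
  simp only [Finset.mem_univ, true_and, Perm.mul_apply]
  constructor
  · intro h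
    conv_rhs => rw [← h]
    simp
  · intro h
    rw [h]; simp

theorem fixN_reps : fixN c1six = 3 ∧ fixN c2six = 0 := by decide +kernel

theorem unique_of (r : P6) (hr : r = c1six ∨ r = c2six) : ∀ p ∈ I45.filter (fun p => decide (r * p * (r * p) = 1)),
    ∀ q ∈ I45.filter (fun p => decide (r * p * (r * p) = 1)), p * q * (p * q) * (p * q) = 1 → p * q ≠ 1 → p * q ≠ r →
      p * q ≠ r * r → fixN (p * q) = fixN r → (I45.filter fun w => decide (Good6 r p q w)).length = 1 := by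
  rcases hr with rfl | rfl <;> decide +kernel

def K1 : List P6 :=
  [1, swap 2 3 * swap 4 5, swap 2 3 * swap 3 4, swap 2 3 * swap 3 5, swap 1 2 * swap 4 5, swap 1 2 * swap 2 3, swap 1 2 * swap 2 3 * swap 3 4 * swap 4 5, swap 1 2 * swap 2 3 * swap 3 5 * swap 5 4, swap 1 3 * swap 3 2, swap 1 3 * swap 3 4 * swap 4 5 * swap 5 2, swap 1 3 * swap 3 5 * swap 5 4 * swap 4 2, swap 1 3 * swap 4 5, swap 1 3 * swap 3 4, swap 1 3 * swap 3 5, swap 1 3 * swap 2 4, swap 1 3 * swap 3 2 * swap 2 4 * swap 4 5, swap 1 3 * swap 3 5 * swap 5 2 * swap 2 4, swap 1 3 * swap 2 5, swap 1 3 * swap 3 2 * swap 2 5 * swap 5 4, swap 1 3 * swap 3 4 * swap 4 2 * swap 2 5, swap 0 3 * swap 3 2 * swap 2 1 * swap 4 5, swap 0 3 * swap 3 4 * swap 4 2 * swap 2 1, swap 0 3 * swap 3 5 * swap 5 2 * swap 2 1, swap 0 3 * swap 3 1, swap 0 3 * swap 3 4 * swap 4 5 * swap 5 1, swap 0 3 * swap 3 5 * swap 5 4 * swap 4 1, swap 0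 3 * swap 3 1 * swap 2 4 * swap 4 5, swap 0 3 * swap 3 2 * swap 2 4 * swap 4 1, swap 0 3 * swap 3 5 * swap 5 1 * swap 2 4, swap 0 3 * swap 3 1 * swap 2 5 * swap 5 4, swap 0 3 * swap 3 2 * swap 2 5 * swap 5 1, swap 0 3 * swap 3 4 * swap 4 1 * swap 2 5, swap 0 3 * swap 3 1 * swap 1 4 * swap 4 2, swap 0 3 * swap 3 2 * swap 1 4 * swap 4 5, swap 0 3 * swap 3 5 * swap 5 2 * swap 1 4, swap 0 3 * swap 1 4 * swap 4 2 * swap 2 5, swap 0 3 * swap 3 1 * swap 1 5 * swap 5 2, swap 0 3 * swap 3 2 * swap 1 5 * swap 5 4, swap 0 3 * swap 3 4 * swap 4 2 * swap 1 5, swap 0 3 * swap 1 5 * swap 5 2 * swap 2 4]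

def K2 : List P6 :=
  [1, swap 2 3 * swap 4 5, swap 2 3 * swap 3 4, swap 2 3 * swap 3 5, swap 1 2 * swap 4 5, swap 1 2 * swap 2 3, swap 1 2 * swap 2 3 * swap 3 4 * swap 4 5, swap 1 2 * swap 2 3 * swap 3 5 * swap 5 4, swap 1 3 * swap 3 2, swap 1 3 * swap 3 4 * swap 4 5 * swap 5 2, swap 1 3 * swap 3 5 * swap 5 4 * swap 4 2, swap 1 3 * swap 4 5, swap 1 3 * swap 3 4, swap 1 3 * swap 3 5, swap 1 3 * swap 2 4, swap 1 3 * swap 3 2 * swap 2 4 * swap 4 5, swap 1 3 * swap 3 5 * swap 5 2 * swap 2 4, swap 1 3 * swap 2 5, swap 1 3 * swap 3 2 * swap 2 5 * swap 5 4, swap 1 3 * swap 3 4 * swap 4 2 * swap 2 5, swap 0 3 * swap 3 2 * swap 2 1 * swap 4 5, swap 0 3 * swap 3 4 * swap 4 2 * swap 2 1, swap 0 3 * swap 3 5 * swap 5 2 * swap 2 1, swap 0 3 * swap 3 1, swap 0 3 * swap 3 4 * swap 4 5 * swap 5 1, swap 0 3 * swap 3 5 * swap 5 4 * swap 4 1, swap 0 3 * swap 3 1 * swap 2 4 * swap 4 5, swap 0 3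 * swap 3 2 * swap 2 4 * swap 4 1, swap 0 3 * swap 3 5 * swap 5 1 * swap 2 4, swap 0 3 * swap 3 1 * swap 2 5 * swap 5 4, swap 0 3 * swap 3 2 * swap 2 5 * swap 5 1, swap 0 3 * swap 3 4 * swap 4 1 * swap 2 5, swap 0 3 * swap 3 1 * swap 1 4 * swap 4 2, swap 0 3 * swap 3 2 * swap 1 4 * swap 4 5, swap 0 3 * swap 3 5 * swap 5 2 * swap 1 4, swap 0 3 * swap 1 4 * swap 4 2 * swap 2 5, swap 0 3 * swap 3 1 * swap 1 5 * swap 5 2, swap 0 3 * swap 3 2 * swap 1 5 * swap 5 4, swap 0 3 * swap 3 4 * swap 4 2 * swap 1 5, swap 0 3 * swap 1 5 * swap 5 2 * swap 2 4]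

theorem conj_list : ∀ r : P6, Perm.sign r = 1 → r * r * r = 1 → r = 1 ∨
    r ∈ K1.map (fun g => g⁻¹ * c1six * g) ∨ r ∈ K2.map (fun g => g⁻¹ * c2six * g) := by decide +kernel

theorem K_even : (∀ g ∈ K1, Perm.sign g = 1) ∧ ∀ g ∈ K2, Perm.sign g = 1 := by decide +kernel

theorem conj_rep (r : P6) (hs : Perm.sign r = 1) (h3 : r * r * r = 1) (h1 : r ≠ 1) :
    ∃ g : P6, Perm.sign g = 1 ∧ (g * r * g⁻¹ = c1six ∨ g * r * g⁻¹ = c2six) := by
  rcases conj_list r hs h3 with h | h | h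
  · exact absurd h h1
  · obtain ⟨g, hg, rfl⟩ := List.mem_map.1 h
    exact ⟨g, K_even.1 g hg, Or.inl (by group)⟩
  · obtain ⟨g, hg, rfl⟩ := List.mem_map.1 h
    exact ⟨g, K_even.2 g hg, Or.inr (by group)⟩

theorem not_good_one (r p q : P6) (hp : p * p = 1) (hq : q * q = 1) (h3 : p * q * (p * q) * (p * q) = 1)
    (hpq : p * q ≠ 1) : ¬ Good6 r p q 1 := by
  rintro ⟨-, h1, -⟩
  simp only [one_mul] at h1
  rw [hp, one_mul] at h1
  subst h1
  simp only [one_mul] at h3 hpq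
  rw [hq, one_mul] at h3
  exact hpq h3

end Cfsg.Agent.Spor.AltNine
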