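import Cfsg.Agent.Lib.Spor.AltNine.Local
import Cfsg.Agent.Lib.Solv.Special.Top648

/-!
Small centralisers of the three-cycles: the normaliser is the whole group.
-/

set_option autoImplicit false
set_option maxRecDepth 100000

namespace Cfsg.Agent.Spor.AltNine

open Subgroup Cfsg
open Cfsg.Agent.Solv.Special.W648

namespace Data

variable {G : Type*} [Group G] [Finite G] (d : Data G)

/-- if the centraliser of the first three-cycle is inside, nothing is outside -/
theorem range_eq_top_of_small (hA : ∀ g : G, Commute g (d.φ jA) → g ∈ d.φ.range) : d.φ.range = ⊤ := by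
  let e : d.φ.range ≃* M648 := (MonoidHom.ofInjective d.inj).symm
  have he : ∀ x : d.φ.range, d.φ (e x) = (x : G) := fun x => by
    obtain ⟨m, rfl⟩ := (MonoidHom.ofInjective d.inj).surjective x
    simp [e, MonoidHom.ofInjective_apply]
  refine Emb.eq_top (J := d.J) (e := e) ⟨?_, fun x => ?_, ?_⟩
  · rintro _ ⟨m, -, rfl⟩
    exact ⟨m, rfl⟩
  · rw [d.mem_J, ← he x]
    exact ⟨fun ⟨m, hm, h⟩ => d.inj h ▸ hm, fun h => ⟨_, h, rfl⟩⟩
  · intro j hj hj1 g hg
    obtain ⟨m, hm, rfl⟩ := d.mem_J.1 hj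
    have hm1 : m ≠ 1 := fun h => hj1 (by rw [h, map_one])
    have hg' : Commute g (d.φ m) := mem_centralizer_singleton_iff.1 hg
    by_cases hw : centCard m = 108
    · obtain ⟨k, hk⟩ := conj_of_centCard hm hm1 base_facts.1 base_facts.2.2.2.2.2.1 (hw.trans centCards.1.symm)
      have h2 : Commute (d.φ k * g * (d.φ k)⁻¹) (d.φ jA) := by
        rw [← hk, map_mul, map_mul, map_inv]
        exact hg'.map (MulAut.conj (d.φ k)).toMonoidHom
      have := mul_mem (mul_mem (inv_mem (MonoidHom.mem_range.2 ⟨k, rfl⟩)) (hA _ h2)) (MonoidHom.mem_range.2 ⟨k, rfl⟩)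
      simpa [mul_assoc] using this
    · exact d.cent_range hm hm1 hw hg'

end Data

end Cfsg.Agent.Spor.AltNine
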