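import Cfsg.Agent.Lib.Spor.AltNine.CentA
import Cfsg.Agent.Lib.Spor.AltNine.SmallCase
import Cfsg.Agent.Lib.Spor.AltNine.SixFacts
import Cfsg.Agent.Lib.Spor.AltNine.Pres

/-!
Coordinates on the alternating group of degree six centralising the first three-cycle, agreeing with
the coordinates on the normaliser.
-/

set_option autoImplicit false
set_option maxRecDepth 100000
set_option linter.style.haveILetI false

namespace Cfsg.Agent.Spor.AltNine

open Equiv Subgroup Cfsg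
open Cfsg.Agent.Solv.Special.W648
open Cfsg.Agent.S3335 (Sat)

/-- the generators inside the normaliser: `(345)`, `(34)(67)`, `(34)(78)` -/
def mX1 : M648 := back 1 (c012 0 1 2) 1 1
def mX3 : M648 := back 1 (swap 0 1) (swap 0 1) 1
def mX4 : M648 := back 1 (swap 0 1) (swap 1 2) 1
/-- `(01)(34)` -/
def mTau : M648 := back (swap 0 1) (swap 0 1) 1 1

theorem mX_word : ∀ i : Fin 3, ∃ (k l : Fin 3) (n : Fin 4),
    ![mX1, mX3, mX4] i = dA 0 ^ k.val * dA 1 ^ l.val * mU ^ n.val := by decide +kernel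

theorem mX_rels : mX1 * mX1 * mX1 = 1 ∧ mX1 ≠ 1 ∧ mX3 * mX3 = 1 ∧ mX4 * mX4 = 1 ∧
    mX1 * mX3 * (mX1 * mX3) = 1 ∧ mX1 * mX4 * (mX1 * mX4) = 1 ∧
    mX3 * mX4 * (mX3 * mX4) * (mX3 * mX4) = 1 ∧ mX3 * mX4 ≠ 1 ∧ mX3 * mX4 ≠ mX1 ∧ mX3 * mX4 ≠ mX1 * mX1 := by
  decide +kernel

theorem mTau_rels : mTau * mTau = 1 ∧ mTau * mX1 * mTau⁻¹ = mX1 * mX1 ∧ mTau * mX3 * mTau⁻¹ = mX3 ∧
    mTau * mX4 * mTau⁻¹ = mX4 ∧ mTau * jA * mTau⁻¹ = jA * jA := by
  decide +kernel

theorem mX_types : rot mX1 ∧ rot (mX3 * mX4) ∧ rot (mX1 * (mX3 * mX4)) ∧ centCard mX1 = 108 ∧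
    centCard (mX3 * mX4) = 108 ∧ centCard (mX1 * (mX3 * mX4)) = 54 ∧ centCard jB = 54 := by
  decide +kernel

theorem stdGen6_sat : Sat (stdGen 6) := by
  constructor <;> decide +kernel

/-- conjugation by the transposition of the first two points -/
def oddConj : alternatingGroup (Fin 6) →* alternatingGroup (Fin 6) where
  toFun x := ⟨swap 0 1 * (x : P6) * swap 0 1, by
    rw [Perm.mem_alternatingGroup, map_mul, map_mul, Perm.mem_alternatingGroup.1 x.2]
    simp⟩
  map_one' := Subtype.ext (by simp)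
  map_mul' x y := Subtype.ext (by simp [mul_assoc])

theorem oddConj_gen : oddConj (stdGen 6 (0 : Fin 4)) = stdGen 6 (0 : Fin 4) * stdGen 6 (0 : Fin 4) ∧
    ∀ k : Fin 4, k ≠ 0 → oddConj (stdGen 6 k) = stdGen 6 k := by
  decide +kernel

theorem closure_gen6 {G : Type*} [Group G] {f f' : alternatingGroup (Fin 6) →* G}
    (h : ∀ k, f (stdGen 6 k) = f' (stdGen 6 k)) : f = f' := by
  obtain ⟨F, hF, -⟩ := exists_hom (n := 6) (by norm_num) stdGen6_sat (v := stdGen 6) stdGen6_sat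
  refine MonoidHom.eq_of_eqOn_dense (s := Set.range (stdGen 6)) ?_ (fun x ⟨k, hk⟩ => hk ▸ h k)
  set L := closure (Set.range (stdGen 6))
  have hsat : Sat (fun k => (⟨stdGen 6 k, subset_closure ⟨k, rfl⟩⟩ : L)) := by
    refine ⟨fun i hi => Subtype.ext ?_, fun i hi => Subtype.ext ?_, fun i j hij => Subtype.ext ?_,
      fun i j hij => Subtype.ext ?_⟩ <;> simp only [SubmonoidClass.coe_pow, Subgroup.coe_mul, OneMemClass.coe_one]
    exacts [stdGen6_sat.cube i hi, stdGen6_sat.sq i hi, stdGen6_sat.three i j hij, stdGen6_sat.two i j hij]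
  obtain ⟨g, -, hg⟩ := exists_hom (n := 6) (by norm_num) stdGen6_sat hsat
  refine Subgroup.eq_top_of_le_card _ (Nat.card_le_card_of_injective g (hg ⟨⟨0, by norm_num⟩, fun h => ?_⟩))
  exact absurd (congrArg Subtype.val h) (by decide +kernel)

/-- the relations for the missing generator, in any group -/
def GoodG {G : Type*} [Group G] (r p q w : G) : Prop :=
  w * w = 1 ∧ (r * w) * (r * w) * (r * w) = 1 ∧ (w * p) * (w * p) * (w * p) = 1 ∧ (w * q) * (w * q) = 1

theorem I45_sign : ∀ y ∈ I45, Perm.sign y = 1 := by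
  simp [I45]

theorem unique_w (r p q : alternatingGroup (Fin 6)) (hr3 : r * r * r = 1) (hr1 : r ≠ 1)
    (hp : p * p = 1) (hq : q * q = 1) (hrp : r * p * (r * p) = 1) (hrq : r * q * (r * q) = 1)
    (hpq3 : p * q * (p * q) * (p * q) = 1) (hpq1 : p * q ≠ 1) (hpqr : p * q ≠ r) (hpqr2 : p * q ≠ r * r)
    (hfix : fixN ((p * q : alternatingGroup (Fin 6)) : P6) = fixN (r : P6)) :
    ∃! w, GoodG r p q w := by
  obtain ⟨g, hg, hrep⟩ := conj_rep r (Perm.mem_alternatingGroup.1 r.2)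
    (congrArg Subtype.val hr3) fun h => hr1 (Subtype.ext h)
  let c : alternatingGroup (Fin 6) →* P6 := (MulAut.conj g).toMonoidHom.comp (alternatingGroup (Fin 6)).subtype
  have hc : Function.Injective c := (MulAut.conj g).injective.comp (Subgroup.subtype_injective _)
  have hcs : ∀ x, Perm.sign (c x) = 1 := fun x => by
    simp [c, Perm.mem_alternatingGroup.1 x.2]
  have hsurj : ∀ y, Perm.sign y = 1 → ∃ x, c x = y := fun y hy =>
    ⟨⟨g⁻¹ * y * g, by simp [Perm.mem_alternatingGroup, hy, hg]⟩, by simp [c, mul_assoc]⟩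
  have h45 : ∀ y ∈ I45, y ≠ 1 ∧ y * y = 1 ∧ Perm.sign y = 1 := fun y hy => ⟨I45_ne y hy, Equiv.ext (I45_sq y hy), I45_sign y hy⟩
  have hmem : ∀ x, x * x = 1 → x ≠ 1 → c x ∈ I45 := fun x hx hx1 =>
    (mem_I45 _ (hcs x) (by rw [← map_mul, hx, map_one])).resolve_left fun h => hx1 (hc (h.trans (map_one c).symm))
  have hne : ∀ x, x * x = 1 → r * x * (r * x) = 1 → x ≠ 1 := by
    rintro x - h rfl
    rw [mul_one] at h
    rw [h, one_mul] at hr3
    exact hr1 hr3
  have hfilt : ∀ x, x * x = 1 → r * x * (r * x) = 1 →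
      c x ∈ I45.filter (fun y => decide (c r * y * (c r * y) = 1)) := fun x hx h =>
    List.mem_filter.2 ⟨hmem x hx (hne x hx h), decide_eq_true (by rw [← map_mul, ← map_mul, h, map_one])⟩
  have hlen := unique_of (c r) (by simpa [c] using hrep) _ (hfilt p hp hrp) _ (hfilt q hq hrq)
    (by simp only [← map_mul, hpq3, map_one]) (fun h => hpq1 (hc (by rw [map_mul, h, map_one])))
    (fun h => hpqr (hc (by rw [map_mul, h]))) (fun h => hpqr2 (hc (by rw [map_mul, map_mul, h])))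
    (by
      rw [← map_mul]
      show fixN (g * ((p * q : alternatingGroup (Fin 6)) : P6) * g⁻¹) = fixN (g * (r : P6) * g⁻¹)
      rw [fixN_conj, fixN_conj, hfix])
  obtain ⟨y, hy⟩ := List.length_eq_one_iff.1 hlen
  have hy' : y ∈ [y] := List.mem_singleton_self y
  rw [← hy, List.mem_filter] at hy'
  obtain ⟨h1, h2, h3⟩ := h45 y hy'.1
  obtain ⟨w, rfl⟩ := hsurj y h3
  obtain ⟨k1, k2, k3⟩ := of_decide_eq_true hy'.2
  simp only [← map_mul] at h2 k1 k2 k3
  rw [← map_one c] at h2 k1 k2 k3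
  refine ⟨w, ⟨hc h2, hc k1, hc k2, hc k3⟩, fun v hv => hc ?_⟩
  have hG : Good6 (c r) (c p) (c q) (c v) :=
    ⟨by simp only [← map_mul, hv.2.1, map_one], by simp only [← map_mul, hv.2.2.1, map_one],
      by simp only [← map_mul, hv.2.2.2, map_one]⟩
  have hv1 : v ≠ 1 := by
    rintro rfl
    rw [map_one] at hG
    exact not_good_one _ _ _ (by rw [← map_mul, hp, map_one]) (by rw [← map_mul, hq, map_one])
      (by simp only [← map_mul, hpq3, map_one]) (fun h => hpq1 (hc (by rw [map_mul, h, map_one]))) hG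
  have hvm : c v ∈ I45.filter (fun w => decide (Good6 (c r) (c p) (c q) w)) :=
    List.mem_filter.2 ⟨hmem v hv.1 hv1, decide_eq_true hG⟩
  rw [hy] at hvm
  exact List.mem_singleton.1 hvm

theorem fix_cases (x : alternatingGroup (Fin 6)) (h3 : x * x * x = 1) (h1 : x ≠ 1) :
    fixN (x : P6) = 3 ∨ fixN (x : P6) = 0 := by
  obtain ⟨g, -, h | h⟩ := conj_rep x (Perm.mem_alternatingGroup.1 x.2)
    (congrArg Subtype.val h3) fun h => h1 (Subtype.ext h)
  · exact Or.inl (by rw [← fixN_conj g, h, fixN_reps.1])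
  · exact Or.inr (by rw [← fixN_conj g, h, fixN_reps.2])

theorem conj_of_fix (x y : alternatingGroup (Fin 6)) (hx : x * x * x = 1) (hx1 : x ≠ 1)
    (hy : y * y * y = 1) (hy1 : y ≠ 1) (h : fixN (x : P6) = fixN (y : P6)) : ∃ g, g * x * g⁻¹ = y := by
  obtain ⟨a, ha, ea⟩ := conj_rep x (Perm.mem_alternatingGroup.1 x.2)
    (congrArg Subtype.val hx) fun h => hx1 (Subtype.ext h)
  obtain ⟨b, hb, eb⟩ := conj_rep y (Perm.mem_alternatingGroup.1 y.2)
    (congrArg Subtype.val hy) fun h => hy1 (Subtype.ext h)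
  have e : a * (x : P6) * a⁻¹ = b * (y : P6) * b⁻¹ := by
    obtain ⟨f1, f2⟩ := fixN_reps
    rcases ea with ea | ea <;> rcases eb with eb | eb
    · rw [ea, eb]
    · rw [← fixN_conj a (x : P6), ea, ← fixN_conj b (y : P6), eb] at h; omega
    · rw [← fixN_conj a (x : P6), ea, ← fixN_conj b (y : P6), eb] at h; omega
    · rw [ea, eb]
  refine ⟨⟨b⁻¹ * a, by simp [Perm.mem_alternatingGroup, ha, hb]⟩, Subtype.ext ?_⟩
  show b⁻¹ * a * (x : P6) * (b⁻¹ * a)⁻¹ = y
  calc b⁻¹ * a * (x : P6) * (b⁻¹ * a)⁻¹ = b⁻¹ * (a * (x : P6) * a⁻¹) * b := by group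
    _ = b⁻¹ * (b * (y : P6) * b⁻¹) * b := by rw [e]
    _ = y := by group

theorem sat_four {K : Type*} [Group K] (r w p q : K) (a1 : r * r * r = 1) (a2 : w * w = 1) (a3 : p * p = 1)
    (a4 : q * q = 1) (b1 : r * w * (r * w) * (r * w) = 1) (b2 : w * p * (w * p) * (w * p) = 1)
    (b3 : p * q * (p * q) * (p * q) = 1) (c1 : r * p * (r * p) = 1) (c2 : r * q * (r * q) = 1)
    (c3 : w * q * (w * q) = 1) : Sat (n := 6) (![r, w, p, q] : Fin 4 → K) := by
  have sq2 : ∀ {x : K}, x * x = 1 → x ^ 2 = 1 := fun h => by rw [pow_two, h]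
  have cu : ∀ {x : K}, x * x * x = 1 → x ^ 3 = 1 := fun h => by rw [pow_succ, pow_two, h]
  refine ⟨fun i hi => ?_, fun i hi => ?_, fun i j hij => ?_, fun i j hij => ?_⟩
  · obtain rfl : i = (0 : Fin 4) := Fin.ext hi
    exact cu a1
  · rcases i with ⟨_ | _ | _ | _ | n, h⟩
    · exact absurd hi (by simp)
    exacts [sq2 a2, sq2 a3, sq2 a4, absurd h (by omega)]
  · rcases i with ⟨_ | _ | _ | n, h⟩ <;> rcases j with ⟨_ | _ | _ | _ | m, h'⟩ <;>
      first | exact cu b1 | exact cu b2 | exact cu b3 | (exfalso; simp only at hij; omega)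
  · rcases i with ⟨_ | _ | _ | n, h⟩ <;> rcases j with ⟨_ | _ | _ | _ | m, h'⟩ <;>
      first | exact sq2 c1 | exact sq2 c2 | exact sq2 c3 | (exfalso; simp only at hij; omega)

/-- the coordinates on the large centraliser of a three-cycle -/
structure Big {G : Type*} [Group G] (d : Data G) where
  Φ : alternatingGroup (Fin 6) →* G
  inj : Function.Injective Φ
  comm : ∀ x, Commute (Φ x) (d.φ jA)
  gen0 : Φ (stdGen 6 (0 : Fin 4)) = d.φ mX1
  gen2 : Φ (stdGen 6 (2 : Fin 4)) = d.φ mX3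
  gen3 : Φ (stdGen 6 (3 : Fin 4)) = d.φ mX4
  tau : ∀ x, d.φ mTau * Φ x * (d.φ mTau)⁻¹ = Φ (oddConj x)
  cent : ∀ g : G, Commute g (d.φ jA) → ∃ (i : ℕ) (x : alternatingGroup (Fin 6)), g = d.φ jA ^ i * Φ x

namespace Data

variable {G : Type*} [Group G] [Finite G] (d : Data G)

theorem a_not_conj_b {ι : alternatingGroup (Fin 6) →* G} (hι : Function.Injective ι)
    (hc : ∀ x, Commute (ι x) (d.φ jA)) {j k : M648} (hj : rot j) (hk : rot k) (hk1 : k ≠ 1) (hj1 : j ≠ 1)
    (hwj : centCard j = 108) (hwk : centCard k ≠ 108) (g : G) : g * d.φ j * g⁻¹ ≠ d.φ k := by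
  intro h
  obtain ⟨w, hw⟩ := conj_of_centCard base_facts.1 base_facts.2.2.2.2.2.1 hj hj1 (centCards.1.trans hwj.symm)
  have hin : ∀ x, (g * d.φ w) * ι x * (g * d.φ w)⁻¹ ∈ d.φ.range := fun x => by
    refine d.cent_range hk hk1 hwk ?_
    have e : d.φ k = (g * d.φ w) * d.φ jA * (g * d.φ w)⁻¹ := by
      rw [← h, ← hw, map_mul, map_mul, map_inv]; group
    rw [e]
    exact (hc x).map (MulAut.conj (g * d.φ w)).toMonoidHom
  choose f hf using hin
  have hcm : ∀ x, f x * k = k * f x := fun x => by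
    refine d.comm_iff.1 ?_
    have e : d.φ k = (g * d.φ w) * d.φ jA * (g * d.φ w)⁻¹ := by
      rw [← h, ← hw, map_mul, map_mul, map_inv]; group
    rw [hf, e]
    exact (hc x).map (MulAut.conj (g * d.φ w)).toMonoidHom
  have := Nat.card_le_card_of_injective (fun x => (⟨f x, hcm x⟩ : {m : M648 // m * k = k * m}))
    fun x y e => hι ((MulAut.conj (g * d.φ w)).injective (by
      show (g * d.φ w) * ι x * (g * d.φ w)⁻¹ = (g * d.φ w) * ι y * (g * d.φ w)⁻¹
      rw [← hf, ← hf]; exact congrArg d.φ (congrArg Subtype.val e)))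
  rw [Nat.card_eq_fintype_card (α := {m : M648 // m * k = k * m}), Fintype.card_subtype,
    nat_card_alternatingGroup, Nat.card_fin] at this
  have hle : centCard k ≤ 108 := by
    obtain ⟨u, hu⟩ := rot_orbit k hk hk1
    obtain ⟨cA, cB, cC⟩ := centCards
    rw [← centCard_conj u k]
    rcases hu with e | e | e <;> rw [e] <;> omega
  simp only [centCard] at hle
  have : Nat.factorial 6 / 2 = 360 := rfl
  omega

set_option maxHeartbeats 1600000 in
theorem big_of_iota {ι : alternatingGroup (Fin 6) →* G} (hι : Function.Injective ι)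
    (hc : ∀ x, Commute (ι x) (d.φ jA)) (hd : ∀ i, d.φ (dA i) ∈ ι.range) (hu : d.φ mU ∈ ι.range)
    (hcent : ∀ g : G, Commute g (d.φ jA) → ∃ (i : ℕ) (x : alternatingGroup (Fin 6)), g = d.φ jA ^ i * ι x) :
    Nonempty (Big d) := by
  have hmem : ∀ i : Fin 3, d.φ (![mX1, mX3, mX4] i) ∈ ι.range := fun i => by
    obtain ⟨k, l, n, e⟩ := mX_word i
    rw [e]
    simp only [map_mul, map_pow]
    exact mul_mem (mul_mem (pow_mem (hd 0) _) (pow_mem (hd 1) _)) (pow_mem hu _)
  obtain ⟨r, hr⟩ : d.φ mX1 ∈ ι.range := hmem 0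
  obtain ⟨p, hp⟩ : d.φ mX3 ∈ ι.range := hmem 1
  obtain ⟨q, hq⟩ : d.φ mX4 ∈ ι.range := hmem 2
  obtain ⟨e1, e2, e3, e4, e5, e6, e7, e8, e9, e10⟩ := mX_rels
  obtain ⟨t1, t2, t3, w1, w2, w3, -⟩ := mX_types
  have tr : ∀ {x y : alternatingGroup (Fin 6)} {m n : M648}, ι x = d.φ m → ι y = d.φ n → (x = y ↔ m = n) :=
    fun hx hy => ⟨fun h => d.inj (by rw [← hx, ← hy, h]), fun h => hι (by rw [hx, hy, h])⟩
  have hpq : ι (p * q) = d.φ (mX3 * mX4) := by rw [map_mul, map_mul, hp, hq]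
  have hrpq : ι (r * (p * q)) = d.φ (mX1 * (mX3 * mX4)) := by rw [map_mul, map_mul d.φ, hr, hpq]
  have one' : ι 1 = d.φ 1 := by rw [map_one, map_one]
  have hfix : fixN ((p * q : alternatingGroup (Fin 6)) : P6) = fixN (r : P6) := by
    have r3 : r * r * r = 1 := (tr (by simp only [map_mul, hr]) one').2 e1
    have r1 : r ≠ 1 := fun h => e2 ((tr hr one').1 h)
    have s3 : p * q * (p * q) * (p * q) = 1 := (tr (by simp only [map_mul, hp, hq]) one').2 e7
    have s1 : p * q ≠ 1 := fun h => e8 ((tr hpq one').1 h)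
    have hne : mX1 * (mX3 * mX4) ≠ 1 := by decide +kernel
    have u3 : r * (p * q) * (r * (p * q)) * (r * (p * q)) = 1 := by
      refine hι ?_
      rw [map_mul, map_mul, hrpq, map_one, ← map_mul, ← map_mul, ← map_one d.φ]
      exact congrArg d.φ (by decide +kernel)
    have u1 : r * (p * q) ≠ 1 := fun h => hne ((tr hrpq one').1 h)
    have n1 : fixN (r : P6) ≠ fixN ((r * (p * q) : alternatingGroup (Fin 6)) : P6) := fun h => by
      obtain ⟨g, hg⟩ := conj_of_fix _ _ r3 r1 u3 u1 h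
      exact d.a_not_conj_b hι hc t1 t3 hne e2 w1 (by omega) (ι g) (by rw [← hr, ← hrpq, ← hg]; simp)
    have n2 : fixN ((p * q : alternatingGroup (Fin 6)) : P6) ≠ fixN ((r * (p * q) : alternatingGroup (Fin 6)) : P6) := fun h => by
      obtain ⟨g, hg⟩ := conj_of_fix _ _ s3 s1 u3 u1 h
      exact d.a_not_conj_b hι hc t2 t3 hne e8 w2 (by omega) (ι g) (by rw [← hpq, ← hrpq, ← hg]; simp)
    rcases fix_cases _ r3 r1 with a | a <;> rcases fix_cases _ s3 s1 with b | b <;>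
      rcases fix_cases _ u3 u1 with c | c <;> omega
  obtain ⟨w, hw, huniq⟩ := unique_w r p q ((tr (by simp only [map_mul, hr]) one').2 e1)
    (fun h => e2 ((tr hr one').1 h)) ((tr (by simp only [map_mul, hp]) one').2 e3)
    ((tr (by simp only [map_mul, hq]) one').2 e4) ((tr (by simp only [map_mul, hr, hp]) one').2 e5)
    ((tr (by simp only [map_mul, hr, hq]) one').2 e6) ((tr (by simp only [map_mul, hp, hq]) one').2 e7)
    (fun h => e8 ((tr hpq one').1 h)) (fun h => e9 ((tr hpq hr).1 h))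
    (fun h => e10 ((tr hpq (by simp only [map_mul, hr])).1 h)) hfix
  obtain ⟨g1, g2, g3, g4⟩ := hw
  have hv := sat_four r w p q ((tr (by simp only [map_mul, hr]) one').2 e1) g1
    ((tr (by simp only [map_mul, hp]) one').2 e3) ((tr (by simp only [map_mul, hq]) one').2 e4) g2 g3
    ((tr (by simp only [map_mul, hp, hq]) one').2 e7) ((tr (by simp only [map_mul, hr, hp]) one').2 e5)
    ((tr (by simp only [map_mul, hr, hq]) one').2 e6) g4
  obtain ⟨f, hf, hfinj⟩ := exists_hom (n := 6) (by norm_num) stdGen6_sat hv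
  have hfi : Function.Injective f := hfinj ⟨(0 : Fin 4), fun h => e2 ((tr hr one').1 h)⟩
  have hfs : Function.Surjective f := Finite.injective_iff_surjective.1 hfi
  set Φ := ι.comp f
  have hΦ0 : Φ (stdGen 6 (0 : Fin 4)) = d.φ mX1 := (congrArg ι (hf 0)).trans hr
  have hΦ2 : Φ (stdGen 6 (2 : Fin 4)) = d.φ mX3 := (congrArg ι (hf 2)).trans hp
  have hΦ3 : Φ (stdGen 6 (3 : Fin 4)) = d.φ mX4 := (congrArg ι (hf 3)).trans hq
  obtain ⟨u1, u2, u3, u4, u5⟩ := mTau_rels
  set T := d.φ mTau with hT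
  have hTT : T * T = 1 := by rw [hT, ← map_mul, u1, map_one]
  have hTi : T⁻¹ = T := inv_eq_of_mul_eq_one_right hTT
  have cA : T * d.φ jA * T⁻¹ = d.φ jA * d.φ jA := by rw [hT, ← map_inv, ← map_mul, ← map_mul, u5, map_mul]
  obtain ⟨v, hv'⟩ : T * ι w * T⁻¹ ∈ ι.range := by
    have hcc : Commute (T * ι w * T⁻¹) (d.φ jA) := by
      have h := ((hc w).pow_right 2).map (MulAut.conj T).toMonoidHom
      simp only [MulEquiv.coe_toMonoidHom, MulAut.conj_apply] at h
      rw [← conj_pow, cA] at h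
      have h3 : d.φ jA ^ 3 = 1 := by rw [← map_pow, rot_pow3 base_facts.1, map_one]
      rwa [show (d.φ jA * d.φ jA) ^ 2 = d.φ jA by
        rw [← pow_two, ← pow_mul, show 2 * 2 = 3 + 1 by norm_num, pow_add, h3, one_mul, pow_one]] at h
    obtain ⟨i, x, hx⟩ := hcent _ hcc
    have hsq : (d.φ jA ^ i * ι x) ^ 2 = 1 := by
      rw [← hx, conj_pow, pow_two, ← map_mul, g1, map_one, mul_one, mul_inv_cancel]
    rw [((hc x).symm.pow_left i).mul_pow, ← pow_mul, ← map_pow ι] at hsq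
    refine ⟨x, ?_⟩
    rw [hx]
    suffices d.φ jA ^ i = 1 by rw [this, one_mul]
    have hin : d.φ jA ^ (i * 2) = ι ((x ^ 2)⁻¹) := by rw [map_inv]; exact eq_inv_of_mul_eq_one_left hsq
    have hcyc : d.φ jA ^ (i * 2) = 1 := by
      have hz : ∀ y, Commute ((x ^ 2)⁻¹) y := fun y => hι (by
        rw [map_mul, map_mul, ← hin]; exact ((hc y).pow_right _).symm.eq)
      have : (x ^ 2)⁻¹ ∈ center (alternatingGroup (Fin 6)) := Subgroup.mem_center_iff.2 fun y => (hz y).symm.eq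
      rw [alternatingGroup.center_eq_bot (by simp), Subgroup.mem_bot] at this
      rw [hin, this, map_one]
    have h3 : d.φ jA ^ 3 = 1 := by rw [← map_pow, rot_pow3 base_facts.1, map_one]
    calc d.φ jA ^ i = (d.φ jA ^ 3) ^ i * d.φ jA ^ i := by rw [h3, one_pow, one_mul]
      _ = (d.φ jA ^ (i * 2)) ^ 2 := by rw [← pow_mul, ← pow_add, ← pow_mul]; ring_nf
      _ = 1 := by rw [hcyc, one_pow]
  have conjT : ∀ {x : alternatingGroup (Fin 6)} {m m' : M648}, ι x = d.φ m → mTau * m * mTau⁻¹ = m' →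
      T * ι x * T⁻¹ = d.φ m' := fun hx h => by
    rw [hx, hT, ← h, map_mul, map_mul, map_inv]
  have hvw : v = w := by
    refine huniq v ⟨hι ?_, hι ?_, hι ?_, hι ?_⟩
    · rw [map_mul, hv', map_one]
      calc T * ι w * T⁻¹ * (T * ι w * T⁻¹) = T * ι (w * w) * T⁻¹ := by rw [map_mul]; group
        _ = 1 := by rw [g1, map_one, mul_one, mul_inv_cancel]
    · have hw2 : ι w * ι w = 1 := by rw [← map_mul, g1, map_one]
      have hwi : (ι w)⁻¹ = ι w := inv_eq_of_mul_eq_one_right hw2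
      have hrr : ι r * ι r = (ι r)⁻¹ := by
        refine eq_inv_of_mul_eq_one_left ?_
        rw [hr, ← map_mul, ← map_mul, e1, map_one]
      have key : ι r * (T * ι w * T⁻¹) = T * ((ι r)⁻¹ * ι w) * T⁻¹ := by
        rw [← hrr, show T * (ι r * ι r * ι w) * T⁻¹ = T * (ι r * ι r) * T⁻¹ * (T * ι w * T⁻¹) by group,
          show T * (ι r * ι r) * T⁻¹ = (T * ι r * T⁻¹) * (T * ι r * T⁻¹) by group, conjT hr u2, map_mul, ← hr,
          show ι r * ι r * (ι r * ι r) = ι r * (ι r * ι r * ι r) by group, hr, ← map_mul d.φ mX1 mX1,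
          ← map_mul, e1, map_one, mul_one]
      have h3' : ((ι r)⁻¹ * ι w) ^ 3 = 1 := by
        have h := g2
        have h' : (ι r * ι w) ^ 3 = 1 := by rw [← map_mul, ← map_pow, pow_succ, pow_two, h, map_one]
        exact Cfsg.Agent.S3335.swap_pow (by rw [pow_two, hw2]) h'
      rw [map_one, map_mul, map_mul, map_mul, hv', key]
      calc _ = T * ((ι r)⁻¹ * ι w) ^ 3 * T⁻¹ := by rw [pow_succ, pow_two]; group
        _ = 1 := by rw [h3', mul_one, mul_inv_cancel]
    · have hpT : ι p = T * ι p * T⁻¹ := (conjT hp u3).symm ▸ hp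
      rw [map_one, map_mul, map_mul, map_mul, hv', hpT]
      calc _ = T * ι ((w * p) * (w * p) * (w * p)) * T⁻¹ := by simp only [map_mul]; group
        _ = 1 := by rw [g3, map_one, mul_one, mul_inv_cancel]
    · have hqT : ι q = T * ι q * T⁻¹ := (conjT hq u4).symm ▸ hq
      rw [map_one, map_mul, map_mul, hv', hqT]
      calc _ = T * ι ((w * q) * (w * q)) * T⁻¹ := by simp only [map_mul]; group
        _ = 1 := by rw [g4, map_one, mul_one, mul_inv_cancel]
  have heq : ((MulAut.conj T).toMonoidHom.comp Φ) = Φ.comp oddConj := by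
    refine closure_gen6 fun k => ?_
    obtain ⟨o0, ok⟩ := oddConj_gen
    show T * Φ (stdGen 6 k) * T⁻¹ = Φ (oddConj (stdGen 6 k))
    fin_cases k
    · show T * Φ (stdGen 6 (0 : Fin 4)) * T⁻¹ = Φ (oddConj (stdGen 6 (0 : Fin 4)))
      rw [o0, map_mul, hΦ0]
      have h := conjT hr u2
      rw [hr, map_mul] at h
      exact h
    · show T * Φ (stdGen 6 (1 : Fin 4)) * T⁻¹ = Φ (oddConj (stdGen 6 (1 : Fin 4)))
      rw [ok 1 (by decide), show Φ (stdGen 6 (1 : Fin 4)) = ι w from congrArg ι (hf 1), ← hv', hvw]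
    · show T * Φ (stdGen 6 (2 : Fin 4)) * T⁻¹ = Φ (oddConj (stdGen 6 (2 : Fin 4)))
      rw [ok 2 (by decide), hΦ2]
      exact hp ▸ conjT hp u3
    · show T * Φ (stdGen 6 (3 : Fin 4)) * T⁻¹ = Φ (oddConj (stdGen 6 (3 : Fin 4)))
      rw [ok 3 (by decide), hΦ3]
      exact hq ▸ conjT hq u4
  refine ⟨⟨Φ, hι.comp hfi, fun x => hc _, hΦ0, hΦ2, hΦ3, fun x => DFunLike.congr_fun heq x, fun g hg => ?_⟩⟩
  obtain ⟨i, x, hx⟩ := hcent g hg
  obtain ⟨x', rfl⟩ := hfs x
  exact ⟨i, x', hx⟩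

/-- either the normaliser is the whole group or the centraliser of the three-cycle carries coordinates -/
theorem top_or_big : d.φ.range = ⊤ ∨ Nonempty (Big d) := by
  rcases d.centA with h | ⟨ι, h1, h2, h3, h4, h5⟩
  · exact Or.inl (d.range_eq_top_of_small h)
  · exact Or.inr (d.big_of_iota h1 h2 h3 h4 h5)

end Data

end Cfsg.Agent.Spor.AltNine
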