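import Cfsg.Agent.Lib.Spor.AltNine.Gen

/-!
A central element of a Sylow subgroup outside the residual.
-/

set_option autoImplicit false
set_option linter.style.haveILetI false

namespace Cfsg.Agent.Spor.AltNine

open Subgroup Cfsg

open scoped IsMulCommutative in
theorem central_not_mem_residual {p : ℕ} [Fact p.Prime] {X : Type*} [Group X] [Finite X] (P : Sylow p X)
    [IsMulCommutative (P : Subgroup X)] {y : X} (hy : y ∈ (P : Subgroup X)) (hc : ∀ g : X, g * y = y * g)
    (h1 : y ≠ 1) : y ∉ pResidual p X := by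
  classical
  have key : ∀ (k : ℕ) (g₀ : X), g₀⁻¹ * y ^ k * g₀ ∈ (P : Subgroup X) → g₀⁻¹ * y ^ k * g₀ = y ^ k := by
    intro k g₀ _
    rw [mul_assoc, ((show Commute y g₀ from (hc g₀).symm).pow_left k).eq, inv_mul_cancel_left]
  let f : X →* (P : Subgroup X) := MonoidHom.transfer (MonoidHom.id (P : Subgroup X))
  have hf : (f y : X) = y ^ (P : Subgroup X).index := by
    simp only [f, MonoidHom.transfer_eq_pow _ y key, MonoidHom.id_apply]
  have hne : f y ≠ 1 := by
    intro h
    rw [h, OneMemClass.coe_one] at hf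
    obtain ⟨k, hk⟩ := (IsPGroup.iff_orderOf.mp P.isPGroup') ⟨y, hy⟩
    rw [Subgroup.orderOf_mk] at hk
    refine h1 (orderOf_eq_one_iff.mp (Nat.eq_one_of_dvd_coprimes ?_ (dvd_of_eq hk)
      (orderOf_dvd_of_pow_eq_one hf.symm)))
    exact Nat.Coprime.pow_left k ((Fact.out : p.Prime).coprime_iff_not_dvd.mpr P.not_dvd_index)
  have hle : Cfsg.pResidual p X ≤ f.ker := by
    rw [Cfsg.pResidual, Subgroup.closure_le]
    intro g hg
    obtain ⟨k, hk⟩ := (IsPGroup.iff_orderOf.mp P.isPGroup') (f g)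
    refine MonoidHom.mem_ker.mpr (orderOf_eq_one_iff.mp ?_)
    exact Nat.eq_one_of_dvd_coprimes (Nat.Coprime.pow_right k hg) (orderOf_map_dvd f g)
      (dvd_of_eq hk)
  exact fun h => hne (MonoidHom.mem_ker.mp (hle h))

/-- in a normal subgroup, every element of three-power order lies in a normal Sylow subgroup -/
theorem mem_of_normal_sylow {p : ℕ} [Fact p.Prime] {X : Type*} [Group X] [Finite X] (P : Sylow p X)
    [(P : Subgroup X).Normal] {x : X} (h : ∃ k, x ^ p ^ k = 1) : x ∈ (P : Subgroup X) := by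
  obtain ⟨k, hk⟩ := h
  have hz : IsPGroup p (zpowers x) := by
    obtain ⟨i, -, hi⟩ := (Nat.dvd_prime_pow Fact.out).1 (orderOf_dvd_of_pow_eq_one hk)
    exact IsPGroup.of_card (n := i) (by rw [Nat.card_zpowers, hi])
  obtain ⟨Q, hQ⟩ := hz.exists_le_sylow
  obtain ⟨g, hg⟩ := MulAction.exists_smul_eq X P Q
  rw [Sylow.smul_eq_of_normal] at hg
  exact hg ▸ hQ (mem_zpowers x)

end Cfsg.Agent.Spor.AltNine
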