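import Cfsg.Agent.Lib.Spor.AltNine.LocalFacts
import Cfsg.Agent.Lib.Spor.AltNine.Residual

/-!
The centralisers of the elements of order three.
-/

set_option autoImplicit false
set_option maxRecDepth 100000
set_option linter.style.haveILetI false

namespace Cfsg.Agent.Spor.AltNine

open Subgroup Cfsg
open Cfsg.Agent.Solv.Special.W648

theorem rot_pow3 {m : M648} (h : rot m) : m ^ 3 = 1 := by rw [pow_succ, pow_two, (rot_inv m h).2]

namespace Data

variable {G : Type*} [Group G] [Finite G] (d : Data G)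

/-- conjugation of the generators suffices -/
theorem norm_J_gen {g : G} (z : M648) (D : Fin 2 → M648) (hgen : ∀ j, rot j → ∃ i k l : Fin 3,
    j = z ^ i.val * (D 0 ^ k.val * D 1 ^ l.val)) (h0 : g * d.φ z * g⁻¹ ∈ d.J)
    (hD : ∀ i, g * d.φ (D i) * g⁻¹ ∈ d.J) : g ∈ d.φ.range := by
  refine d.norm_J fun x hx => ?_
  obtain ⟨j, hj, rfl⟩ := d.mem_J.1 hx
  obtain ⟨i, k, l, rfl⟩ := hgen j hj
  simp only [map_mul, map_pow]
  rw [show g * (d.φ z ^ i.val * (d.φ (D 0) ^ k.val * d.φ (D 1) ^ l.val)) * g⁻¹ =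
    (g * d.φ z * g⁻¹) ^ i.val * ((g * d.φ (D 0) * g⁻¹) ^ k.val * (g * d.φ (D 1) * g⁻¹) ^ l.val) by
      rw [conj_pow, conj_pow, conj_pow]; group]
  exact mul_mem (pow_mem h0 _) (mul_mem (pow_mem (hD 0) _) (pow_mem (hD 1) _))

section

variable (z : M648)

/-- the centraliser of an element of the model -/
abbrev X : Subgroup G := centralizer ({d.φ z} : Set G)

/-- the residual of the centraliser -/
abbrev MX : Subgroup (d.X z) := pResidual 3 (d.X z)

/-- the part of the abelian subgroup in the residual -/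
def DX : Subgroup (d.MX z) := d.J.comap ((d.X z).subtype.comp (d.MX z).subtype)

theorem mem_DX {x : d.MX z} : x ∈ d.DX z ↔ ((x : d.X z) : G) ∈ d.J := Iff.rfl

variable {z} (hz : rot z) (h9 : ∀ m : M648, m * z = z * m → m ^ 9 = 1 → rot m)

include hz in
theorem J_le_X : d.J ≤ d.X z := fun x hx =>
  mem_centralizer_singleton_iff.2 (d.J_comm hx ⟨z, hz, rfl⟩)

include hz h9 in
theorem sylow_X : ∃ P : Sylow 3 (d.X z), (P : Subgroup (d.X z)) = d.J.subgroupOf (d.X z) := by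
  haveI : Fact (Nat.Prime 3) := ⟨Nat.prime_three⟩
  refine exists_sylow_eq _ (d.J_pGroup.comap_of_injective _ (d.X z).subtype_injective) fun x hx ⟨k, hk⟩ => ?_
  obtain ⟨m, hm⟩ := d.norm_J fun y hy =>
    ((Subgroup.mem_normalizer_iff.1 hx) ⟨y, d.J_le_X hz hy⟩).1 hy
  have hc : m * z = z * m := d.comm_iff.1 (hm ▸ mem_centralizer_singleton_iff.1 x.2)
  refine ⟨m, h9 m hc (three_pow (k := k) (d.inj ?_) (pow_36 m)), hm⟩
  rw [map_pow, hm, map_one]
  exact congrArg Subtype.val hk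

include hz h9 in
theorem not_mem_MX (hz1 : z ≠ 1) : (⟨d.φ z, d.J_le_X hz ⟨z, hz, rfl⟩⟩ : d.X z) ∉ d.MX z := by
  haveI : Fact (Nat.Prime 3) := ⟨Nat.prime_three⟩
  obtain ⟨P, hP⟩ := d.sylow_X hz h9
  haveI : IsMulCommutative (P : Subgroup (d.X z)) := by
    refine ⟨⟨fun a b => Subtype.ext (Subtype.ext ?_)⟩⟩
    have ha := a.2; have hb := b.2
    simp only [hP, mem_subgroupOf] at ha hb
    exact d.J_comm ha hb
  refine central_not_mem_residual P (by rw [hP]; exact ⟨z, hz, rfl⟩)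
    (fun g => Subtype.ext (mem_centralizer_singleton_iff.1 g.2)) ?_
  exact fun h => hz1 (d.inj ((congrArg Subtype.val h).trans (map_one d.φ).symm))

theorem even_mem_MX {t : M648} (ht : t * z = z * t) (hcop : (orderOf t).Coprime 3) :
    (⟨d.φ t, mem_centralizer_singleton_iff.2 (d.comm_iff.2 ht).eq⟩ : d.X z) ∈ d.MX z := by
  refine subset_closure ?_
  show Nat.Coprime (orderOf (⟨d.φ t, _⟩ : d.X z)) 3
  rwa [Subgroup.orderOf_mk, orderOf_injective d.φ d.inj]

include hz in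
theorem gen_mem {t : M648} (ht : t * z = z * t) (hcop : (orderOf t).Coprime 3) {j : M648} (hj : rot j) :
    ∃ x : d.MX z, x ∈ d.DX z ∧ ((x : d.X z) : G) = d.φ (t * j * t⁻¹ * j⁻¹) := by
  set T : d.X z := ⟨d.φ t, mem_centralizer_singleton_iff.2 (d.comm_iff.2 ht).eq⟩
  set U : d.X z := ⟨d.φ j, d.J_le_X hz ⟨j, hj, rfl⟩⟩
  have hT : T ∈ d.MX z := d.even_mem_MX ht hcop
  have h : T * (U * T⁻¹ * U⁻¹) ∈ d.MX z :=
    mul_mem hT ((inferInstance : (d.MX z).Normal).conj_mem _ (inv_mem hT) U)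
  refine ⟨⟨_, h⟩, ?_, ?_⟩
  · rw [mem_DX]
    refine ⟨t * j * t⁻¹ * j⁻¹, (rot_mul _ (rot_conj j hj t) _ (rot_inv j hj).1).1, ?_⟩
    simp [T, U, mul_assoc]
  · simp [T, U, mul_assoc]

variable (D : Fin 2 → M648) (hgen : ∀ j, rot j → ∃ i k l : Fin 3, j = z ^ i.val * (D 0 ^ k.val * D 1 ^ l.val))
  (hD : ∀ i, ∃ x : d.MX z, x ∈ d.DX z ∧ ((x : d.X z) : G) = d.φ (D i))

include hz hgen hD in
theorem norm_DX {g : d.X z} (h : ∀ x : d.MX z, x ∈ d.DX z → (g : G) * ((x : d.X z) : G) * (g : G)⁻¹ ∈ d.J) :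
    ∃ m, m * z = z * m ∧ d.φ m = (g : G) := by
  have hcm : (g : G) * d.φ z * (g : G)⁻¹ = d.φ z := by
    rw [mem_centralizer_singleton_iff.1 g.2, mul_inv_cancel_right]
  obtain ⟨m, hm⟩ := d.norm_J_gen (g := (g : G)) z D hgen (by rw [hcm]; exact ⟨z, hz, rfl⟩) fun i => by
    obtain ⟨x, hx, e⟩ := hD i
    rw [← e]; exact h x hx
  exact ⟨m, d.comm_iff.1 (hm ▸ mem_centralizer_singleton_iff.1 g.2), hm⟩

include hz h9 hgen hD in
theorem sylow_MX : ∃ P : Sylow 3 (d.MX z), (P : Subgroup (d.MX z)) = d.DX z := by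
  haveI : Fact (Nat.Prime 3) := ⟨Nat.prime_three⟩
  refine exists_sylow_eq _ (d.J_pGroup.comap_of_injective _ ((d.X z).subtype_injective.comp (d.MX z).subtype_injective))
    fun x hx ⟨k, hk⟩ => ?_
  obtain ⟨m, hc, hm⟩ := d.norm_DX hz D hgen hD (g := (x : d.X z)) fun y hy =>
    (Subgroup.mem_normalizer_iff.1 hx y).1 hy
  refine (d.mem_DX z).2 ⟨m, h9 m hc (three_pow (k := k) (d.inj ?_) (pow_36 m)), hm⟩
  rw [map_pow, hm, map_one]
  exact congrArg (fun v : d.MX z => ((v : d.X z) : G)) hk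

include hz h9 in
theorem core_MX (hz1 : z ≠ 1) : pPrimeCore 3 (d.MX z) = ⊥ :=
  pPrimeCore_normal_bot (d.hcore z (rot_pow3 hz) hz1) _

end

/-- the centraliser of a product of two three-cycles -/
theorem centB {g : G} (hg : Commute g (d.φ jB)) : ∃ m, m * jB = jB * m ∧ d.φ m = g := by
  haveI : Fact (Nat.Prime 3) := ⟨Nat.prime_three⟩
  obtain ⟨-, hB, -, hA3, hd, -, hB1, he2, heB, -⟩ := base_facts
  have hcop : (orderOf mT).Coprime 3 := by
    refine Nat.Coprime.coprime_dvd_left (orderOf_dvd_of_pow_eq_one (n := 2) ?_) (by norm_num)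
    rw [pow_two, he2]
  have hD : ∀ i, ∃ x : d.MX jB, x ∈ d.DX jB ∧ ((x : d.X jB) : G) = d.φ (dB i) := by
    intro i
    fin_cases i
    · exact d.gen_mem hB heB hcop base_facts.1
    · exact d.gen_mem hB heB hcop hA3
  obtain ⟨P, hP⟩ := d.sylow_MX hB cent_B9 dB gen_B hD
  haveI hcomm : IsMulCommutative (P : Subgroup (d.MX jB)) := by
    refine ⟨⟨fun a b => Subtype.ext (Subtype.ext (Subtype.ext ?_))⟩⟩
    have ha := a.2; have hb := b.2
    simp only [hP, mem_DX] at ha hb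
    exact d.J_comm ha hb
  choose x hxD hx using hD
  have hnc : ¬ IsCyclic (P : Subgroup (d.MX jB)) := by
    intro h
    obtain ⟨u, hu⟩ := h.exists_generator
    have hu3 : u ^ 3 = 1 := by
      have hu' := u.2
      simp only [hP, mem_DX] at hu'
      obtain ⟨j, hj, e⟩ := d.mem_J.1 hu'
      refine Subtype.ext (Subtype.ext (Subtype.ext ?_))
      show (((u : d.MX jB) : d.X jB) : G) ^ 3 = 1
      rw [← e, ← map_pow, rot_pow3 hj, map_one]
    let f : Fin 3 × Fin 3 → (P : Subgroup (d.MX jB)) := fun e =>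
      ⟨x 0 ^ e.1.val * x 1 ^ e.2.val, by
        rw [hP]; exact mul_mem (pow_mem (hxD 0) _) (pow_mem (hxD 1) _)⟩
    have hf : Function.Injective f := by
      rintro ⟨a, b⟩ ⟨a', b'⟩ e
      have e' := congrArg (fun v : (P : Subgroup (d.MX jB)) => (((v : d.MX jB) : d.X jB) : G)) e
      simp only [f, Subgroup.coe_mul, SubmonoidClass.coe_pow, hx, ← map_pow, ← map_mul] at e'
      have key : ∀ a b a' b' : Fin 3, dB 0 ^ a.val * dB 1 ^ b.val = dB 0 ^ a'.val * dB 1 ^ b'.val →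
          a = a' ∧ b = b' := by decide +kernel
      obtain ⟨rfl, rfl⟩ := key a b a' b' (d.inj e')
      rfl
    have h1 := Nat.card_le_card_of_injective f hf
    have h2 : Nat.card (P : Subgroup (d.MX jB)) ≤ 3 := by
      rw [← orderOf_eq_card_of_forall_mem_zpowers hu]
      exact orderOf_le_of_pow_eq_one (by norm_num) hu3
    simp at h1
    omega
  have hTm : (⟨d.φ mT, mem_centralizer_singleton_iff.2 (d.comm_iff.2 heB).eq⟩ : d.X jB) ∈ d.MX jB :=
    d.even_mem_MX heB hcop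
  have hmodel : ∀ b ∈ normalizer ((P : Subgroup (d.MX jB)) : Set (d.MX jB)),
      ∃ m, m * jB = jB * m ∧ d.φ m = ((b : d.X jB) : G) := fun b hb =>
    d.norm_DX hB dB gen_B (fun i => ⟨x i, hxD i, hx i⟩) (g := (b : d.X jB)) fun y hy => by
      rw [← hP] at hy
      have := (Subgroup.mem_normalizer_iff.1 hb y).1 hy
      rwa [hP, mem_DX] at this
  have hcent : ∀ b : d.MX jB, ∀ m, rot m → d.φ m = ((b : d.X jB) : G) →
      b ∈ centralizer ((P : Subgroup (d.MX jB)) : Set (d.MX jB)) := by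
    intro b m hm e
    rw [mem_centralizer_iff]
    intro y hy
    simp only [SetLike.mem_coe, hP, mem_DX] at hy
    exact Subtype.ext (Subtype.ext (d.J_comm hy ⟨m, hm, e⟩))
  have hrot : rot (mT * jA * mT⁻¹) := rot_conj _ base_facts.1 _
  have hidx : ((centralizer ((P : Subgroup (d.MX jB)) : Set (d.MX jB))).subgroupOf
      (normalizer ((P : Subgroup (d.MX jB)) : Set (d.MX jB)))).index = 2 := by
    refine Subgroup.relIndex_eq_two_iff_exists_notMem_and.2 ⟨⟨_, hTm⟩, ?_, ?_, fun b hb => ?_⟩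
    · rw [Subgroup.mem_normalizer_iff]
      intro y
      simp only [SetLike.mem_coe, hP, mem_DX]
      refine ⟨fun hy => ?_, fun hy => ?_⟩
      · exact d.range_norm_J ⟨mT, rfl⟩ hy
      · have := d.range_norm_J (g := (d.φ mT)⁻¹) (inv_mem ⟨mT, rfl⟩) hy
        simpa [mul_assoc] using this
    · intro h
      have hy : x 1 ∈ (P : Subgroup (d.MX jB)) := by rw [hP]; exact hxD 1
      have e := congrArg (fun v : d.MX jB => ((v : d.X jB) : G)) (mem_centralizer_iff.1 h _ hy)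
      simp only [Subgroup.coe_mul, hx, ← map_mul] at e
      exact e1_moves (d.inj e).symm
    · obtain ⟨m, hc, hm⟩ := hmodel b hb
      rcases cent_B m hc with h | h
      · exact Or.inr (hcent b m h hm)
      · refine Or.inl (hcent _ (m * mT) h ?_)
        rw [map_mul, hm]; rfl
  rcases S3347.result 3 (by norm_num) P hcomm hnc hidx with h | h
  · exact absurd pResidual_idem h
  haveI := sylow_normal_of_pLength (d.core_MX hB cent_B9 hB1) h P
  refine ⟨_, (d.norm_DX hB dB gen_B (fun i => ⟨x i, hxD i, hx i⟩)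
    (g := ⟨g, mem_centralizer_singleton_iff.2 hg.eq⟩) fun y hy => ?_).choose_spec⟩
  set gX : d.X jB := ⟨g, mem_centralizer_singleton_iff.2 hg.eq⟩
  have hconj : gX * (y : d.X jB) * gX⁻¹ ∈ d.MX jB :=
    (inferInstance : (d.MX jB).Normal).conj_mem _ y.2 gX
  have hy3 : ∃ k, (⟨_, hconj⟩ : d.MX jB) ^ 3 ^ k = 1 := by
    obtain ⟨j, hj, e⟩ := d.mem_J.1 hy
    refine ⟨1, Subtype.ext (Subtype.ext ?_)⟩
    show (g * ((y : d.X jB) : G) * g⁻¹) ^ (3 ^ 1) = 1
    have e' : ((y : d.X jB) : G) = d.φ j := e.symm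
    rw [conj_pow, pow_one, e', ← map_pow, rot_pow3 hj, map_one, mul_one, mul_inv_cancel]
  have := mem_of_normal_sylow P hy3
  rwa [hP, mem_DX] at this

theorem centCard_conj' (k a : M648) : centCard (k * a * k⁻¹) = centCard a := centCard_conj k a

/-- only the three-cycles have larger centralisers -/
theorem cent_range {j : M648} (hj : rot j) (hj1 : j ≠ 1) (hw : centCard j ≠ 108) {g : G}
    (hg : Commute g (d.φ j)) : g ∈ d.φ.range := by
  obtain ⟨k, hk⟩ := rot_orbit j hj hj1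
  have hcA := centCards.1
  have hg' : ∀ y, k * j * k⁻¹ = y → Commute (d.φ k * g * (d.φ k)⁻¹) (d.φ y) := fun y e => by
    rw [← e, map_mul, map_mul, map_inv]
    exact (show Commute g (d.φ j) from hg).map (MulAut.conj (d.φ k)).toMonoidHom
  have back : d.φ k * g * (d.φ k)⁻¹ ∈ d.φ.range → g ∈ d.φ.range := fun h => by
    have := mul_mem (mul_mem (inv_mem (MonoidHom.mem_range.2 ⟨k, rfl⟩)) h) (MonoidHom.mem_range.2 ⟨k, rfl⟩)
    simpa [mul_assoc] using this
  rcases hk with e | e | e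
  · exact absurd (by rw [← centCard_conj k j, e, hcA]) hw
  · obtain ⟨m, -, hm⟩ := d.centB (hg' _ e)
    exact back ⟨m, hm⟩
  · refine back ?_
    have h := mem_centralizer_singleton_iff.2 (hg' _ e).eq
    rw [d.centC] at h
    obtain ⟨m, -, hm⟩ := h
    exact ⟨m, hm⟩

end Data

end Cfsg.Agent.Spor.AltNine
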