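import Cfsg.Agent.Lib.Spor.AltNine.Setup
import Cfsg.Agent.Lib.Solv.Special.Main648

/-!
Finite checks for the centralisers of the elements of order three.
-/

set_option autoImplicit false
set_option maxRecDepth 100000

namespace Cfsg.Agent.Spor.AltNine

open Cfsg.Agent.Solv.Special.W648

/-- the involution inverting the third block and exchanging the other two -/
def mT : M648 := Cfsg.Agent.Solv.Special.W648.e1

/-- the second and the third three-cycle -/
def jA2 : M648 := gB * jA * gB⁻¹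
def jA3 : M648 := gB * gB * jA * gB⁻¹ * gB⁻¹

/-- generators of the part of the abelian subgroup in the residual of the centraliser -/
def dB : Fin 2 → M648 := ![mT * jA * mT⁻¹ * jA⁻¹, mT * jA3 * mT⁻¹ * jA3⁻¹]

/-- the same for the first three-cycle -/
def dA : Fin 2 → M648 := ![mU * jA2 * mU⁻¹ * jA2⁻¹, mU * jA3 * mU⁻¹ * jA3⁻¹]

theorem base_facts : rot jA ∧ rot jB ∧ rot jA2 ∧ rot jA3 ∧ (∀ i, rot (dA i) ∧ rot (dB i)) ∧ jA ≠ 1 ∧ jB ≠ 1 ∧
    mT * mT = 1 ∧ mT * jB = jB * mT ∧ mU ^ 4 = 1 ∧ mU * jA = jA * mU ∧ jB = jA * jA2 := by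
  decide +kernel

theorem e1_moves : mT * dB 1 ≠ dB 1 * mT := by decide +kernel
theorem mU_moves : mU * dA 0 ≠ dA 0 * mU ∧ mU * mU * dA 0 ≠ dA 0 * (mU * mU) := by decide +kernel

theorem gen_B : ∀ j : M648, rot j → ∃ i k l : Fin 3, j = jB ^ i.val * (dB 0 ^ k.val * dB 1 ^ l.val) := by
  decide +kernel

theorem gen_A : ∀ j : M648, rot j → ∃ i k l : Fin 3, j = jA ^ i.val * (dA 0 ^ k.val * dA 1 ^ l.val) := by
  decide +kernel

theorem cent_B : ∀ m : M648, m * jB = jB * m → rot m ∨ rot (m * mT) := by decide +kernel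
theorem cent_B9 : ∀ m : M648, m * jB = jB * m → m ^ 9 = 1 → rot m := by decide +kernel
theorem cent_J : ∀ m : M648, m * jA = jA * m → m * jA2 = jA2 * m → m * jA3 = jA3 * m → rot m := by decide +kernel
theorem cent_A : ∀ m : M648, m * jA = jA * m → ∃ k : Fin 4, rot (m * mU ^ k.val) := by decide +kernel
theorem cent_A9 : ∀ m : M648, m * jA = jA * m → m ^ 9 = 1 → rot m := by decide +kernel

theorem dA_types : ∀ k l : Fin 3, (k ≠ 0 ∨ l ≠ 0) →
    ∃ i : Fin 3, jA ^ i.val * (dA 0 ^ k.val * dA 1 ^ l.val) ≠ 1 ∧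
      centCard (jA ^ i.val * (dA 0 ^ k.val * dA 1 ^ l.val)) ≠ 108 := by
  decide +kernel

theorem cent_A_dA : ∀ k l : Fin 3, (k ≠ 0 ∨ l ≠ 0) → ∀ m : M648, m * jA = jA * m →
    m * (dA 0 ^ k.val * dA 1 ^ l.val) = dA 0 ^ k.val * dA 1 ^ l.val * m → rot m := by
  decide +kernel

theorem dA_free : ∀ i k l : Fin 3, jA ^ i.val * (dA 0 ^ k.val * dA 1 ^ l.val) = 1 → i = 0 ∧ k = 0 ∧ l = 0 := by
  decide +kernel

theorem dB_free : ∀ k l : Fin 3, dB 0 ^ k.val * dB 1 ^ l.val = 1 → k = 0 ∧ l = 0 := by decide +kernel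

theorem dA_classes : (∃ k l : Fin 3, dA 0 ^ k.val * dA 1 ^ l.val = jA2) ∧ centCard jA2 = 108 ∧
    centCard (dA 0) ≠ 108 := by decide +kernel

end Cfsg.Agent.Spor.AltNine
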