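import Mathlib

/-!
The normaliser of three disjoint three-cycles in the alternating group of degree nine.
-/

set_option autoImplicit false
set_option maxRecDepth 100000

namespace Cfsg.Agent.Spor.AltNine

open Equiv Subgroup

abbrev P9 := Perm (Fin 9)

def c012 {n : ℕ} (a b c : Fin n) : Perm (Fin n) := swap a b * swap b c

def a1 : P9 := c012 0 1 2
def a2 : P9 := c012 3 4 5
def a3 : P9 := c012 6 7 8

/-- the elementary abelian group of the model -/
def J0 : Subgroup P9 := closure {a1, a2, a3}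

/-- the normaliser inside the alternating group -/
def HH : Subgroup P9 := alternatingGroup (Fin 9) ⊓ normalizer (J0 : Set P9)

def jel (x : Fin 3 × Fin 3 × Fin 3) : P9 := a1 ^ x.1.val * a2 ^ x.2.1.val * a3 ^ x.2.2.val

theorem jel_mul : ∀ x y : Fin 3 × Fin 3 × Fin 3, jel x * jel y = jel (x + y) := by decide +kernel

theorem jel_zero : jel 0 = 1 := by decide +kernel

theorem jel_inj : ∀ x y : Fin 3 × Fin 3 × Fin 3, jel x = jel y → x = y := by decide +kernel

theorem mem_J0 {p : P9} : p ∈ J0 ↔ ∃ x, p = jel x := by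
  constructor
  · intro h
    induction h using closure_induction with
    | mem x hx =>
      rcases hx with rfl | rfl | rfl
      · exact ⟨(1, 0, 0), by decide +kernel⟩
      · exact ⟨(0, 1, 0), by decide +kernel⟩
      · exact ⟨(0, 0, 1), by decide +kernel⟩
    | one => exact ⟨0, jel_zero.symm⟩
    | mul x y _ _ hx hy =>
      obtain ⟨u, rfl⟩ := hx; obtain ⟨v, rfl⟩ := hy
      exact ⟨u + v, jel_mul u v⟩
    | inv x _ hx =>
      obtain ⟨u, rfl⟩ := hx
      exact ⟨-u, inv_eq_of_mul_eq_one_right (by rw [jel_mul, add_neg_cancel, jel_zero])⟩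
  · rintro ⟨x, rfl⟩
    exact mul_mem (mul_mem (pow_mem (subset_closure (by simp [a1])) _) (pow_mem (subset_closure (by simp)) _))
      (pow_mem (subset_closure (by simp)) _)

/-- the block of a point -/
def blk (i : Fin 9) : Fin 3 := ⟨i.val / 3, by omega⟩

def pt (b : Fin 3) (k : Fin 3) : Fin 9 := finProdFinEquiv (b, k)

theorem pt_blk : ∀ i : Fin 9, pt (blk i) ⟨i.val % 3, Nat.mod_lt _ (by norm_num)⟩ = i := by decide
theorem blk_pt : ∀ b k, blk (pt b k) = b := by decide
theorem pt_inj : ∀ b k c l, pt b k = pt c l → b = c ∧ k = l := by decide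

/-- a permutation preserving the blocks -/
def hel (x y z π : Perm (Fin 3)) : P9 :=
  finProdFinEquiv.permCongr ((Equiv.prodCongr π (Equiv.refl (Fin 3))) * Equiv.prodCongrRight ![x, y, z])

theorem hel_pt : ∀ (x y z π : Perm (Fin 3)) (b k : Fin 3), hel x y z π (pt b k) = pt (π b) ((![x, y, z]) b k) := by
  intro x y z π b k
  simp [hel, pt, Equiv.permCongr_apply, Perm.mul_apply]

theorem jel_blk : ∀ x i, blk (jel x i) = blk i := by decide +kernel

theorem blk_orbit : ∀ i j : Fin 9, blk i = blk j → ∃ m : Fin 3, (a1 ^ m.val * a2 ^ m.val * a3 ^ m.val) i = j := by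
  decide +kernel

theorem exists_hel (p : P9) (hp : ∀ i j, blk i = blk j → blk (p i) = blk (p j)) : ∃ x y z π, p = hel x y z π := by
  have hpow : ∀ n : ℕ, ∀ i j, blk i = blk j → blk ((p ^ n) i) = blk ((p ^ n) j) := by
    intro n
    induction n with
    | zero => simp
    | succ n ih => intro i j h; rw [pow_succ', Perm.mul_apply, Perm.mul_apply]; exact hp _ _ (ih i j h)
  have hinv : ∀ i j, blk i = blk j → blk (p⁻¹ i) = blk (p⁻¹ j) := by
    rw [inv_eq_of_mul_eq_one_right (show p * p ^ (orderOf p - 1) = 1 by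
      rw [← pow_succ', Nat.sub_add_cancel (orderOf_pos p), pow_orderOf_eq_one])]
    exact hpow _
  have hπ : Function.Injective fun b : Fin 3 => blk (p (pt b 0)) := by
    intro b c h
    have := hinv _ _ h
    simpa [blk_pt] using this
  let π : Perm (Fin 3) := Equiv.ofBijective _ (Finite.injective_iff_bijective.1 hπ)
  have hf : ∀ b, Function.Injective fun k : Fin 3 => (⟨(p (pt b k)).val % 3, Nat.mod_lt _ (by norm_num)⟩ : Fin 3) := by
    intro b k l h
    have e1 := pt_blk (p (pt b k))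
    have e2 := pt_blk (p (pt b l))
    simp only at h
    rw [h, hp (pt b k) (pt b l) (by rw [blk_pt, blk_pt]), e2] at e1
    exact (pt_inj _ _ _ _ (p.injective e1.symm)).2
  let f : Fin 3 → Perm (Fin 3) := fun b => Equiv.ofBijective _ (Finite.injective_iff_bijective.1 (hf b))
  refine ⟨f 0, f 1, f 2, π, Equiv.ext fun i => ?_⟩
  rw [← pt_blk i, hel_pt]
  generalize blk i = b
  generalize (⟨i.val % 3, _⟩ : Fin 3) = k
  rw [show (![f 0, f 1, f 2]) b = f b by fin_cases b <;> rfl]
  conv_lhs => rw [← pt_blk (p (pt b k))]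
  rw [hp (pt b k) (pt b 0) (by rw [blk_pt, blk_pt])]
  rfl

theorem hel_split (x y z π : Perm (Fin 3)) :
    hel x y z π = hel 1 1 1 π * (hel x 1 1 1 * (hel 1 y 1 1 * hel 1 1 z 1)) := by
  refine Equiv.ext fun i => ?_
  rw [← pt_blk i]
  generalize blk i = b
  simp only [Perm.mul_apply, hel_pt, Perm.one_apply]
  fin_cases b <;> simp

def agen (k : Fin 3) : P9 := ![a1, a2, a3] k
def apow (k : Fin 6) : P9 := ![a1, a1 * a1, a2, a2 * a2, a3, a3 * a3] k

theorem hel_gen_normal : ∀ (s : Perm (Fin 3)) (f : Fin 4) (k : Fin 3),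
    ∃ m, ∀ i, (![hel 1 1 1 s, hel s 1 1 1, hel 1 s 1 1, hel 1 1 s 1] f) (agen k i) =
      apow m ((![hel 1 1 1 s, hel s 1 1 1, hel 1 s 1 1, hel 1 1 s 1] f) i) := by
  decide +kernel

theorem gen_mem_J0 : a1 ∈ J0 ∧ a2 ∈ J0 ∧ a3 ∈ J0 :=
  ⟨subset_closure (by simp), subset_closure (by simp), subset_closure (by simp)⟩

theorem norm_J0 (q : P9) (h : ∀ k, ∃ m, ∀ i, q (agen k i) = apow m (q i)) : q ∈ normalizer (J0 : Set P9) := by
  have hle : J0.map (MulAut.conj q).toMonoidHom ≤ J0 := by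
    rw [J0, MonoidHom.map_closure, closure_le]
    rintro _ ⟨a, ha, rfl⟩
    obtain ⟨k, rfl⟩ : ∃ k, agen k = a := by
      rcases ha with rfl | rfl | rfl
      exacts [⟨0, rfl⟩, ⟨1, rfl⟩, ⟨2, rfl⟩]
    obtain ⟨m, hu⟩ := h k
    have e : (MulAut.conj q).toMonoidHom (agen k) = apow m := by
      show q * agen k * q⁻¹ = _
      rw [mul_inv_eq_iff_eq_mul]
      exact Equiv.ext hu
    rw [SetLike.mem_coe, e]
    obtain ⟨g1, g2, g3⟩ := gen_mem_J0
    fin_cases m
    exacts [g1, mul_mem g1 g1, g2, mul_mem g2 g2, g3, mul_mem g3 g3]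
  rw [Subgroup.mem_normalizer_iff_map_conj_eq]
  exact Subgroup.eq_of_le_of_card_ge hle (by rw [card_map_of_injective (MulAut.conj q).injective])

theorem mem_HH {p : P9} : p ∈ HH ↔ Perm.sign p = 1 ∧ ∃ x y z π, p = hel x y z π := by
  rw [HH, mem_inf, Equiv.Perm.mem_alternatingGroup]
  refine and_congr_right fun _ => ⟨fun h => exists_hel p fun i j hij => ?_, ?_⟩
  · obtain ⟨m, hm⟩ := blk_orbit i j hij
    obtain ⟨u, hu⟩ := mem_J0.1 ((Subgroup.mem_normalizer_iff.1 h (a1 ^ m.val * a2 ^ m.val * a3 ^ m.val)).1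
      (mem_J0.2 ⟨(m, m, m), rfl⟩))
    rw [← hm, show p ((a1 ^ m.val * a2 ^ m.val * a3 ^ m.val) i) = jel u (p i) by
      rw [← hu]; simp, jel_blk]
  · rintro ⟨x, y, z, π, rfl⟩
    rw [hel_split]
    exact mul_mem (norm_J0 _ (hel_gen_normal π 0)) (mul_mem (norm_J0 _ (hel_gen_normal x 1))
      (mul_mem (norm_J0 _ (hel_gen_normal y 2)) (norm_J0 _ (hel_gen_normal z 3))))

end Cfsg.Agent.Spor.AltNine
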