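import Cfsg.Agent.Lib.Spor.AltNine.Bridge
import Cfsg.Agent.Lib.Spor.AltNine.Gen

/-!
The configuration, its Sylow three-subgroup and the centraliser of the central element.
-/

set_option autoImplicit false
set_option maxRecDepth 100000
set_option linter.style.haveILetI false

namespace Cfsg.Agent.Spor.AltNine

open Subgroup Cfsg
open Cfsg.Agent.Solv.Special.W648

/-- the abelian subgroup of order twenty-seven -/
def JM : Subgroup M648 where
  carrier := {m | rot m}
  one_mem' := rot_one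
  mul_mem' := fun {a b} ha hb => (rot_mul a ha b hb).1
  inv_mem' := fun {a} ha => (rot_inv a ha).1

theorem mem_JM {m : M648} : m ∈ JM ↔ rot m := Iff.rfl

theorem card_JM : Nat.card JM = 27 := by
  classical
  show Nat.card {m : M648 // rot m} = 27
  rw [Nat.card_eq_fintype_card, Fintype.card_subtype, card_rot]

/-- an element of order four centralising the first three-cycle -/
def mU : M648 := mkM (1, .sr 2, 1) (.sr 0)

theorem s2_abelian : ∀ s : M648, s ∈ S2 → pp s ≠ 1 → ∀ t : M648, t ∈ S2 → s * t = t * s →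
    ∃ i j : Fin 3, t = jC ^ i.val * s ^ j.val := by decide +kernel

theorem s2_rot : ∀ m : M648, m ∈ S2 → pp m = 1 → rot m := by decide +kernel
theorem rot_s2 : ∀ m : M648, rot m → m ∈ S2 := by decide +kernel
theorem s2_pow : ∀ m : M648, m ∈ S2 → m ^ 9 = 1 := by decide +kernel
theorem jC_s2 : jC ∈ S2 ∧ rot jC ∧ jC ≠ 1 ∧ gB ∈ S2 := by decide +kernel
theorem cent_C : ∀ m : M648, m * jC = jC * m → m ∈ S2 := by decide +kernel
theorem s2_cent : ∀ m : M648, m ∈ S2 → m * jC = jC * m := by decide +kernel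
theorem pow_36 : ∀ m : M648, m ^ 36 = 1 := by decide +kernel
theorem norm_S2 : ∀ m : M648, m ^ 9 = 1 → m * gB * m ^ 8 ∈ S2 → m ∈ S2 := by decide +kernel

theorem three_pow {G : Type*} [Group G] {g : G} {k : ℕ} (h1 : g ^ 3 ^ k = 1) (h2 : g ^ 36 = 1) : g ^ 9 = 1 := by
  refine orderOf_dvd_iff_pow_eq_one.1 ?_
  have h3 := orderOf_dvd_of_pow_eq_one h1
  obtain ⟨i, -, hi⟩ := (Nat.dvd_prime_pow Nat.prime_three).1 h3
  rw [hi]
  have h4 := hi ▸ orderOf_dvd_of_pow_eq_one h2
  by_contra hc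
  have : 3 ≤ i := by
    by_contra h
    exact hc (pow_dvd_pow 3 (show i ≤ 2 by omega))
  exact absurd ((pow_dvd_pow 3 this).trans h4) (by norm_num)

/-- the configuration -/
structure Data (G : Type*) [Group G] where
  φ : M648 →* G
  inj : Function.Injective φ
  hN : ∀ g : G, (∀ j, rot j → ∃ j', rot j' ∧ g * φ j * g⁻¹ = φ j') → g ∈ φ.range
  hcore : ∀ m : M648, m ^ 3 = 1 → m ≠ 1 → pPrimeCore 3 (centralizer ({φ m} : Set G)) = ⊥

namespace Data

variable {G : Type*} [Group G] [Finite G] (d : Data G)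

/-- the image of the abelian subgroup -/
def J : Subgroup G := JM.map d.φ

/-- the image of the Sylow subgroup -/
def S : Subgroup G := S2.map d.φ

theorem mem_J {g : G} : g ∈ d.J ↔ ∃ m, rot m ∧ d.φ m = g := Iff.rfl

theorem mem_S {g : G} : g ∈ d.S ↔ ∃ m, m ∈ S2 ∧ d.φ m = g := Iff.rfl

theorem card_J : Nat.card d.J = 27 := by
  rw [J, card_map_of_injective d.inj, card_JM]

theorem J_le_S : d.J ≤ d.S := map_mono fun m hm => rot_s2 m hm

theorem S_pGroup : IsPGroup 3 d.S := by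
  rintro ⟨_, m, hm, rfl⟩
  exact ⟨2, Subtype.ext (show d.φ m ^ 9 = 1 by rw [← map_pow, s2_pow m hm, map_one])⟩

theorem J_pGroup : IsPGroup 3 d.J := d.S_pGroup.to_le d.J_le_S

theorem comm_iff {m n : M648} : Commute (d.φ m) (d.φ n) ↔ m * n = n * m :=
  ⟨fun h => d.inj (by rw [map_mul, map_mul]; exact h.eq), fun h => Commute.map h d.φ⟩

theorem abelian_in_S {A : Subgroup G} (hA : A ≤ d.S) (hc : ∀ x ∈ A, ∀ y ∈ A, x * y = y * x)
    (h9 : 9 < Nat.card A) : A ≤ d.J := by
  intro x hx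
  obtain ⟨s, hs, rfl⟩ := d.mem_S.1 (hA hx)
  by_contra hn
  have hp : pp s ≠ 1 := fun h => hn ⟨s, s2_rot s hs h, rfl⟩
  have hsub : ∀ y : A, ∃ e : Fin 3 × Fin 3, (y : G) = d.φ (jC ^ e.1.val * s ^ e.2.val) := by
    rintro ⟨y, hy⟩
    obtain ⟨t, ht, rfl⟩ := d.mem_S.1 (hA hy)
    obtain ⟨i, j, e⟩ := s2_abelian s hs hp t ht (d.comm_iff.1 (hc _ hx _ hy))
    exact ⟨(i, j), congrArg d.φ e⟩
  choose f hf using hsub
  have := Nat.card_le_card_of_injective f fun a b e => Subtype.ext (by rw [hf a, hf b, e])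
  simp at this
  omega

theorem eq_J {A : Subgroup G} (hA : A ≤ d.S) (hc : ∀ x ∈ A, ∀ y ∈ A, x * y = y * x)
    (h27 : 27 ≤ Nat.card A) : A = d.J :=
  Subgroup.eq_of_le_of_card_ge (d.abelian_in_S hA hc (by omega)) (by rw [d.card_J]; exact h27)

theorem norm_J {g : G} (h : ∀ x ∈ d.J, g * x * g⁻¹ ∈ d.J) : g ∈ d.φ.range := by
  refine d.hN g fun j hj => ?_
  obtain ⟨m, hm, e⟩ := h _ ⟨j, hj, rfl⟩
  exact ⟨m, hm, e.symm⟩

theorem range_norm_J {g : G} (hg : g ∈ d.φ.range) {x : G} (hx : x ∈ d.J) : g * x * g⁻¹ ∈ d.J := by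
  obtain ⟨m, rfl⟩ := hg
  obtain ⟨j, hj, rfl⟩ := d.mem_J.1 hx
  exact ⟨m * j * m⁻¹, rot_conj j hj m, by simp⟩

theorem J_comm {x y : G} (hx : x ∈ d.J) (hy : y ∈ d.J) : x * y = y * x := by
  obtain ⟨a, ha, rfl⟩ := d.mem_J.1 hx
  obtain ⟨b, hb, rfl⟩ := d.mem_J.1 hy
  rw [← map_mul, ← map_mul, (rot_mul a ha b hb).2]

/-- the normaliser of the Sylow subgroup is inside -/
theorem norm_S {g : G} (h : ∀ x ∈ d.S, g * x * g⁻¹ ∈ d.S) : g ∈ d.φ.range := by
  refine d.norm_J fun x hx => ?_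
  have e := d.eq_J (A := d.J.map (MulAut.conj g).toMonoidHom)
    (by rintro _ ⟨y, hy, rfl⟩; exact h y (d.J_le_S hy))
    (by
      rintro _ ⟨a, ha, rfl⟩ _ ⟨b, hb, rfl⟩
      rw [← map_mul, ← map_mul, d.J_comm ha hb])
    (by rw [card_map_of_injective (MulAut.conj g).injective, d.card_J])
  rw [← e]
  exact ⟨x, hx, rfl⟩

theorem exists_sylow : ∃ P : Sylow 3 G, (P : Subgroup G) = d.S := by
  haveI : Fact (Nat.Prime 3) := ⟨Nat.prime_three⟩
  refine exists_sylow_eq d.S d.S_pGroup fun x hx ⟨k, hk⟩ => ?_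
  have hn : ∀ y ∈ d.S, x * y * x⁻¹ ∈ d.S := fun y hy => (Subgroup.mem_normalizer_iff.1 hx y).1 hy
  obtain ⟨m, rfl⟩ := d.norm_S hn
  have h9 : m ^ 9 = 1 := three_pow (k := k) (d.inj (by rw [map_pow, hk, map_one])) (pow_36 m)
  obtain ⟨t, ht, e⟩ := hn _ ⟨gB, jC_s2.2.2.2, rfl⟩
  refine ⟨m, norm_S2 m h9 ?_, rfl⟩
  have e' : t = m * gB * m ^ 8 := d.inj (by
    rw [e, map_mul, map_mul, map_pow]
    congr 1
    rw [← map_inv, ← map_pow]
    exact congrArg d.φ (inv_eq_of_mul_eq_one_right (by rw [← pow_succ', h9])))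
  exact e' ▸ ht

/-- the centraliser of the central element -/
theorem centC : centralizer ({d.φ jC} : Set G) = d.S := by
  haveI : Fact (Nat.Prime 3) := ⟨Nat.prime_three⟩
  set X := centralizer ({d.φ jC} : Set G) with hX
  have hSX : d.S ≤ X := by
    rintro _ ⟨m, hm, rfl⟩
    exact mem_centralizer_singleton_iff.2 ((d.comm_iff.2 (s2_cent m hm)).eq)
  obtain ⟨Q, hQ⟩ := d.exists_sylow
  have hQX : (Q : Subgroup G) ≤ X := hQ ▸ hSX
  set P : Sylow 3 X := Q.subtype hQX with hP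
  have hPc : (P : Subgroup X) = d.S.subgroupOf X := by
    rw [hP, Sylow.coe_subtype, hQ]
  have hTX : ∀ {A : Subgroup (P : Subgroup X)}, A.map (X.subtype.comp (P : Subgroup X).subtype) ≤ d.S := by
    rintro A _ ⟨a, -, rfl⟩
    have h := a.2
    simp only [hPc, mem_subgroupOf] at h
    exact h
  have hinj : Function.Injective (X.subtype.comp (P : Subgroup X).subtype) :=
    X.subtype_injective.comp (P : Subgroup X).subtype_injective
  set JP : Subgroup (P : Subgroup X) := d.J.comap (X.subtype.comp (P : Subgroup X).subtype) with hJP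
  have hJPmap : JP.map (X.subtype.comp (P : Subgroup X).subtype) = d.J := by
    refine map_comap_eq_self ?_
    intro x hx
    exact ⟨⟨⟨x, hSX (d.J_le_S hx)⟩, by rw [hPc]; exact d.J_le_S hx⟩, rfl⟩
  have hJPcard : Nat.card JP = 27 := by
    rw [← card_map_of_injective (K := JP) hinj, hJPmap, d.card_J]
  have hJPel : IsElementaryAbelian 3 JP := by
    refine ⟨⟨⟨fun a b => Subtype.ext (hinj ?_)⟩⟩, fun a ha => hinj ?_⟩
    · simp only [Subgroup.coe_mul, map_mul]
      exact d.J_comm a.2 b.2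
    · obtain ⟨m, hm, e⟩ := d.mem_J.1 ha
      rw [map_pow, ← e, ← map_pow, pow_succ, pow_two, (rot_inv m hm).2, map_one, map_one]
  have huniq : ∀ A : Subgroup (P : Subgroup X), IsElementaryAbelian 3 A → 27 ≤ Nat.card A → A = JP := by
    intro A hA h27
    refine map_injective hinj ?_
    rw [hJPmap]
    refine d.eq_J hTX ?_ (by rwa [card_map_of_injective hinj])
    rintro _ ⟨a, ha, rfl⟩ _ ⟨b, hb, rfl⟩
    rw [← map_mul, ← map_mul]
    exact congrArg _ (congrArg Subtype.val (hA.1.is_comm.comm (⟨a, ha⟩ : A) ⟨b, hb⟩))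
  have hmax : maxElementaryAbelianSubgroups 3 (P : Subgroup X) = {JP} := by
    ext A
    constructor
    · rintro ⟨hA, hmax⟩
      exact huniq A hA (hJPcard ▸ hmax JP hJPel)
    · rintro rfl
      refine ⟨hJPel, fun B hB => ?_⟩
      by_contra hlt
      rw [hJPcard] at hlt
      rw [huniq B hB (by omega), hJPcard] at hlt
      exact hlt le_rfl
  have hth : thompsonSubgroupOf 3 (P : Subgroup X) = d.J.subgroupOf X := by
    rw [thompsonSubgroupOf, thompsonSubgroup, hmax, sSup_singleton]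
    refine map_injective X.subtype_injective ?_
    rw [map_map, hJPmap, subgroupOf_map_subtype, inf_eq_left.2 (d.J_le_S.trans hSX)]
  have hzj : centerThompsonOf 3 (P : Subgroup X) = d.J.subgroupOf X := by
    rw [centerThompsonOf, hth, inf_eq_left]
    intro x hx
    rw [mem_centralizer_iff]
    exact fun y hy => Subtype.ext (d.J_comm hy hx)
  have hNP : normalizer ((d.J.subgroupOf X : Subgroup X) : Set X) ≤ (P : Subgroup X) := by
    intro g hg
    have hgn : ∀ x ∈ d.J, (g : G) * x * (g : G)⁻¹ ∈ d.J := fun x hx =>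
      ((Subgroup.mem_normalizer_iff.1 hg) ⟨x, hSX (d.J_le_S hx)⟩).1 hx
    obtain ⟨m, hm⟩ := d.norm_J hgn
    rw [hPc, mem_subgroupOf, ← hm]
    refine ⟨m, cent_C m ?_, rfl⟩
    refine d.comm_iff.1 ?_
    rw [hm]
    exact mem_centralizer_singleton_iff.1 g.2
  have hnpc : HasNormalPComplement 3 X := by
    rw [S0117.result (by norm_num) P, hzj]
    have hp : IsPGroup 3 (normalizer ((d.J.subgroupOf X : Subgroup X) : Set X)) := P.2.to_le hNP
    obtain ⟨T, hT⟩ := (show IsPGroup 3 (⊤ : Subgroup (normalizer ((d.J.subgroupOf X : Subgroup X) : Set X))) from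
      hp.of_equiv Subgroup.topEquiv.symm).exists_le_sylow
    exact ⟨T, ⊥, inferInstance, by rw [top_le_iff.1 hT]; exact isComplement'_bot_top⟩
  obtain ⟨T, N, hNn, hcompl⟩ := hnpc
  have hNcop : (Nat.card N).Coprime 3 := by
    rw [← hcompl.index_eq_card, Nat.coprime_comm, Nat.prime_three.coprime_iff_not_dvd]
    exact T.not_dvd_index
  have hNbot : N = ⊥ := le_bot_iff.1 (by
    rw [← d.hcore jC (by decide +kernel) jC_s2.2.2.1]
    exact Fusion.le_pPrimeCore (hn := hNn) hNcop)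
  refine le_antisymm (fun g hg => ?_) hSX
  rw [hNbot, isComplement'_bot_left] at hcompl
  have hPt : (P : Subgroup X) = ⊤ := by
    refine Subgroup.eq_top_of_card_eq _ ?_
    rw [P.card_eq_multiplicity, ← T.card_eq_multiplicity, hcompl, Subgroup.card_top]
  have hgP : (⟨g, hg⟩ : X) ∈ (P : Subgroup X) := hPt ▸ Subgroup.mem_top _
  rw [hPc] at hgP
  exact hgP

end Data

end Cfsg.Agent.Spor.AltNine
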