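import Cfsg.Agent.Lib.Spor.AltNine.UFacts
import Cfsg.Agent.Lib.Spor.AltNine.Four

/-!
The centraliser of a four-group in the centraliser of the first three-cycle: it is the product of the four-group with
a part centralising the third three-cycle, for which there are three possibilities.
-/

set_option autoImplicit false
set_option maxRecDepth 100000
set_option linter.style.haveILetI false

namespace Cfsg.Agent.Spor.AltNine

open Equiv Subgroup Cfsg
open Cfsg.Agent.Solv.Special.W648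

theorem eq_one_pow {G : Type*} [Group G] {x : G} {m n : ℕ} (h1 : x ^ m = 1) (h2 : x ^ n = 1)
    (h : Nat.gcd m n = 1) : x = 1 := by
  have := pow_gcd_eq_one.mpr ⟨h1, h2⟩
  rwa [h, pow_one] at this

theorem sq_of_coprime {G : Type*} [Group G] {x : G} (hco : (orderOf x).Coprime 3) (h : x ^ 18 = 1) : x * x = 1 := by
  have h18 : orderOf x ∣ 2 * 3 ^ 2 := orderOf_dvd_of_pow_eq_one h
  rw [← pow_two]
  exact orderOf_dvd_iff_pow_eq_one.1 ((hco.pow_right 2).dvd_of_dvd_mul_right h18)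

namespace Big

variable {G : Type*} [Group G] {d : Data G} (B : Big d)

/-- the centraliser of the four-group -/
abbrev CU : Subgroup G := centralizer ({B.Φ u1A, B.Φ u2A} : Set G)

include B

theorem phi_E3 : d.φ mE3 = B.Φ xE3 := by
  rw [acts_e3.2, map_mul, xE3, map_mul, B.gen2, B.gen3]

theorem phi_B23 : d.φ jB23 = B.Φ (stdGen 6 (0 : Fin 4) * xE3) := by
  rw [jB23, map_mul, map_mul, B.gen0, B.phi_E3]

theorem six_mem_closure {p q y : A6} (h : y ∈ [p, q, p * q]) : B.Φ y ∈ closure ({B.Φ p, B.Φ q} : Set G) := by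
  have hp : B.Φ p ∈ closure ({B.Φ p, B.Φ q} : Set G) := subset_closure (Set.mem_insert _ _)
  have hq : B.Φ q ∈ closure ({B.Φ p, B.Φ q} : Set G) := subset_closure (Set.mem_insert_of_mem _ rfl)
  simp only [List.mem_cons, List.not_mem_nil, or_false] at h
  rcases h with rfl | rfl | rfl
  exacts [hp, hq, by rw [map_mul]; exact mul_mem hp hq]

theorem fix_cent {p q : A6} (hall : ∀ y : A6, y * p = p * y → y * q = q * y → y ∈ [1, p, q, p * q]) {x : G}
    (hx : x ∈ centralizer ({B.Φ p, B.Φ q} : Set G)) (ha : Commute x (d.φ jA)) :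
    ∃ e ∈ closure ({B.Φ p, B.Φ q} : Set G), ∃ i : ℕ, x = e * d.φ jA ^ i := by
  obtain ⟨i, y, rfl⟩ := B.cent x ha
  obtain ⟨h1, h2⟩ := mem_cent_pair.1 hx
  have hc : ∀ r : A6, d.φ jA ^ i * B.Φ y * B.Φ r = B.Φ r * (d.φ jA ^ i * B.Φ y) → y * r = r * y := fun r hr => B.inj (by
    rw [map_mul, map_mul]
    refine mul_left_cancel (a := d.φ jA ^ i) ?_
    rw [← mul_assoc, hr, ← mul_assoc, ((B.comm r).pow_right i).eq, mul_assoc])
  refine ⟨B.Φ y, ?_, i, ((B.comm y).pow_right i).eq.symm⟩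
  have := hall y (hc p h1) (hc q h2)
  rcases List.mem_cons.1 this with rfl | h
  · rw [map_one]; exact one_mem _
  · exact B.six_mem_closure h

variable [Finite G]

set_option maxHeartbeats 1600000 in
theorem four_hyp_U : FourHyp (B.Φ u1A) (B.Φ u2A) (d.φ jA) (d.φ mE3) where
  uu := by rw [← map_mul, u_facts.1, map_one]
  vv := by rw [← map_mul, u_facts.2.1, map_one]
  uv := by rw [← map_mul, ← map_mul, u_facts.2.2.1]
  a3 := by rw [← map_pow, mH_conj.2.2.2.2.2.2.1, map_one]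
  a1 := fun h => mH_conj.2.2.2.2.2.2.2 (d.inj (by rw [h, map_one]))
  au := (B.comm _).eq.symm
  av := (B.comm _).eq.symm
  f3 := by rw [← map_pow, mH_conj.2.2.1, map_one]
  f1 := fun h => mH_conj.2.2.2.1 (d.inj (by rw [h, map_one]))
  fa := by rw [← map_mul, ← map_mul, mH_conj.2.2.2.2.1]
  fne := fun i h => by
    rw [B.phi_E3] at h
    have := (B.center_triv h.symm).1
    exact six_coe.2.2.2.2.2.2.2.2.1 0 (by rw [this]; rfl)
  fu := by
    rw [B.phi_E3, ← map_inv, ← map_mul, ← map_mul]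
    exact B.six_mem_closure u_facts.2.2.2.2.2.1
  fv := by
    rw [B.phi_E3, ← map_inv, ← map_mul, ← map_mul]
    exact B.six_mem_closure u_facts.2.2.2.2.2.2
  centA := fun x hx ha => B.fix_cent u_facts.2.2.2.1 hx ha
  mix := fun x hx hc hco => by
    obtain ⟨r1, r2, r3, r4, r5, r6, -⟩ := mix_facts
    rw [← map_mul, ← map_mul, ← map_mul] at hc
    obtain ⟨m, rfl⟩ : x ∈ d.φ.range := hc.elim (fun h => d.cent_range r1 r2 (by omega) h)
      fun h => d.cent_range r4 r5 (by omega) h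
    obtain ⟨h18, h2⟩ := cent_XY m (hc.imp d.comm_iff.1 d.comm_iff.1)
    have hmm : m * m = 1 := d.inj (by
      rw [map_mul, sq_of_coprime hco (by rw [← map_pow, h18, map_one]), map_one])
    rcases h2 hmm with rfl | he | he
    · exact map_one _
    all_goals
      exfalso
      have key : Commute (d.φ (m * jA * m⁻¹)) (B.Φ u1A) := by
        rw [map_mul, map_mul, map_inv]
        have hm1 : Commute (d.φ m) (B.Φ u1A) := (mem_cent_pair.1 hx).1
        exact (hm1.mul_left (B.comm u1A).symm).mul_left hm1.inv_left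
      rw [he] at key
      try rw [map_mul] at key
      rw [B.phi_E3] at key
      try rw [← map_mul] at key
      first
        | exact (u_facts.2.2.2.2.1 u1A (by simp)).1 (B.inj (by rw [map_mul B.Φ u1A, map_mul B.Φ _ u1A]; exact key.eq.symm))
        | exact (u_facts.2.2.2.2.1 u1A (by simp)).2 (B.inj (by rw [map_mul B.Φ u1A, map_mul B.Φ _ u1A]; exact key.eq.symm))
  seven := fun x hx h7 => B.seven_E3 hx h7

/-- the trace of the centraliser on six points -/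
noncomputable def KU : Subgroup A6 := B.CU.comap B.ψ

omit [Finite G] in
theorem mem_KU {y : A6} : y ∈ B.KU ↔ B.ψ y ∈ B.CU := Iff.rfl

theorem e3_not_mem (i : ℕ) (hi : ¬ 3 ∣ i) : d.φ mE3 ^ i ∉ B.CU := by
  intro h
  have h1 := (mem_cent_pair.1 h).1
  have e : d.φ mE3 ^ i = d.φ mE3 ^ (i % 3) := pow_eq_pow_mod i B.four_hyp_U.f3
  rw [e, B.phi_E3, ← map_pow, ← map_mul, ← map_mul] at h1
  have h2 := B.inj h1
  obtain ⟨n1, n2⟩ := u_facts.2.2.2.2.1 u1A (by simp)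
  have hi' : i % 3 = 1 ∨ i % 3 = 2 := by omega
  rcases hi' with hi' | hi' <;> rw [hi'] at h2
  · exact n1 (by simpa using h2.symm)
  · exact n2 (by rw [← pow_two]; exact h2.symm)

theorem tau_mem : d.φ mTau ∈ B.CU := by
  refine mem_cent_pair.2 ⟨?_, ?_⟩
  exacts [(B.tau_comm d8_facts.1).eq, (B.tau_comm d8_facts.2.1).eq]

theorem gen0_mem : stdGen 6 (0 : Fin 4) ∈ B.KU := by
  rw [mem_KU, B.ψ_gen0]; exact B.four_hyp_U.a_mem

theorem gen2_mem : stdGen 6 (2 : Fin 4) ∈ B.KU := by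
  rw [mem_KU, B.ψ_gen2]; exact B.tau_mem

theorem pair_le_CU : closure ({B.Φ u1A, B.Φ u2A} : Set G) ≤ B.CU := B.four_hyp_U.pair_le

theorem pair_e3 {e : G} (he : e ∈ closure ({B.Φ u1A, B.Φ u2A} : Set G)) (hc : Commute e (d.φ mE3)) : e = 1 := by
  obtain ⟨w, rfl, hw⟩ : ∃ w, B.Φ w = e ∧ (w = 1 ∨ w ∈ [u1A, u2A, u1A * u2A]) := by
    rcases B.four_hyp_U.pair he with rfl | rfl | rfl | rfl
    exacts [⟨1, map_one _, Or.inl rfl⟩, ⟨u1A, rfl, Or.inr (by simp)⟩, ⟨u2A, rfl, Or.inr (by simp)⟩,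
      ⟨u1A * u2A, map_mul _ _ _, Or.inr (by simp)⟩]
  rw [B.phi_E3] at hc
  rcases hw with rfl | hw
  · exact map_one _
  · exact absurd (B.inj (by rw [map_mul, map_mul]; exact hc.eq)) (u_facts.2.2.2.2.1 w hw).1

theorem cent_a_K {y : A6} (hy : y ∈ B.KU) (hc : y * stdGen 6 (0 : Fin 4) = stdGen 6 (0 : Fin 4) * y) :
    ∃ i : ℕ, y = stdGen 6 (0 : Fin 4) ^ i := by
  obtain ⟨e, he, i, hi⟩ := B.four_hyp_U.centA (B.ψ y) hy (by
    rw [← B.ψ_gen0]; exact (show Commute y _ from hc).map B.ψ)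
  refine ⟨i, B.ψ_inj ?_⟩
  rw [hi, map_pow, B.ψ_gen0, B.pair_e3 he ?_, one_mul]
  have hce : Commute (d.φ jA ^ i) (d.φ mE3) := (show Commute (d.φ jA) (d.φ mE3) from B.four_hyp_U.fa).pow_left i
  rw [show e = B.ψ y * (d.φ jA ^ i)⁻¹ by rw [hi, mul_inv_cancel_right]]
  exact (B.ψ_comm y).mul_left hce.inv_left

/-- every element of the centraliser is a product -/
theorem CU_form {g : G} (hg : g ∈ B.CU) :
    ∃ e ∈ closure ({B.Φ u1A, B.Φ u2A} : Set G), ∃ y ∈ B.KU, g = e * B.ψ y := by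
  have H := B.four_hyp_U
  obtain ⟨N, hN, hco, h9, hNform, hq⟩ := H.structure_cases
  haveI : N.Normal := hN
  let LU : Subgroup G := B.CU ⊓ centralizer ({d.φ mE3} : Set G)
  have hcm : ∀ (e : closure ({B.Φ u1A, B.Φ u2A} : Set G)) (l : LU), Commute (e : G) (l : G) :=
    fun e l => H.pair_comm e.2 l.2.1
  let T := (MonoidHom.noncommCoprod (closure ({B.Φ u1A, B.Φ u2A} : Set G)).subtype LU.subtype hcm).range
  have hL : ∀ l : G, l ∈ B.CU → Commute l (d.φ mE3) → l ∈ T := fun l hl hc =>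
    ⟨(1, ⟨l, hl, mem_centralizer_singleton_iff.2 hc⟩), one_mul _⟩
  have hNT : ∀ n ∈ N, (n : G) ∈ T := by
    intro n hn
    obtain ⟨e, he, l, -, hlc, hnl⟩ := hNform n hn
    rw [hnl]
    exact mul_mem ⟨(⟨e, he⟩, 1), mul_one _⟩ (hL l l.2 hlc)
  let f := QuotientGroup.mk' N
  set S := (T.subgroupOf B.CU).map f
  have hfpow : ∀ (x : B.CU) (p : ℕ), p.Prime → x ^ p = 1 → x ∉ N → (x : G) ∈ T → p ∣ Nat.card S := by
    intro x p hp hxp hxN hxT
    haveI := Fact.mk hp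
    have hx : (x : B.CU ⧸ N) ≠ 1 := fun h => hxN ((QuotientGroup.eq_one_iff x).1 h)
    have hpow : (x : B.CU ⧸ N) ^ p = 1 := by rw [← QuotientGroup.mk_pow, hxp, QuotientGroup.mk_one]
    have := orderOf_dvd_natCard (G := S) ⟨(x : B.CU ⧸ N), ⟨x, Subgroup.mem_subgroupOf.2 hxT, rfl⟩⟩
    rw [← Subgroup.orderOf_coe] at this
    exact (orderOf_eq_prime hpow hx) ▸ this
  let xa : B.CU := ⟨d.φ jA, H.a_mem⟩
  let xt : B.CU := ⟨d.φ mTau, B.tau_mem⟩
  have haN : xa ∉ N := fun h =>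
    H.a1 (congrArg Subtype.val (Top.eq_one_of_coprime h (n := 3) (Subtype.ext H.a3) hco))
  have haT : d.φ jA ∈ T := hL _ H.a_mem H.fa
  have htT : d.φ mTau ∈ T := hL _ B.tau_mem (by
    show Commute _ _
    exact (show Commute mTau mE3 from inv_facts.2.2.2.2.2.2.2.2.2.1).map d.φ)
  have htN : xt ∉ N := fun h => haN (by
    have h1 : xt * xa * xt⁻¹ * xa⁻¹ ∈ N := by
      have := N.mul_mem h (hN.conj_mem _ (N.inv_mem h) xa)
      rwa [show xt * (xa * xt⁻¹ * xa⁻¹) = xt * xa * xt⁻¹ * xa⁻¹ by group] at this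
    have e : xt * xa * xt⁻¹ * xa⁻¹ = xa := Subtype.ext (by
      show d.φ mTau * d.φ jA * (d.φ mTau)⁻¹ * (d.φ jA)⁻¹ = d.φ jA
      rw [← map_inv, ← map_inv, ← map_mul, ← map_mul, ← map_mul, mTau_rels.2.2.2.2, mul_inv_cancel_right])
    rwa [e] at h1)
  have htop : S = ⊤ := by
    have h3 : 3 ∣ Nat.card S := hfpow xa 3 Nat.prime_three (Subtype.ext H.a3) haN haT
    rcases hq with hq | ⟨hN2, ⟨eq⟩, q, hqf, hq5, hq1⟩
    · have h6 : 6 ∣ Nat.card S := Nat.Coprime.mul_dvd_of_dvd_of_dvd (by norm_num : Nat.Coprime 2 3)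
        (hfpow xt 2 Nat.prime_two (Subtype.ext (by
          show d.φ mTau ^ 2 = 1; rw [pow_two]; exact B.tau_sq)) htN htT) h3
      refine eq_top_of_card_eq _ (Nat.dvd_antisymm (card_subgroup_dvd_card _) ?_)
      rcases Top.small_card hq with h | h <;> rw [h]
      · exact h3
      · exact h6
    · have h5 : 5 ∣ Nat.card S := hfpow q 5 (by norm_num) hq5
        (fun h => hq1 (Top.eq_one_of_coprime h hq5 (Top.coprime_of_two hN2 (by norm_num))))
        (hL q q.2 hqf)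
      have h15 : 15 ∣ Nat.card S := Nat.Coprime.mul_dvd_of_dvd_of_dvd (by norm_num : Nat.Coprime 3 5) h3 h5
      have h60 : Nat.card (B.CU ⧸ N) = 60 := by
        show Nat.card (centralizer ({B.Φ u1A, B.Φ u2A} : Set G) ⧸ N) = 60
        rw [Nat.card_congr eq.toEquiv, nat_card_alternatingGroup, Nat.card_fin]; rfl
      have hidx : (S.map eq.toMonoidHom).index ≤ 4 := by
        obtain ⟨m, hm⟩ := h15
        have := S.card_mul_index
        rw [hm, h60] at this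
        rw [Subgroup.index_map_of_bijective (f := eq.toMonoidHom) eq.bijective]
        have hpos : 0 < Nat.card S := Nat.card_pos
        have : 1 ≤ m := by omega
        nlinarith
      have h := Top.alt_five_index _ hidx
      refine map_injective (f := eq.toMonoidHom) eq.injective ?_
      rw [h, map_top_of_surjective eq.toMonoidHom eq.surjective]
  have hgT : g ∈ T := by
    obtain ⟨k, hk, hkg⟩ : f ⟨g, hg⟩ ∈ S := htop ▸ mem_top _
    have h2 := T.mul_mem (Subgroup.mem_subgroupOf.1 hk) (hNT (k⁻¹ * ⟨g, hg⟩)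
      ((QuotientGroup.eq_one_iff _).1 (by
        rw [QuotientGroup.mk_mul, QuotientGroup.mk_inv, inv_mul_eq_one]; exact hkg)))
    simpa using h2
  obtain ⟨⟨⟨e, he⟩, ⟨l, hl, hlc⟩⟩, rfl⟩ := hgT
  obtain ⟨i, y, rfl⟩ := B.cent_e3 (mem_centralizer_singleton_iff.1 hlc)
  refine ⟨e, he, y, ?_⟩
  suffices h3 : d.φ mE3 ^ i = 1 by
    refine ⟨?_, by show e * (d.φ mE3 ^ i * B.ψ y) = _; rw [h3, one_mul]⟩
    simpa [mem_KU, h3] using hl
  by_contra hne
  have hi : ¬ 3 ∣ i := by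
    rintro ⟨j, rfl⟩
    exact hne (by rw [pow_mul, H.f3, one_pow])
  have hcy : Commute (d.φ mE3 ^ i) (B.ψ y) := (B.ψ_comm y).symm.pow_left i
  have hpow : ∀ n, y ^ n = 1 → d.φ mE3 ^ (i * n) ∈ B.CU := fun n hn => by
    have := pow_mem hl n
    rwa [hcy.mul_pow, ← pow_mul, ← map_pow B.ψ, hn, map_one, mul_one] at this
  rcases six_orders y with hy | hy | hy
  · haveI : Fact (Nat.Prime 3) := ⟨Nat.prime_three⟩
    have hl3 : (⟨_, hl⟩ : B.CU) ^ 3 = 1 := Subtype.ext (by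
      show (d.φ mE3 ^ i * B.ψ y) ^ 3 = 1
      rw [hcy.mul_pow, ← map_pow B.ψ, hy, map_one, mul_one, ← pow_mul, mul_comm, pow_mul, H.f3, one_pow])
    obtain ⟨P, hP⟩ := (IsPGroup.of_card (p := 3) (n := 1)
      (show Nat.card (zpowers xa) = 3 ^ 1 by
        rw [Nat.card_zpowers, orderOf_eq_prime (show xa ^ 3 = 1 from Subtype.ext H.a3)
          fun e => H.a1 (congrArg Subtype.val e), pow_one])).exists_le_sylow
    have hP3 : Nat.card (P : Subgroup B.CU) = 3 := by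
      obtain ⟨k, hk⟩ := IsPGroup.iff_card.1 P.isPGroup'
      have h1 : k ≤ 1 := by
        by_contra hk2
        exact h9 ((show (9 : ℕ) ∣ 3 ^ k by
          rw [show (9 : ℕ) = 3 ^ 2 from rfl]; exact pow_dvd_pow 3 (by omega)).trans (hk ▸ card_subgroup_dvd_card _))
      have h2 : 3 ∣ 3 ^ k := by
        have h3 := card_dvd_of_le hP
        rwa [Nat.card_zpowers, orderOf_eq_prime (show xa ^ 3 = 1 from Subtype.ext H.a3)
          fun e => H.a1 (congrArg Subtype.val e), hk] at h3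
      interval_cases k
      · norm_num at h2
      · rw [hk, pow_one]
    have hPeq : zpowers xa = P := eq_of_le_of_card_ge hP (by
      rw [hP3, Nat.card_zpowers, orderOf_eq_prime (show xa ^ 3 = 1 from Subtype.ext H.a3)
        fun e => H.a1 (congrArg Subtype.val e)])
    obtain ⟨Q, hQ⟩ := (show IsPGroup 3 (zpowers (⟨_, hl⟩ : B.CU)) from
      fun z => ⟨1, Subtype.ext (by
        obtain ⟨z, j, rfl⟩ := z
        show ((⟨_, hl⟩ : B.CU) ^ j) ^ 3 ^ 1 = 1
        rw [pow_one, ← zpow_natCast, ← zpow_mul, mul_comm, zpow_mul, zpow_natCast, hl3, one_zpow])⟩).exists_le_sylow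
    obtain ⟨w, hw⟩ := MulAction.exists_smul_eq B.CU P Q
    have hlQ := hQ (mem_zpowers _)
    rw [← hw, Sylow.coe_subgroup_smul, ← hPeq, Subgroup.mem_pointwise_smul_iff_inv_smul_mem, MulAut.smul_def,
      MulAut.conj_inv_apply] at hlQ
    obtain ⟨j, hj⟩ := hlQ
    have hj' : d.φ jA ^ j = (w : G)⁻¹ * (d.φ mE3 ^ i * B.ψ y) * w := congrArg Subtype.val hj
    have hw2 : ∃ e' ∈ closure ({B.Φ u1A, B.Φ u2A} : Set G), ∃ (i' : ℕ) (y' : A6),
        (w : G) = e' * (d.φ mE3 ^ i' * B.ψ y') := by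
      obtain ⟨k, hk, hkg⟩ : f w ∈ S := htop ▸ mem_top _
      have h2 := T.mul_mem (Subgroup.mem_subgroupOf.1 hk) (hNT (k⁻¹ * w)
        ((QuotientGroup.eq_one_iff _).1 (by
          rw [QuotientGroup.mk_mul, QuotientGroup.mk_inv, inv_mul_eq_one]; exact hkg)))
      simp only [Subgroup.coe_mul, InvMemClass.coe_inv, mul_inv_cancel_left] at h2
      obtain ⟨⟨⟨e', he'⟩, ⟨l', hl', hlc'⟩⟩, hl''⟩ := h2
      obtain ⟨i', y', rfl⟩ := B.cent_e3 (mem_centralizer_singleton_iff.1 hlc')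
      exact ⟨e', he', i', y', hl''.symm⟩
    obtain ⟨e', he', i', y', hwe⟩ := hw2
    rw [hwe] at hj'
    have h5 : d.φ mE3 ^ i * B.ψ y = B.ψ (y' * stdGen 6 (0 : Fin 4) ^ j * y'⁻¹) := by
      have hee : e' * (d.φ mE3 ^ i * B.ψ y) = d.φ mE3 ^ i * B.ψ y * e' := H.pair_comm he' hl
      have h6 : d.φ mE3 ^ i * B.ψ y =
          d.φ mE3 ^ i' * B.ψ y' * d.φ jA ^ j * (d.φ mE3 ^ i' * B.ψ y')⁻¹ := by
        rw [hj']
        calc d.φ mE3 ^ i * B.ψ y = e'⁻¹ * (e' * (d.φ mE3 ^ i * B.ψ y)) := by group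
          _ = _ := by rw [hee]; group
      have hc2 : Commute (d.φ mE3 ^ i') (B.ψ (y' * stdGen 6 (0 : Fin 4) ^ j * y'⁻¹)) :=
        (B.ψ_comm _).symm.pow_left i'
      rw [h6, ← B.ψ_gen0, ← map_zpow]
      calc d.φ mE3 ^ i' * B.ψ y' * B.ψ (stdGen 6 (0 : Fin 4) ^ j) * (d.φ mE3 ^ i' * B.ψ y')⁻¹
          = d.φ mE3 ^ i' * B.ψ (y' * stdGen 6 (0 : Fin 4) ^ j * y'⁻¹) * (d.φ mE3 ^ i')⁻¹ := by
            rw [map_mul, map_mul, map_inv]; group
        _ = B.ψ (y' * stdGen 6 (0 : Fin 4) ^ j * y'⁻¹) := by rw [hc2.eq, mul_inv_cancel_right]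
    have h7 : d.φ jA ^ i = B.Φ (y' * stdGen 6 (0 : Fin 4) ^ j * y'⁻¹ * y⁻¹) := by
      refine (MulAut.conj (d.φ mH)).injective ?_
      show d.φ mH * d.φ jA ^ i * (d.φ mH)⁻¹ = B.ψ _
      rw [← conj_pow, ← B.e3_eq, map_mul B.ψ, map_inv B.ψ, ← h5, mul_inv_cancel_right]
    exact hne (by rw [B.e3_eq, conj_pow, (B.center_triv h7).2]; group)
  · have := hpow 4 hy
    rw [show i * 4 = 3 * i + i by ring, pow_add, pow_mul, H.f3, one_pow, one_mul] at this
    exact B.e3_not_mem i hi this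
  · exact B.e3_not_mem (i * 5) (fun h => hi ((show Nat.Coprime 3 5 by norm_num).dvd_of_dvd_mul_right h)) (hpow 5 hy)

/-- the three possibilities -/
theorem KU_cases : sA ∈ B.KU ∨ v0A ∈ B.KU ∨
    ∀ y ∈ B.KU, ∃ (i : Fin 3) (j : Fin 2), y = stdGen 6 (0 : Fin 4) ^ i.val * stdGen 6 (2 : Fin 4) ^ j.val := by
  obtain ⟨c0, c2, cs, cv, cb, cb2, -, x3, nb, nb2, bc, hS⟩ := six_coe
  set P := B.KU.map (alternatingGroup (Fin 6)).subtype
  have hmemP : ∀ {q : A6}, (q : P6) ∈ P → q ∈ B.KU := fun {q} ⟨r, hr, h⟩ => Subtype.ext h ▸ hr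
  by_cases h : ∀ y ∈ B.KU, (y : P6) ∈ S3six
  · refine Or.inr (Or.inr fun y hy => ?_)
    obtain ⟨i, j, hij⟩ := hS _ (h y hy)
    exact ⟨i, j, Subtype.ext hij⟩
  push Not at h
  obtain ⟨y, hy, hyS⟩ := h
  obtain hy' | ⟨s, hs, t, ht, e, he, hst⟩ := double_coset (y : P6) (Perm.mem_alternatingGroup.1 y.2)
  · exact absurd hy' hyS
  have hSP : ∀ p ∈ S3six, p ∈ P := fun p hp => by
    obtain ⟨i, j, rfl⟩ := hS p hp
    exact ⟨_, mul_mem (pow_mem B.gen0_mem _) (pow_mem B.gen2_mem _), rfl⟩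
  have hr : e.1 ∈ P := hst ▸ P.mul_mem (hSP s hs) (P.mul_mem ⟨y, hy, rfl⟩ (hSP t ht))
  have hw : word3 e.1 e.2 ∈ P := by
    refine list_prod_mem fun p hp => ?_
    obtain ⟨k, -, rfl⟩ := List.mem_map.1 hp
    fin_cases k
    · exact ⟨_, B.gen0_mem, c0⟩
    · exact ⟨_, B.gen2_mem, c2⟩
    · exact hr
  have ht' := word_hit e he
  simp only [targets, List.mem_cons, List.not_mem_nil, or_false] at ht'
  have bad : ∀ q : A6, q * stdGen 6 (0 : Fin 4) = stdGen 6 (0 : Fin 4) * q →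
      (∀ i : Fin 3, q ≠ stdGen 6 (0 : Fin 4) ^ i.val) → q ∉ B.KU := by
    intro q hqc hqn hq
    obtain ⟨i, hi⟩ := B.cent_a_K hq hqc
    exact hqn ⟨i % 3, Nat.mod_lt _ (by norm_num)⟩ (hi.trans (pow_eq_pow_mod i x3))
  rcases ht' with e1 | e1 | e1 | e1 <;> rw [e1] at hw
  · exact Or.inl (hmemP (cs ▸ hw))
  · exact Or.inr (Or.inl (hmemP (cv ▸ hw)))
  · exact absurd (hmemP (cb ▸ hw)) (bad _ bc nb)
  · exact absurd (hmemP (cb2 ▸ hw)) (bad _ ((show Commute xE3 _ from bc).mul_left bc) nb2)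

end Big

end Cfsg.Agent.Spor.AltNine
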