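import Cfsg.Agent.Lib.Spor.AltNine.Invol

/-!
Finite facts on six points and on the model used for the centraliser of a four-group.
-/

set_option autoImplicit false
set_option maxRecDepth 100000
set_option synthInstance.maxSize 8000
set_option synthInstance.maxHeartbeats 400000

namespace Cfsg.Agent.Spor.AltNine

open Equiv Subgroup Cfsg
open Cfsg.Agent.Solv.Special.W648

def v0A : A6 := mk6 (swap 0 1 * swap 2 5) (by simp)
def fB : A6 := mk6 (swap 0 2 * swap 2 4 * (swap 1 3 * swap 3 5)) (by simp)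

/-- the subgroup generated by the two known elements -/
def S3six : List P6 :=
  [1, swap 0 1 * swap 1 2, swap 0 1 * swap 1 2 * (swap 0 1 * swap 1 2), swap 0 1 * swap 3 4,
    swap 1 2 * swap 3 4, swap 0 2 * swap 3 4]

/-- representatives of the double cosets, with a word in the three elements -/
def reps : List (P6 × List (Fin 3)) :=
  [(swap 3 4 * swap 4 5, [2]),
   (swap 2 3 * swap 4 5, [0, 2, 0, 0, 2, 0]),
   (swap 2 3 * swap 3 4, [2, 1]),
   (swap 2 3 * swap 3 5, [1, 2, 2, 1, 2, 1]),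
   (swap 2 5 * swap 5 3, [1, 2, 1, 2, 2, 1]),
   (swap 2 5 * swap 3 4, [1, 2]),
   (swap 1 3 * swap 2 4, [0, 0, 2, 1, 2, 0]),
   (swap 1 3 * swap 3 2 * swap 2 4 * swap 4 5, [1, 2, 2, 1, 0, 2]),
   (swap 1 3 * swap 2 5, [2, 0, 0, 2, 0, 2]),
   (swap 1 3 * swap 3 2 * swap 2 5 * swap 5 4, [2, 0, 2, 2, 0, 1]),
   (swap 1 3 * swap 3 4 * swap 4 2 * swap 2 5, [0, 0, 2, 2, 2, 0, 2, 2]),
   (swap 0 3 * swap 1 4 * swap 4 2 * swap 2 5, [2, 0, 2, 2, 2])]

def word3 (r : P6) (w : List (Fin 3)) : P6 :=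
  (w.map ![swap 0 1 * swap 1 2, swap 0 1 * swap 3 4, r]).prod

/-- the elements sought -/
def targets : List P6 :=
  [swap 0 1 * swap 2 3, swap 0 1 * swap 2 5, swap 3 4 * swap 4 5, swap 4 5 * swap 3 4]

theorem word_hit : ∀ e ∈ reps, word3 e.1 e.2 ∈ targets := by decide +kernel

/-- the list of images -/
def img6 (p : P6) : List (Fin 6) := List.ofFn p

/-- the product of two lists of images -/
def mul6 (a b : List (Fin 6)) : List (Fin 6) := b.map fun i => a.getD i.val 0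

/-- the parity of the number of inversions -/
def even6 (l : List (Fin 6)) : Bool :=
  ((List.finRange 6).flatMap fun i => (List.finRange 6).filter fun j =>
    decide (i < j) && decide (l.getD j.val 0 < l.getD i.val 0)).length % 2 == 0

theorem get6 (p : P6) (i : Fin 6) : (img6 p).getD i.val 0 = p i := by
  rw [img6, List.getD, List.getElem?_eq_getElem (by simp), Option.getD_some, List.getElem_ofFn]

theorem mul6_img (p q : P6) : mul6 (img6 p) (img6 q) = img6 (p * q) := by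
  simp only [mul6, img6, List.map_ofFn]
  congr 1
  funext i
  exact get6 p (q i)

theorem img6_inj : Function.Injective img6 := fun p q h =>
  Equiv.ext fun i => by rw [← get6 p i, h, get6]

theorem even6_sign : ∀ p : P6, Perm.sign p = 1 → even6 (img6 p) = true := by decide +kernel

def S3img : List (List (Fin 6)) :=
  [[0, 1, 2, 3, 4, 5], [1, 2, 0, 3, 4, 5], [2, 0, 1, 3, 4, 5], [1, 0, 2, 4, 3, 5], [0, 2, 1, 4, 3, 5], [2, 1, 0, 4, 3, 5]]

def repsImg : List (List (Fin 6)) :=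
  [[0, 1, 2, 4, 5, 3], [0, 1, 3, 2, 5, 4], [0, 1, 3, 4, 2, 5], [0, 1, 3, 5, 4, 2], [0, 1, 5, 2, 4, 3], [0, 1, 5, 4, 3, 2], [0, 3, 4, 1, 2, 5], [0, 3, 4, 2, 5, 1], [0, 3, 5, 1, 4, 2], [0, 3, 5, 2, 1, 4], [0, 3, 5, 4, 2, 1], [3, 4, 5, 0, 2, 1]]

theorem img_eq : S3six.map img6 = S3img ∧ (reps.map fun e => img6 e.1) = repsImg := by decide +kernel

/-- the test on one permutation -/
def cosetTest (y : List (Fin 6)) : Bool :=
  !(even6 y) || S3img.any (fun s => s == y) ||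
    S3img.any fun s => S3img.any fun t => repsImg.any fun r => mul6 s (mul6 y t) == r

theorem coset_check0 : (((List.finRange 6).permutations'.filter fun y => y.getD 0 0 == 0).all cosetTest) = true := by
  decide +kernel

theorem coset_check1 : (((List.finRange 6).permutations'.filter fun y => y.getD 0 0 == 1).all cosetTest) = true := by
  decide +kernel

theorem coset_check2 : (((List.finRange 6).permutations'.filter fun y => y.getD 0 0 == 2).all cosetTest) = true := by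
  decide +kernel

theorem coset_check3 : (((List.finRange 6).permutations'.filter fun y => y.getD 0 0 == 3).all cosetTest) = true := by
  decide +kernel

theorem coset_check4 : (((List.finRange 6).permutations'.filter fun y => y.getD 0 0 == 4).all cosetTest) = true := by
  decide +kernel

theorem coset_check5 : (((List.finRange 6).permutations'.filter fun y => y.getD 0 0 == 5).all cosetTest) = true := by
  decide +kernel

theorem coset_check (y : List (Fin 6)) (hy : y ∈ (List.finRange 6).permutations') : cosetTest y = true := by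
  have hk : ∀ k : Fin 6, k = 0 ∨ k = 1 ∨ k = 2 ∨ k = 3 ∨ k = 4 ∨ k = 5 := by decide
  rcases hk (y.getD 0 0) with h | h | h | h | h | h
  exacts [List.all_eq_true.1 coset_check0 y (List.mem_filter.2 ⟨hy, beq_iff_eq.2 h⟩),
    List.all_eq_true.1 coset_check1 y (List.mem_filter.2 ⟨hy, beq_iff_eq.2 h⟩),
    List.all_eq_true.1 coset_check2 y (List.mem_filter.2 ⟨hy, beq_iff_eq.2 h⟩),
    List.all_eq_true.1 coset_check3 y (List.mem_filter.2 ⟨hy, beq_iff_eq.2 h⟩),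
    List.all_eq_true.1 coset_check4 y (List.mem_filter.2 ⟨hy, beq_iff_eq.2 h⟩),
    List.all_eq_true.1 coset_check5 y (List.mem_filter.2 ⟨hy, beq_iff_eq.2 h⟩)]

theorem double_coset (y : P6) (hy : Perm.sign y = 1) : y ∈ S3six ∨
    ∃ s ∈ S3six, ∃ t ∈ S3six, ∃ e ∈ reps, s * (y * t) = e.1 := by
  have hmem : img6 y ∈ (List.finRange 6).permutations' := by
    rw [List.mem_permutations', img6, List.ofFn_eq_map]
    exact y.map_finRange_perm
  have h := coset_check _ hmem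
  simp only [cosetTest, ← img_eq.1, ← img_eq.2, even6_sign y hy, Bool.not_true, Bool.false_or, Bool.or_eq_true, List.any_eq_true,
    List.mem_map, beq_iff_eq] at h
  rcases h with ⟨_, ⟨s, hs, rfl⟩, hsy⟩ | ⟨_, ⟨s, hs, rfl⟩, _, ⟨t, ht, rfl⟩, _, ⟨e, he, rfl⟩, h⟩
  · exact Or.inl (img6_inj hsy ▸ hs)
  · rw [mul6_img, mul6_img] at h
    exact Or.inr ⟨s, hs, t, ht, e, he, img6_inj h⟩

theorem six_coe : ((stdGen 6 (0 : Fin 4) : A6) : P6) = swap 0 1 * swap 1 2 ∧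
    ((stdGen 6 (2 : Fin 4) : A6) : P6) = swap 0 1 * swap 3 4 ∧ (sA : P6) = swap 0 1 * swap 2 3 ∧
    (v0A : P6) = swap 0 1 * swap 2 5 ∧ (xE3 : P6) = swap 3 4 * swap 4 5 ∧
    ((xE3 * xE3 : A6) : P6) = swap 4 5 * swap 3 4 ∧
    S3six.Nodup ∧ stdGen 6 (0 : Fin 4) ^ 3 = 1 ∧ (∀ i : Fin 3, xE3 ≠ stdGen 6 (0 : Fin 4) ^ i.val) ∧
    (∀ i : Fin 3, xE3 * xE3 ≠ stdGen 6 (0 : Fin 4) ^ i.val) ∧
    xE3 * stdGen 6 (0 : Fin 4) = stdGen 6 (0 : Fin 4) * xE3 ∧
    (∀ p ∈ S3six, ∃ (i : Fin 3) (j : Fin 2),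
      p = ((stdGen 6 (0 : Fin 4) ^ i.val * stdGen 6 (2 : Fin 4) ^ j.val : A6) : P6)) := by
  decide +kernel

theorem u_facts : u1A * u1A = 1 ∧ u2A * u2A = 1 ∧ u1A * u2A = u2A * u1A ∧
    (∀ y : A6, y * u1A = u1A * y → y * u2A = u2A * y → y ∈ [1, u1A, u2A, u1A * u2A]) ∧
    (∀ y ∈ [u1A, u2A, u1A * u2A], y * xE3 ≠ xE3 * y ∧ y * (xE3 * xE3) ≠ xE3 * xE3 * y) ∧
    xE3 * u1A * xE3⁻¹ ∈ [u1A, u2A, u1A * u2A] ∧ xE3 * u2A * xE3⁻¹ ∈ [u1A, u2A, u1A * u2A] := by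
  decide +kernel

theorem s_facts : sA * sA = 1 ∧ u1A * sA = sA * u1A ∧ sA * u2A * sA⁻¹ = u1A * u2A ∧
    sA * u1A * sA⁻¹ = u1A ∧
    (∀ y : A6, y * u1A = u1A * y → y * sA = sA * y → y ∈ [1, u1A, sA, u1A * sA]) ∧
    fB * u1A * fB⁻¹ ∈ [u1A, sA, u1A * sA] ∧ fB * sA * fB⁻¹ ∈ [u1A, sA, u1A * sA] ∧
    (fB ^ 3 = 1 ∧ fB ≠ 1) ∧ (∃ y : A6, y * (stdGen 6 (0 : Fin 4) * xE3) * y⁻¹ = fB) := by
  decide +kernel

theorem v0_facts : v0A * v0A = 1 ∧ v0A ≠ 1 ∧ v0A * stdGen 6 (2 : Fin 4) = stdGen 6 (2 : Fin 4) * v0A ∧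
    v0A * stdGen 6 (0 : Fin 4) ≠ stdGen 6 (0 : Fin 4) * v0A ∧
    v0A * (stdGen 6 (0 : Fin 4) * v0A * (stdGen 6 (0 : Fin 4))⁻¹) =
      stdGen 6 (0 : Fin 4) * v0A * (stdGen 6 (0 : Fin 4))⁻¹ * v0A ∧
    stdGen 6 (0 : Fin 4) * stdGen 6 (0 : Fin 4) * v0A * (stdGen 6 (0 : Fin 4) * stdGen 6 (0 : Fin 4))⁻¹ =
      v0A * (stdGen 6 (0 : Fin 4) * v0A * (stdGen 6 (0 : Fin 4))⁻¹) ∧
    (∀ y : A6, y * y = 1 → y ≠ 1 → y * stdGen 6 (2 : Fin 4) = stdGen 6 (2 : Fin 4) * y →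
      y * (stdGen 6 (0 : Fin 4) * y * (stdGen 6 (0 : Fin 4))⁻¹) =
        stdGen 6 (0 : Fin 4) * y * (stdGen 6 (0 : Fin 4))⁻¹ * y → y = v0A) := by
  decide +kernel

def jX : M648 := jA * mE3
def jY : M648 := jA * (mE3 * mE3)
def jP : M648 := jA * jB23
def jQ : M648 := jA * (jB23 * jB23)

theorem mix_facts : rot jX ∧ jX ≠ 1 ∧ centCard jX = 54 ∧ rot jY ∧ jY ≠ 1 ∧ centCard jY = 54 ∧
    rot jP ∧ jP ≠ 1 ∧ centCard jP ≠ 108 ∧ rot jQ ∧ jQ ≠ 1 ∧ centCard jQ ≠ 108 := by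
  decide +kernel

theorem cent_XY : ∀ m : M648, (m * jX = jX * m ∨ m * jY = jY * m) → m ^ 18 = 1 ∧
    (m * m = 1 → m = 1 ∨ m * jA * m⁻¹ = mE3 ∨ m * jA * m⁻¹ = mE3 * mE3) := by
  decide +kernel

theorem cent_PQ : ∀ m : M648, (m * jP = jP * m ∨ m * jQ = jQ * m) → m ^ 9 = 1 := by
  decide +kernel

theorem cent_B23 : ∀ m : M648, m * jB23 = jB23 * m → m ^ 18 = 1 := by
  decide +kernel

theorem cent_B23_pair : ∀ m : M648, m * jB23 = jB23 * m → m * m = 1 → ∀ n : M648, n * jB23 = jB23 * n →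
    n * n = 1 → m * n * (m * n) = 1 → m = 1 ∨ n = 1 ∨ m = n := by
  decide +kernel

end Cfsg.Agent.Spor.AltNine
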